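import Groth.Agent.Sga3C.DDLocal

/-!
# Effectivity of descent data: refinement of families and local character on the base
-/

set_option autoImplicit false
set_option backward.defeqAttrib.useBackward true

universe t t' t'' v' v u' u w

namespace Groth.Agent.Sga3C.DDEff

open CategoryTheory Limits Opposite Bicategory Pseudofunctor Pseudofunctor.DescentData
open Pseudofunctor.LocallyDiscreteOpToCat
open Groth.Agent.Sga3C.DDGlue Groth.Agent.Sga3C.DDLocal

theorem nonempty_iso_of_map {A B : Type*} [Category A] [Category B] (G : A ⥤ B) {X Y : A}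
    (hXX : Function.Injective (G.map : (X ⟶ X) → _))
    (hYY : Function.Injective (G.map : (Y ⟶ Y) → _))
    (hXY : Function.Surjective (G.map : (X ⟶ Y) → _))
    (hYX : Function.Surjective (G.map : (Y ⟶ X) → _)) (e : G.obj X ≅ G.obj Y) :
    Nonempty (X ≅ Y) := by
  obtain ⟨a, ha⟩ := hXY e.hom
  obtain ⟨b, hb⟩ := hYX e.inv
  exact ⟨{ hom := a
           inv := b
           hom_inv_id := hXX (by rw [G.map_comp, ha, hb, e.hom_inv_id, G.map_id])
           inv_hom_id := hYY (by rw [G.map_comp, ha, hb, e.inv_hom_id, G.map_id]) }⟩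

variable {C : Type u} [Category.{v} C] (F : LocallyDiscrete Cᵒᵖ ⥤ᵖ Cat.{v', u'})

/-- A class of objects, stable under isomorphisms and pullback, for which homomorphisms form sheaves
for the topology `J`. -/
structure SheafClass (J : GrothendieckTopology C) where
  /-- the property of objects -/
  P (X : C) : F.obj (.mk (op X)) → Prop
  map {X Y : C} (h : Y ⟶ X) (M : F.obj (.mk (op X))) (hM : P X M) :
    P Y ((F.map h.op.toLoc).toFunctor.obj M)
  iso {X : C} {M N : F.obj (.mk (op X))} (e : M ≅ N) (hM : P X M) : P X N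
  isSheaf {X : C} (M N : F.obj (.mk (op X))) (hM : P X M) (hN : P X N) :
    Presheaf.IsSheaf (J.over X) (F.presheafHom M N)

variable {F} {J : GrothendieckTopology C} (Q : SheafClass F J)
  {ι : Type t} {S : C} {X : ι → C} {f : ∀ i, X i ⟶ S}

/-- A descent datum is effective (by an object of the class). -/
def SheafClass.IsEffective (D : F.DescentData f) : Prop :=
  ∃ M : F.obj (.mk (op S)), Q.P S M ∧ Nonempty ((F.toDescentData f).obj M ≅ D)

/-- All descent data in the class relative to `f` are effective. -/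
def SheafClass.Effective (f : ∀ i, X i ⟶ S) : Prop :=
  ∀ D : F.DescentData f, (∀ i, Q.P _ (D.obj i)) → Q.IsEffective D

set_option backward.isDefEq.respectTransparency false in
/-- pulling back `toDescentData M` to a refinement -/
noncomputable def pullToDD {ι' : Type t'} {X' : ι' → C} {f' : ∀ j, X' j ⟶ S}
    {α : ι' → ι} {p' : ∀ j, X' j ⟶ X (α j)} (w : ∀ j, p' j ≫ f (α j) = f' j ≫ 𝟙 S)
    (M : F.obj (.mk (op S))) :
    (pullFunctor F (p := 𝟙 S) (f := f) (f' := f') (p' := p') w).obj ((F.toDescentData f).obj M) ≅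
      (F.toDescentData f').obj M :=
  (toDescentDataCompPullFunctorIso F w).app M ≪≫
    (F.toDescentData f').mapIso ((Cat.Hom.toNatIso (F.mapId (.mk (op S)))).app M)

section refine

variable {ι' : Type t'} {X' : ι' → C} {f' : ∀ j, X' j ⟶ S}
    {α : ι' → ι} {p' : ∀ j, X' j ⟶ X (α j)} (w : ∀ j, p' j ≫ f (α j) = f' j)
    (hf' : Sieve.ofArrows X' f' ∈ J S)

include w hf' in
theorem SheafClass.nonempty_iso_of_pull {D₁ D₂ : F.DescentData f} (h₁ : ∀ i, Q.P _ (D₁.obj i))
    (h₂ : ∀ i, Q.P _ (D₂.obj i))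
    (e : (pullFunctor F (p := 𝟙 S) (f := f) (f' := f') (p' := p') (by cat_disch)).obj D₁ ≅
      (pullFunctor F (p := 𝟙 S) (f := f) (f' := f') (p' := p') (by cat_disch)).obj D₂) :
    Nonempty (D₁ ≅ D₂) :=
  nonempty_iso_of_map _
    (DDFull.bijective_pullFunctor w hf' (fun i => Q.isSheaf _ _ (h₁ i) (h₁ i))).1
    (DDFull.bijective_pullFunctor w hf' (fun i => Q.isSheaf _ _ (h₂ i) (h₂ i))).1
    (DDFull.bijective_pullFunctor w hf' (fun i => Q.isSheaf _ _ (h₁ i) (h₂ i))).2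
    (DDFull.bijective_pullFunctor w hf' (fun i => Q.isSheaf _ _ (h₂ i) (h₁ i))).2 e

include w hf' in
/-- effectivity may be checked after refining the family. -/
theorem SheafClass.IsEffective.of_refine {D : F.DescentData f} (hD : ∀ i, Q.P _ (D.obj i))
    (h : Q.IsEffective
      ((pullFunctor F (p := 𝟙 S) (f := f) (f' := f') (p' := p') (by cat_disch)).obj D)) :
    Q.IsEffective D := by
  obtain ⟨M, hM, ⟨e⟩⟩ := h
  have h2 : Nonempty ((F.toDescentData f).obj M ≅ D) := Q.nonempty_iso_of_pull w hf'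
    (fun i => Q.map _ _ hM) hD
    (pullToDD (by cat_disch) M ≪≫ e)
  exact ⟨M, hM, h2⟩

include w hf' in
theorem SheafClass.Effective.of_refine (h : Q.Effective f') : Q.Effective f := by
  intro D hD
  refine SheafClass.IsEffective.of_refine Q w hf' hD (h _ ?_)
  intro j
  exact Q.map _ _ (hD _)

end refine

section locality

variable {κ : Type t'} {U : κ → C} {g : ∀ j, U j ⟶ S} {V : κ → ι → C} {v : ∀ j i, V j i ⟶ U j}
  {p : ∀ j i, V j i ⟶ X i} (hpb : ∀ j i, IsPullback (p j i) (v j i) (f i) (g j))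

include hpb in
theorem ofArrows_mem (hf : Sieve.ofArrows X f ∈ J S) (hg : Sieve.ofArrows U g ∈ J S) :
    Sieve.ofArrows (fun (k : κ × ι) => V k.1 k.2) (fun k => v k.1 k.2 ≫ g k.1) ∈ J S := by
  refine J.superset_covering ?_ (J.intersection_covering hf hg)
  rintro Z z ⟨⟨_, a, _, ⟨i⟩, ha⟩, ⟨_, b, _, ⟨j⟩, hb⟩⟩
  refine ⟨_, (hpb j i).lift a b (ha.trans hb.symm), _, ⟨(j, i)⟩, ?_⟩
  dsimp only
  rw [IsPullback.lift_snd_assoc, hb]

set_option backward.isDefEq.respectTransparency false in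
/-- comparison of the glued datum with the original one on the common refinement. -/
noncomputable def gluedIso (hf : Sieve.ofArrows X f ∈ J S) {D : F.DescentData f}
    {M : ∀ j, F.obj (.mk (op (U j)))}
    (A : ∀ j, Eff D (g j) (M j))
    (hsh : ∀ ⦃Y : C⦄ (j k : κ) (a : Y ⟶ U j) (b : Y ⟶ U k), Presheaf.IsSheaf (J.over Y)
      (F.presheafHom ((F.map a.op.toLoc).toFunctor.obj (M j))
        ((F.map b.op.toLoc).toFunctor.obj (M k)))) :
    (pullFunctor F (p := 𝟙 S) (f := g) (f' := fun k : κ × ι => v k.1 k.2 ≫ g k.1)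
      (α := Prod.fst) (p' := fun k => v k.1 k.2) (fun _ => (Category.comp_id _).symm)).obj
      (glued hf A hsh) ≅
    (pullFunctor F (p := 𝟙 S) (f := f) (f' := fun k : κ × ι => v k.1 k.2 ≫ g k.1)
      (α := Prod.snd) (p' := fun k => p k.1 k.2)
      (fun k => ((hpb k.1 k.2).w).trans (Category.comp_id _).symm)).obj D :=
  isoMk (fun k => (A k.1).ε (v k.1 k.2) (v k.1 k.2 ≫ g k.1) (p k.1 k.2) rfl (hpb k.1 k.2).w) (by
    rintro Y q ⟨j, i⟩ ⟨k, l⟩ w₁ w₂ hw₁ hw₂
    dsimp only at w₁ w₂ hw₁ hw₂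
    have e₁ : (w₁ ≫ p j i) ≫ f i = q := by rw [Category.assoc, (hpb j i).w, hw₁]
    have e₂ : (w₂ ≫ p k l) ≫ f l = q := by rw [Category.assoc, (hpb k l).w, hw₂]
    have d₁ : (w₁ ≫ v j i) ≫ g j = q := by rw [Category.assoc, hw₁]
    have d₂ : (w₂ ≫ v k l) ≫ g k = q := by rw [Category.assoc, hw₂]
    have h1 := pullFunctor_hom (α := Prod.fst) (f := g) (f' := fun k : κ × ι => v k.1 k.2 ≫ g k.1)
      (p' := fun k => v k.1 k.2) (fun _ => (Category.comp_id _).symm) (glued hf A hsh) q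
      (j₁ := (j, i)) (j₂ := (k, l)) w₁ w₂ q (w₁ ≫ v j i) (w₂ ≫ v k l) hw₁ hw₂
      rfl rfl d₁ d₂
    have h2 := pullFunctor_hom (α := Prod.snd) (f := f) (f' := fun k : κ × ι => v k.1 k.2 ≫ g k.1)
      (p' := fun k => p k.1 k.2)
      (fun k => ((hpb k.1 k.2).w).trans (Category.comp_id _).symm) D q
      (j₁ := (j, i)) (j₂ := (k, l)) w₁ w₂ q (w₁ ≫ p j i) (w₂ ≫ p k l) hw₁ hw₂
      rfl rfl e₁ e₂
    have h3 := map_eq ((A j).ε (v j i) (v j i ≫ g j) (p j i) rfl (hpb j i).w).hom w₁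
      (w₁ ≫ v j i) (w₁ ≫ p j i) rfl rfl
    have h4 := map_eq ((A k).ε (v k l) (v k l ≫ g k) (p k l) rfl (hpb k l).w).hom w₂
      (w₂ ≫ v k l) (w₂ ≫ p k l) rfl rfl
    rw [(A j).pull w₁ (v j i) (v j i ≫ g j) (p j i) rfl (hpb j i).w (w₁ ≫ v j i) q (w₁ ≫ p j i)
      rfl rfl d₁ e₁] at h3
    rw [(A k).pull w₂ (v k l) (v k l ≫ g k) (p k l) rfl (hpb k l).w (w₂ ≫ v k l) q (w₂ ≫ p k l)
      rfl rfl d₂ e₂] at h4
    refine (congrArg₂ (fun a b => a ≫ b) h3 h2).trans ?_
    refine Eq.trans ?_ (congrArg₂ (fun a b => a ≫ b) h1 h4).symm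
    have h5 := (A j).compat (w₁ ≫ v j i) q (w₁ ≫ p j i) (w₂ ≫ p k l) d₁ e₁ e₂
    have h6 : (glued hf A hsh).hom q (w₁ ≫ v j i) (w₂ ≫ v k l) d₁ d₂ ≫
        ((A k).ε (w₂ ≫ v k l) q (w₂ ≫ p k l) d₂ e₂).hom =
        ((A j).ε (w₁ ≫ v j i) q (w₂ ≫ p k l) d₁ e₂).hom := by
      have h7 := glueHom_spec hf (A j) (A k) (w₁ ≫ v j i) (w₂ ≫ v k l) q d₁ d₂
        (hsh j k (w₁ ≫ v j i) (w₂ ≫ v k l)) (𝟙 Y) (w₁ ≫ v j i) (w₂ ≫ v k l) q (w₂ ≫ p k l) e₂
        (Category.id_comp _) (Category.id_comp _) d₁ d₂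
      rw [pullHom_id] at h7
      exact h7
    dsimp only
    simp only [Category.assoc, cHom_cInv_assoc]
    rw [← Category.assoc (((A j).ε (w₁ ≫ v j i) q (w₁ ≫ p j i) d₁ e₁).hom), h5, ← h6]
    simp only [Category.assoc]
    change _ = cInv (v j i) w₁ (w₁ ≫ v j i) rfl (M j) ≫
      (glued hf A hsh).hom q (w₁ ≫ v j i) (w₂ ≫ v k l) d₁ d₂ ≫
        cHom (v k l) w₂ (w₂ ≫ v k l) rfl (M k) ≫ cInv (v k l) w₂ (w₂ ≫ v k l) rfl (M k) ≫
          ((A k).ε (w₂ ≫ v k l) q (w₂ ≫ p k l) d₂ e₂).hom ≫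
            cHom (p k l) w₂ (w₂ ≫ p k l) rfl (D.obj l)
    rw [cHom_cInv_assoc])

include hpb in
/-- **Local character of effectivity.** If all descent data in the class relative to the covering
family `g : U j ⟶ S` are effective, then a descent datum `D` in the class relative to the covering
family `f` is effective as soon as its restrictions to all `U j` are effective. -/
theorem SheafClass.IsEffective.of_local (hf : Sieve.ofArrows X f ∈ J S)
    (hg : Sieve.ofArrows U g ∈ J S) (hgeff : Q.Effective g) {D : F.DescentData f}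
    (hD : ∀ i, Q.P _ (D.obj i))
    (hloc : ∀ j, Q.IsEffective ((pullFunctor F (p := g j) (α := fun i => i) (f := f) (f' := v j)
      (p' := p j) (fun i => (hpb j i).w)).obj D)) : Q.IsEffective D := by
  choose M hM e using hloc
  let A : ∀ j, Eff D (g j) (M j) := fun j => Eff.ofIso D (hpb j) (M j) (e j).some
  have hsh : ∀ ⦃Y : C⦄ (j k : κ) (a : Y ⟶ U j) (b : Y ⟶ U k), Presheaf.IsSheaf (J.over Y)
      (F.presheafHom ((F.map a.op.toLoc).toFunctor.obj (M j))
        ((F.map b.op.toLoc).toFunctor.obj (M k))) :=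
    fun Y j k a b => Q.isSheaf _ _ (Q.map _ _ (hM j)) (Q.map _ _ (hM k))
  obtain ⟨N, hN, ⟨eN⟩⟩ := hgeff (glued hf A hsh) hM
  have key := Q.nonempty_iso_of_pull (f := f)
    (f' := fun k : κ × ι => v k.1 k.2 ≫ g k.1)
      (α := Prod.snd) (p' := fun k => p k.1 k.2)
      (fun k => ((hpb k.1 k.2).w)) (ofArrows_mem hpb hf hg)
      (D₁ := (F.toDescentData f).obj N) (D₂ := D) (fun i => Q.map _ _ hN) hD
      (pullToDD _ N ≪≫ (pullToDD (f := g) (f' := fun k : κ × ι => v k.1 k.2 ≫ g k.1)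
      (α := Prod.fst) (p' := fun k => v k.1 k.2) (fun _ => (Category.comp_id _).symm) N).symm ≪≫
      (pullFunctor F (p := 𝟙 S) (f := g) (f' := fun k : κ × ι => v k.1 k.2 ≫ g k.1)
      (α := Prod.fst) (p' := fun k => v k.1 k.2) (fun _ => (Category.comp_id _).symm)).mapIso eN ≪≫
      gluedIso hpb hf A hsh)
  exact ⟨N, hN, key⟩

include hpb in
theorem SheafClass.Effective.of_local (hf : Sieve.ofArrows X f ∈ J S)
    (hg : Sieve.ofArrows U g ∈ J S) (hgeff : Q.Effective g) (hloc : ∀ j, Q.Effective (v j)) :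
    Q.Effective f := by
  intro D hD
  refine SheafClass.IsEffective.of_local Q hpb hf hg hgeff hD (fun j => hloc j _ ?_)
  intro i
  exact Q.map _ _ (hD i)

end locality

end Groth.Agent.Sga3C.DDEff
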