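import Mathlib.AlgebraicGeometry.Geometrically.Reduced
import Mathlib.AlgebraicGeometry.IdealSheaf.Functorial
import Mathlib.AlgebraicGeometry.Morphisms.ClosedImmersion
import Mathlib.RingTheory.TensorProduct.Free
import Mathlib.LinearAlgebra.Dimension.Constructions

/-!
# Geometrically reduced schemes over a field

* `isReduced_tensor_of_jointly_injective`
* `isReduced_pullback` : over a field, (geometrically reduced) × reduced is reduced, without any
  finiteness hypothesis;
* `geometricallyReduced_of_dominated`
* `geometricallyReduced_image` : the closed image of a geometrically reduced scheme (no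
  quasi-compactness hypothesis) is geometrically reduced.
-/

set_option autoImplicit false
universe u v w

open CategoryTheory AlgebraicGeometry Limits TensorProduct

namespace Groth.Agent.Sga3C.GeomRed

section algebra

variable {k : Type u} [Field k] {B : Type v} [CommRing B] [Algebra k B]

/-- over a field, joint injectivity of a family of algebra maps `B → C j` is preserved by `· ⊗ D` -/
lemma jointly_injective_tensor {ι : Type*} (C : ι → Type w) [∀ j, CommRing (C j)]
    [∀ j, Algebra k (C j)] (φ : ∀ j, B →ₐ[k] C j) (hφ : ∀ b, (∀ j, φ j b = 0) → b = 0)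
    (D : Type*) [CommRing D] [Algebra k D] (x : B ⊗[k] D)
    (hx : ∀ j, Algebra.TensorProduct.map (φ j) (AlgHom.id k D) x = 0) : x = 0 := by
  let b := Module.Basis.ofVectorSpace k D
  have key : ∀ (j : ι) (y : B ⊗[k] D) (i : _),
      (Algebra.TensorProduct.basis (C j) b).repr
        (Algebra.TensorProduct.map (φ j) (AlgHom.id k D) y) i =
      φ j ((Algebra.TensorProduct.basis B b).repr y i) := by
    intro j y i
    induction y using TensorProduct.induction_on with
    | zero => simp
    | tmul c d =>
      simp [Algebra.TensorProduct.basis_repr_tmul]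
    | add y z hy hz => simp only [map_add, Finsupp.add_apply, hy, hz]
  apply (Algebra.TensorProduct.basis B b).repr.injective
  ext i
  rw [map_zero, Finsupp.zero_apply]
  apply hφ
  intro j
  rw [← key, hx, map_zero, Finsupp.zero_apply]

lemma isReduced_tensor_of_jointly_injective {ι : Type*} (C : ι → Type w) [∀ j, CommRing (C j)]
    [∀ j, Algebra k (C j)] (φ : ∀ j, B →ₐ[k] C j) (hφ : ∀ b, (∀ j, φ j b = 0) → b = 0)
    (D : Type*) [CommRing D] [Algebra k D] (hred : ∀ j, IsReduced (C j ⊗[k] D)) :
    IsReduced (B ⊗[k] D) := by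
  constructor
  intro x hx
  apply jointly_injective_tensor C φ hφ D
  intro j
  have := hred j
  exact (hx.map (Algebra.TensorProduct.map (φ j) (AlgHom.id k D))).eq_zero

end algebra

section scheme

variable {X Y S : Scheme.{u}}

lemma geometricallyReduced_comp_of_isOpenImmersion (j : X ⟶ Y) [IsOpenImmersion j] (f : Y ⟶ S)
    [hf : GeometricallyReduced f] : GeometricallyReduced (j ≫ f) := by
  refine ⟨fun K _ y Z fst snd h ↦ ?_⟩
  have := hf.geometrically_isReduced y (pullback.fst f y) (pullback.snd f y) (.of_hasPullback _ _)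
  let p : Z ⟶ pullback f y := pullback.lift (fst ≫ j) snd (by simpa using h.w)
  have h1 : IsPullback fst p j (pullback.fst f y) := by
    refine IsPullback.of_bot (v₂₂ := f) (h₃₁ := y) (v₂₁ := pullback.snd f y) ?_ ?_
      (.of_hasPullback _ _)
    · rw [show p ≫ pullback.snd f y = snd from pullback.lift_snd _ _ _]; exact h
    · exact (pullback.lift_fst _ _ _).symm
  have : IsOpenImmersion p := MorphismProperty.of_isPullback h1 ‹_›
  exact isReduced_of_isOpenImmersion p

lemma geometricallyReduced_of_openCover (f : X ⟶ S) (𝒰 : X.OpenCover)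
    (H : ∀ i, GeometricallyReduced (𝒰.f i ≫ f)) : GeometricallyReduced f := by
  refine ⟨fun K _ y Z fst snd h ↦ ?_⟩
  have : ∀ i, IsReduced ((𝒰.pullback₁ fst).X i) := by
    intro i
    refine (H i).geometrically_isReduced y (pullback.snd fst (𝒰.f i))
      (pullback.fst fst (𝒰.f i) ≫ snd) ?_
    exact (IsPullback.of_hasPullback fst (𝒰.f i)).flip.paste_vert h
  exact IsReduced.of_openCover Z (𝒰.pullback₁ fst)

variable {k : Type u} [Field k]

lemma geometricallyReduced_spec_iff (B : Type u) [CommRing B] [Algebra k B] :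
    GeometricallyReduced (Spec.map (CommRingCat.ofHom (algebraMap k B))) ↔
      ∀ (K : Type u) [Field K] [Algebra k K], _root_.IsReduced (B ⊗[k] K) := by
  rw [geometricallyReduced_iff,
    geometrically_iff_of_commRing_of_isClosedUnderIsomorphisms (P := fun X ↦ IsReduced X)]
  refine forall_congr' fun K ↦ forall_congr' fun _ ↦ forall_congr' fun _ ↦ ?_
  rw [← affine_isReduced_iff (.of (B ⊗[k] K))]
  constructor
  · intro _
    exact isReduced_of_isOpenImmersion (pullbackSpecIso k B K).inv
  · intro _
    exact isReduced_of_isOpenImmersion (pullbackSpecIso k B K).hom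

lemma geometricallyReduced_iso_comp_iff (e : X ⟶ Y) [IsIso e] (f : Y ⟶ S) :
    GeometricallyReduced (e ≫ f) ↔ GeometricallyReduced f := by
  constructor
  · intro h
    have := geometricallyReduced_comp_of_isOpenImmersion (inv e) (e ≫ f)
    simpa using this
  · intro h
    exact geometricallyReduced_comp_of_isOpenImmersion e f

/-- A `k`-scheme `X` dominated (in the sense of injectivity of `Γ(X, U i) → Γ(T, h⁻¹ U i)` for an
affine open cover `U i`) by a geometrically reduced scheme `T` is geometrically reduced.
No quasi-compactness of `h` is needed. -/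
lemma geometricallyReduced_of_dominated {T : Scheme.{u}} (f : X ⟶ Spec (.of k)) (h : T ⟶ X)
    [hT : GeometricallyReduced (h ≫ f)] {ι : Type u} (U : ι → X.Opens) (hU : TopologicalSpace.IsOpenCover U)
    (hUa : ∀ i, IsAffineOpen (U i)) (hinj : ∀ i, Function.Injective (h.app (U i)).hom) :
    GeometricallyReduced f := by
  refine geometricallyReduced_of_openCover f (X.openCoverOfIsOpenCover U hU) fun i ↦ ?_
  change GeometricallyReduced ((U i).ι ≫ f)
  rw [← (hUa i).isoSpec_hom_fromSpec, Category.assoc, geometricallyReduced_iso_comp_iff]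
  obtain ⟨φ, hφ⟩ := Spec.map_surjective ((hUa i).fromSpec ≫ f)
  rw [← hφ]
  algebraize [φ.hom]
  rw [show φ = CommRingCat.ofHom (algebraMap k Γ(X, U i)) from rfl, geometricallyReduced_spec_iff]
  intro K _ _
  -- the family of affine opens of `h ⁻¹ᵁ U i`
  let J := {W : T.Opens // IsAffineOpen W ∧ W ≤ h ⁻¹ᵁ (U i)}
  let _ : ∀ W : J, Algebra k Γ(T, W.1) := fun W ↦
    (φ ≫ h.appLE (U i) W.1 W.2.2).hom.toAlgebra
  let ψ : ∀ W : J, Γ(X, U i) →ₐ[k] Γ(T, W.1) := fun W ↦
    { toRingHom := (h.appLE (U i) W.1 W.2.2).hom, commutes' := fun _ ↦ rfl }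
  refine isReduced_tensor_of_jointly_injective (fun W : J ↦ Γ(T, W.1)) ψ ?_ K ?_
  · intro b hb
    apply hinj i
    rw [map_zero]
    refine TopCat.Sheaf.eq_of_locally_eq' T.sheaf (U := fun W : J ↦ W.1) (h ⁻¹ᵁ (U i))
      (fun W ↦ homOfLE W.2.2) ?_ _ _ ?_
    · intro x hx
      obtain ⟨_, ⟨W, hW, rfl⟩, hxW, hWU⟩ :=
        T.isBasis_affineOpens.exists_subset_of_mem_open hx (h ⁻¹ᵁ (U i)).isOpen
      exact TopologicalSpace.Opens.mem_iSup.mpr ⟨⟨W, hW, hWU⟩, hxW⟩
    · intro W
      exact (hb W).trans (map_zero (T.presheaf.map (homOfLE W.2.2).op).hom).symm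
  · intro W
    have h1 : GeometricallyReduced (W.2.1.fromSpec ≫ (h ≫ f)) :=
      geometricallyReduced_comp_of_isOpenImmersion _ _
    rw [← Category.assoc, ← IsAffineOpen.SpecMap_appLE_fromSpec h (hUa i) W.2.1 W.2.2,
      Category.assoc, ← hφ, ← Spec.map_comp] at h1
    exact (geometricallyReduced_spec_iff (k := k) Γ(T, W.1)).mp h1 K

lemma isReduced_pullback_spec (A B : Type u) [CommRing A] [CommRing B] [Algebra k A] [Algebra k B]
    (hA : GeometricallyReduced (Spec.map (CommRingCat.ofHom (algebraMap k A))))
    [_root_.IsReduced B] :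
    IsReduced (pullback (Spec.map (CommRingCat.ofHom (algebraMap k A)))
      (Spec.map (CommRingCat.ofHom (algebraMap k B)))) := by
  rw [geometricallyReduced_spec_iff] at hA
  have h1 : _root_.IsReduced (B ⊗[k] A) := by
    refine isReduced_tensor_of_jointly_injective
      (fun p : PrimeSpectrum B ↦ FractionRing (B ⧸ p.asIdeal))
      (fun p ↦ (IsScalarTower.toAlgHom k (B ⧸ p.asIdeal) _).comp (Ideal.Quotient.mkₐ k p.asIdeal))
      ?_ A ?_
    · intro b hb
      have : b ∈ nilradical B := by
        rw [nilradical_eq_sInf, Submodule.mem_sInf]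
        intro p hp
        have := hb ⟨p, hp⟩
        have hinj : Function.Injective (algebraMap (B ⧸ p) (FractionRing (B ⧸ p))) :=
          IsFractionRing.injective _ _
        rw [← Ideal.Quotient.eq_zero_iff_mem]
        apply hinj
        rw [map_zero]
        exact this
      rwa [nilradical_eq_zero, Ideal.zero_eq_bot, Ideal.mem_bot] at this
    · intro p
      have := hA (FractionRing (B ⧸ p.asIdeal))
      exact isReduced_of_injective (Algebra.TensorProduct.comm k _ A)
        (Algebra.TensorProduct.comm k _ A).injective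
  have h2 : _root_.IsReduced (A ⊗[k] B) :=
    isReduced_of_injective (Algebra.TensorProduct.comm k A B)
        (Algebra.TensorProduct.comm k A B).injective
  have : IsReduced (Spec (.of (A ⊗[k] B))) := (affine_isReduced_iff _).mpr h2
  exact isReduced_of_isOpenImmersion (pullbackSpecIso k A B).hom

lemma isReduced_pullback_spec' {A B : CommRingCat.{u}} (a : Spec A ⟶ Spec (.of k))
    (b : Spec B ⟶ Spec (.of k)) (ha : GeometricallyReduced a) (hb : IsReduced (Spec B)) :
    IsReduced (pullback a b) := by
  obtain ⟨φ, rfl⟩ := Spec.map_surjective a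
  obtain ⟨ψ, rfl⟩ := Spec.map_surjective b
  rw [affine_isReduced_iff] at hb
  algebraize [φ.hom, ψ.hom]
  exact isReduced_pullback_spec (k := k) A B ha

/-- over a field, the product of a geometrically reduced scheme with a reduced one is reduced -/
lemma isReduced_pullback (f : X ⟶ Spec (.of k)) (g : Y ⟶ Spec (.of k))
    [hf : GeometricallyReduced f] [IsReduced Y] : IsReduced (pullback f g) := by
  have : ∀ i, IsReduced ((Scheme.Pullback.openCoverOfLeftRight X.affineCover Y.affineCover f g).X i) := by
    rintro ⟨i, j⟩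
    change IsReduced (pullback (X.affineCover.f i ≫ f) (Y.affineCover.f j ≫ g))
    have h1 : GeometricallyReduced (X.affineCover.f i ≫ f) :=
      geometricallyReduced_comp_of_isOpenImmersion _ _
    have h2 : IsReduced (Y.affineCover.X j) := isReduced_of_isOpenImmersion (Y.affineCover.f j)
    exact isReduced_pullback_spec' (X.affineCover.f i ≫ f) (Y.affineCover.f j ≫ g) h1 h2
  exact IsReduced.of_openCover _ (Scheme.Pullback.openCoverOfLeftRight X.affineCover Y.affineCover f g)

/-- The product of two geometrically reduced schemes over a field is geometrically reduced. -/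
lemma geometricallyReduced_pullback (f : X ⟶ Spec (.of k)) (g : Y ⟶ Spec (.of k))
    [hf : GeometricallyReduced f] [hg : GeometricallyReduced g] :
    GeometricallyReduced (pullback.fst f g ≫ f) := by
  refine ⟨fun K _ y Z fst snd h ↦ ?_⟩
  -- `Z = X ×_k (Y ×_k Spec K)`
  have h1 : IsReduced (pullback g y) := hg.geometrically_isReduced y _ _ (.of_hasPullback _ _)
  have h2 : IsPullback (fst ≫ pullback.fst f g)
      (pullback.lift (fst ≫ pullback.snd f g) snd
        (by rw [Category.assoc, ← pullback.condition, h.w]) : Z ⟶ pullback g y)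
      f (pullback.fst g y ≫ g) := by
    have hb : IsPullback (pullback.fst f g) (pullback.snd f g) f g := .of_hasPullback _ _
    refine IsPullback.paste_horiz (v₁₂ := pullback.snd f g) ?_ hb
    refine IsPullback.of_bot (v₂₂ := g) (h₃₁ := y) (v₂₁ := pullback.snd g y) ?_ ?_
      (.of_hasPullback _ _)
    · rw [pullback.lift_snd, ← pullback.condition]; exact h
    · exact (pullback.lift_fst _ _ _).symm
  have h3 := isReduced_pullback f (pullback.fst g y ≫ g)
  exact isReduced_of_isOpenImmersion h2.isoPullback.hom

/-- kernel of a morphism with reduced source -/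
lemma ker_ideal_of_isReduced [IsReduced X] (f : X ⟶ Y) (U : Y.affineOpens) :
    f.ker.ideal U = RingHom.ker (f.app U).hom := by
  refine le_antisymm (f.ideal_ker_le U) ?_
  have h1 : Scheme.IdealSheafData.vanishingIdeal (.closure (Set.range f)) ≤ f.ker := by
    rw [← Set.image_univ, ← TopologicalSpace.Closeds.coe_top,
      ← Scheme.IdealSheafData.map_vanishingIdeal, Scheme.IdealSheafData.vanishingIdeal_top,
      Scheme.nilradical_eq_bot, Scheme.IdealSheafData.map_bot]
  refine le_trans ?_ (h1 U)
  intro a ha
  rw [Scheme.IdealSheafData.vanishingIdeal_ideal, PrimeSpectrum.mem_vanishingIdeal]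
  intro p hp
  by_contra hap
  have h2 : U.2.fromSpec p ∈ Y.basicOpen a := by
    change p ∈ U.2.fromSpec ⁻¹ᵁ Y.basicOpen a
    rw [U.2.fromSpec_preimage_basicOpen]
    exact hap
  obtain ⟨_, h3, x, rfl⟩ := mem_closure_iff.mp hp _ (Y.basicOpen a).isOpen h2
  have h4 : x ∈ f ⁻¹ᵁ Y.basicOpen a := h3
  rw [Scheme.preimage_basicOpen, show f.app U.1 a = 0 from ha, Scheme.basicOpen_zero] at h4
  exact h4

set_option backward.isDefEq.respectTransparency false in
lemma toImage_app_injective_of_isReduced [IsReduced X] (f : X ⟶ Y) (U : Y.affineOpens) :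
    Function.Injective (f.toImage.app (f.imageι ⁻¹ᵁ U)) := by
  simp only [f.toImage_app U, CommRingCat.hom_comp, CommRingCat.hom_ofHom, RingHom.coe_comp]
  exact (RingHom.lift_injective_of_ker_le_ideal _ _
    (by rw [ker_ideal_of_isReduced])).comp
    (f.ker.subschemeObjIso U).commRingCatIsoToRingEquiv.injective

/-- The closed image of a geometrically reduced scheme over a field is geometrically reduced
(no quasi-compactness hypothesis). -/
lemma geometricallyReduced_image (h : X ⟶ Y) (f : Y ⟶ Spec (.of k))
    [hX : GeometricallyReduced (h ≫ f)] : GeometricallyReduced (h.imageι ≫ f) := by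
  have hXr : IsReduced X := by
    have := self_of_isIntegral_of_geometrically hX.geometrically_isReduced
    exact this
  have hT : GeometricallyReduced (h.toImage ≫ h.imageι ≫ f) := by
    rw [Scheme.Hom.toImage_imageι_assoc]; exact hX
  refine geometricallyReduced_of_dominated (T := X) (h.imageι ≫ f) h.toImage
    (ι := Y.affineOpens) (fun U ↦ h.imageι ⁻¹ᵁ U.1) ?_ (fun U ↦ U.2.preimage h.imageι) ?_
  · exact .comap (AlgebraicGeometry.iSup_affineOpens_eq_top Y) h.imageι.base.hom
  · intro U
    exact toImage_app_injective_of_isReduced h U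

/-- A coproduct of geometrically reduced schemes is geometrically reduced. -/
lemma geometricallyReduced_sigma {ι : Type u} (Z : ι → Scheme.{u}) (h : ∀ i, Z i ⟶ Y)
    (f : Y ⟶ S) (H : ∀ i, GeometricallyReduced (h i ≫ f)) :
    GeometricallyReduced (Sigma.desc h ≫ f) := by
  refine geometricallyReduced_of_openCover _ (sigmaOpenCover Z) fun i ↦ ?_
  change GeometricallyReduced (Sigma.ι Z i ≫ Sigma.desc h ≫ f)
  rw [Sigma.ι_desc_assoc]
  exact H i

/-- The ideal sheaf of the largest geometrically reduced closed subscheme of `Y` over `S`. -/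
noncomputable def grIdeal (f : Y ⟶ S) : Y.IdealSheafData :=
  (Sigma.desc (fun I : {I : Y.IdealSheafData // GeometricallyReduced (I.subschemeι ≫ f)} ↦
    I.1.subschemeι)).ker

lemma geometricallyReduced_grIdeal (f : Y ⟶ Spec (.of k)) :
    GeometricallyReduced ((grIdeal f).subschemeι ≫ f) := by
  have : GeometricallyReduced ((Sigma.desc
      (fun I : {I : Y.IdealSheafData // GeometricallyReduced (I.subschemeι ≫ f)} ↦
        I.1.subschemeι)) ≫ f) :=
    geometricallyReduced_sigma _ _ _ fun I ↦ I.2
  exact geometricallyReduced_image _ f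

lemma grIdeal_le_ker (f : Y ⟶ Spec (.of k)) (h : X ⟶ Y) [hX : GeometricallyReduced (h ≫ f)] :
    grIdeal f ≤ h.ker := by
  have h1 : GeometricallyReduced (h.ker.subschemeι ≫ f) := geometricallyReduced_image h f
  let I : {I : Y.IdealSheafData // GeometricallyReduced (I.subschemeι ≫ f)} := ⟨h.ker, h1⟩
  rw [← h.ker.ker_subschemeι]
  have h2 : h.ker.subschemeι = Sigma.ι (fun I : {I : Y.IdealSheafData //
      GeometricallyReduced (I.subschemeι ≫ f)} ↦ I.1.subscheme) I ≫
      Sigma.desc (fun I : {I : Y.IdealSheafData // GeometricallyReduced (I.subschemeι ≫ f)} ↦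
        I.1.subschemeι) := by
    rw [Sigma.ι_desc]
  rw [h2]
  exact Scheme.Hom.le_ker_comp _ _

lemma geometricallyReduced_of_isIso (e : X ⟶ Y) [IsIso e] : GeometricallyReduced e := by
  refine ⟨fun K _ y Z fst snd h ↦ ?_⟩
  have : IsIso snd := h.isIso_snd_of_isIso
  exact isReduced_of_isOpenImmersion snd

end scheme

end Groth.Agent.Sga3C.GeomRed
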