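import Groth.Agent.Fdesc.GeomRed
import Groth.Agent.Sga3C.GeomRed

/-!
# A reduced scheme over a perfect field is geometrically reduced
-/

set_option autoImplicit false
universe u

namespace Groth.Agent.Sga3C.GeomRedPerf

open CategoryTheory AlgebraicGeometry TensorProduct

theorem geometricallyReduced_spec {k : Type u} [Field k] [PerfectField k] {B : CommRingCat.{u}}
    (f : Spec B ⟶ Spec (.of k)) [hred : IsReduced (Spec B)] : GeometricallyReduced f := by
  obtain ⟨φ, rfl⟩ := Spec.map_surjective f
  rw [affine_isReduced_iff] at hred
  algebraize [φ.hom]
  have h1 : Spec.map φ = Spec.map (CommRingCat.ofHom (algebraMap k B)) := rfl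
  rw [h1, GeomRed.geometricallyReduced_spec_iff]
  intro K _ _
  exact Fdesc.GeomRed.isReduced_tensor_of_perfectField (k := k) K B

/-- A reduced scheme over a perfect field is geometrically reduced. -/
theorem geometricallyReduced_of_isReduced {k : Type u} [Field k] [PerfectField k] {X : Scheme.{u}}
    (f : X ⟶ Spec (.of k)) [IsReduced X] : GeometricallyReduced f := by
  apply GeomRed.geometricallyReduced_of_openCover f X.affineCover
  intro i
  have hred : IsReduced (X.affineCover.X i) := isReduced_of_isOpenImmersion (X.affineCover.f i)
  exact geometricallyReduced_spec (hred := hred) _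

end Groth.Agent.Sga3C.GeomRedPerf
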