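import Groth.Agent.Sga3C.FlatHomog

/-!
# A quasi-compact homomorphism with flat kernel from a flat group scheme is flat onto its
schematic image

The base is a scheme with one point (for instance the spectrum of a local artinian ring) and the
schematic image is assumed to be locally noetherian.
-/

set_option autoImplicit false
universe u
open CategoryTheory MonoidalCategory CartesianMonoidalCategory MonObj GrpObj AlgebraicGeometry Limits

namespace Groth.Agent.Sga3C.FlatImage

open Groth.Agent.Sga3C.FlatPt Groth.Agent.Sga3C.FlatGeneric Groth.Agent.Sga3C.SchemImage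
  Groth.Agent.Sga3C.GrpBasic Groth.Agent.Sga3C.FlatHomog Groth.Agent.Sga3C.KerSquare
  Groth.Agent.Sga3C.GenPts

variable {S : Scheme.{u}}

/-- the self base change of a homomorphism with flat kernel is flat -/
theorem flat_fst_self {G H : Over S} [GrpObj G] [GrpObj H] (u : G ⟶ H) [IsMonHom u]
    (hK : Flat (Limits.pullback.snd u.left (η[H] : 𝟙_ (Over S) ⟶ H).left)) :
    Flat (pullback.fst u.left u.left) := by
  obtain ⟨d, hd⟩ := isPullback_fst_ker u
  exact MorphismProperty.of_isPullback (P := @Flat) hd.flip hK

/-- if `g` is a monomorphism, a flat self base change of `f ≫ g` gives one of `f`. -/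
theorem flat_snd_self_of_comp_mono {X Y Z : Scheme.{u}} (f : X ⟶ Y) (g : Y ⟶ Z) [Mono g]
    (h : Flat (pullback.fst (f ≫ g) (f ≫ g))) : Flat (pullback.snd f f) := by
  have e : IsPullback (pullback.fst f f) (pullback.snd f f) (f ≫ g) (f ≫ g) :=
    ⟨⟨by rw [reassoc_of% (pullback.condition (f := f) (g := f))]⟩, ⟨PullbackCone.IsLimit.mk _
      (fun s => pullback.lift s.fst s.snd
        (by rw [← cancel_mono g, Category.assoc, Category.assoc, s.condition]))
      (fun s => pullback.lift_fst _ _ _) (fun s => pullback.lift_snd _ _ _)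
      (fun s m h1 h2 => pullback.hom_ext (by rw [h1, pullback.lift_fst])
        (by rw [h2, pullback.lift_snd]))⟩⟩
  have h2 : Flat (pullback.snd (f ≫ g) (f ≫ g)) := by
    rw [← pullbackSymmetry_hom_comp_fst]; infer_instance
  rw [← e.isoPullback_hom_snd]
  infer_instance

theorem flat_of_flat_ker {G H C : Over S} [GrpObj G] [GrpObj H] [Flat G.hom] [Subsingleton S]
    (u : G ⟶ H) [IsMonHom u]
    (hK : Flat (Limits.pullback.snd u.left (η[H] : 𝟙_ (Over S) ⟶ H).left))
    (p : G ⟶ C) (i : C ⟶ H) (hpi : p ≫ i = u) [IsClosedImmersion i.left] [QuasiCompact p.left]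
    [IsSchemeTheoreticallyDominant p.left] [IsLocallyNoetherian C.left] : Flat p.left := by
  refine flat_of_forall_isFlatAt _ fun x => ?_
  obtain ⟨z, hz, -⟩ := exists_mem_genericPoints_specializes (p.left x)
  obtain ⟨y, hy⟩ := mem_range_of_mem_genericPoints p.left z hz
  obtain ⟨θ, -, hθ⟩ := exists_act u p i hpi
  refine isFlatAt_of_isFlatAt p θ hθ x y (Subsingleton.elim _ _) ?_
  have h1 := flat_fst_self u hK
  rw [← hpi, Over.comp_left] at h1
  have h2 := flat_snd_self_of_comp_mono p.left i.left h1
  exact isFlatAt_of_maximal p.left h2 y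
    (fun w hw => by rw [hy] at hw ⊢; exact eq_of_specializes_of_mem_genericPoints hz w hw)

end Groth.Agent.Sga3C.FlatImage
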