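import Groth.Agent.Sga3C.ZarQC
import Groth.Agent.Desc.FinFamEff

/-!
# fpqc descent of quasi-coherent modules: reduction to the affine and the Zariski case
-/

set_option autoImplicit false
set_option backward.isDefEq.respectTransparency false
set_option backward.isDefEq.respectTransparency.types false

universe t u

open CategoryTheory CategoryTheory.Limits AlgebraicGeometry TopologicalSpace Opposite

namespace Groth.Agent.Sga3C.QCDesc

open Groth.Agent.Sga3C.DDEff
open _root_.Desc

variable (Q : SheafClass modPF.{u} Scheme.fpqcTopology.{u})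
  (hQ : ∀ (X : Scheme.{u}) (M : X.Modules), Q.P X M ↔ Coh.IsQCoh M)

include hQ in
theorem effective_sigma (n : ℕ) (W : Fin n → Scheme.{u}) : Q.Effective (Sigma.ι W) := by
  have hs : ∀ x : (∐ W : Scheme.{u}), ∃ (k : ULift.{u} (Fin n)) (y : W k.down),
      Sigma.ι W k.down y = x := by
    intro x
    obtain ⟨k, y, hy⟩ := (sigmaOpenCover W).exists_eq x
    exact ⟨⟨k⟩, y, hy⟩
  have h1 : Q.Effective (fun k : ULift.{u} (Fin n) => Sigma.ι W k.down) :=
    ZarQC.effective_open Q hQ _ hs
  have hm : Sieve.ofArrows (fun k : ULift.{u} (Fin n) => W k.down)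
      (fun k => Sigma.ι W k.down) ∈ Scheme.fpqcTopology (∐ W) := by
    refine (Scheme.fpqcTopology).superset_covering ?_
      (Groth.Agent.Desc.FinFamEff.ofArrows_ι_mem (W := W))
    rintro Y g ⟨Z, a, b, ⟨i⟩, rfl⟩
    exact ⟨_, a, _, ⟨(⟨i⟩ : ULift.{u} (Fin n))⟩, rfl⟩
  exact SheafClass.Effective.of_refine Q (f := Sigma.ι W)
    (f' := fun k : ULift.{u} (Fin n) => Sigma.ι W k.down) (α := ULift.down)
    (p' := fun k => 𝟙 _) (fun k => Category.id_comp _) hm h1

theorem affineOpens_mem (S : Scheme.{u}) :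
    Sieve.ofArrows (fun V : S.affineOpens => (V.1 : Scheme.{u})) (fun V => V.1.ι) ∈
      Scheme.fpqcTopology S := by
  apply Scheme.zariskiTopology_le_fpqcTopology
  refine Precoverage.generate_mem_toGrothendieck (J := Scheme.zariskiPrecoverage) ?_
  rw [Scheme.ofArrows_mem_precoverage_iff]
  refine ⟨fun x => ?_, fun V => inferInstance⟩
  obtain ⟨V, hV, hxV, -⟩ := Opens.isBasis_iff_nbhd.1 S.isBasis_affineOpens
    (show x ∈ (⊤ : S.Opens) from trivial)
  exact ⟨⟨V, hV⟩, ⟨⟨x, hxV⟩, rfl⟩⟩

include hQ in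
/-- **fpqc descent for quasi-coherent modules**, effectivity. -/
theorem effective {ι : Type u} {S : Scheme.{u}} {X : ι → Scheme.{u}}
    (f : ∀ i, X i ⟶ S) (hf : Presieve.ofArrows X f ∈ Scheme.fpqcPrecoverage S) :
    Q.Effective f := by
  refine SheafClass.Effective.of_local Q (κ := S.affineOpens) (U := fun V => (V.1 : Scheme.{u}))
    (g := fun V => V.1.ι) (V := fun V i => pullback (f i) V.1.ι)
    (v := fun V i => pullback.snd (f i) V.1.ι)
    (p := fun V i => pullback.fst (f i) V.1.ι)
    (fun V i => IsPullback.of_hasPullback _ _) (Precoverage.generate_mem_toGrothendieck hf)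
    (affineOpens_mem S) ?_ ?_
  · refine ZarQC.effective_open Q hQ _ ?_
    intro x
    obtain ⟨V, hV, hxV, -⟩ := Opens.isBasis_iff_nbhd.1 S.isBasis_affineOpens
      (show x ∈ (⊤ : S.Opens) from trivial)
    exact ⟨⟨V, hV⟩, ⟨x, hxV⟩, rfl⟩
  · intro V
    have : IsAffine (V.1 : Scheme.{u}) := V.2
    refine Groth.Agent.Desc.FinFamEff.effective_of_isAffine Q hQ _ ?_
      (fun n W _ => effective_sigma Q hQ n W)
    exact Precoverage.mem_coverings_of_isPullback f hf V.1.ι _
      (fun i => pullback.fst (f i) V.1.ι) (fun i => (IsPullback.of_hasPullback _ _).flip)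

end Groth.Agent.Sga3C.QCDesc
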