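import Groth.Agent.Sga3C.GrpIrr
import Mathlib.AlgebraicGeometry.Morphisms.Separated
import Mathlib.AlgebraicGeometry.Morphisms.Immersion
import Mathlib.AlgebraicGeometry.Morphisms.QuasiCompact
import Mathlib.CategoryTheory.Monoidal.Cartesian.Grp

/-!
# Separatedness and quasi-compactness of universally open group schemes with
geometrically irreducible fibres (SGA 3 VI_B 5.5)
-/

set_option autoImplicit false

universe u

open CategoryTheory CategoryTheory.Limits MonoidalCategory CartesianMonoidalCategory MonObj GrpObj AlgebraicGeometry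

namespace Groth.Agent.Sga3C.GrpSep

/-- If `U ⟶ S` is separated for an open `U` of `X`, then the diagonal of `X/S` is closed in
`U ×_S U`. -/
theorem mem_range_diagonal_of_mem_closure {X S : Scheme.{u}} (f : X ⟶ S) (U : X.Opens)
    [IsSeparated (U.ι ≫ f)] (w : ↥(pullback f f)) (h1 : pullback.fst f f w ∈ U)
    (h2 : pullback.snd f f w ∈ U) (hw : w ∈ closure (Set.range (pullback.diagonal f))) :
    w ∈ Set.range (pullback.diagonal f) := by
  let j : pullback (U.ι ≫ f) (U.ι ≫ f) ⟶ pullback f f :=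
    pullback.map _ _ _ _ U.ι U.ι (𝟙 S) (by simp) (by simp)
  have hj : IsOpenImmersion j := inferInstance
  have hrange : Set.range j = pullback.fst f f ⁻¹' Set.range U.ι ∩ pullback.snd f f ⁻¹' Set.range U.ι :=
    Scheme.Pullback.range_map _ _ _ _ _ _ _ _ _
  have hΔ : pullback.diagonal (U.ι ≫ f) ≫ j = U.ι ≫ pullback.diagonal f := by
    apply pullback.hom_ext
    · rw [Category.assoc, pullback.lift_fst, Category.assoc, pullback.diagonal_fst,
        pullback.diagonal_fst_assoc, Category.comp_id]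
    · rw [Category.assoc, pullback.lift_snd, Category.assoc, pullback.diagonal_snd,
        pullback.diagonal_snd_assoc, Category.comp_id]
  obtain ⟨v, rfl⟩ : w ∈ Set.range j := by
    rw [hrange]
    exact ⟨by simpa using h1, by simpa using h2⟩
  have hpre : j ⁻¹' (Set.range (pullback.diagonal f)) = Set.range (pullback.diagonal (U.ι ≫ f)) := by
    ext v
    constructor
    · rintro ⟨x, hx⟩
      have hxU : x ∈ Set.range U.ι := by
        have : (pullback.diagonal f ≫ pullback.fst f f) x = x := by simp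
        rw [← this, Scheme.Hom.comp_apply, hx]
        have h3 : j v ∈ Set.range j := ⟨v, rfl⟩
        rw [hrange] at h3
        exact h3.1
      obtain ⟨y, rfl⟩ := hxU
      refine ⟨y, j.isOpenEmbedding.injective ?_⟩
      rw [← Scheme.Hom.comp_apply, hΔ, Scheme.Hom.comp_apply, hx]
    · rintro ⟨y, rfl⟩
      refine ⟨U.ι y, ?_⟩
      rw [← Scheme.Hom.comp_apply, ← Scheme.Hom.comp_apply, hΔ]
  have hcl : IsClosed (Set.range (pullback.diagonal (U.ι ≫ f))) :=
    (pullback.diagonal (U.ι ≫ f)).isClosedEmbedding.isClosed_range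
  have : v ∈ j ⁻¹' closure (Set.range (pullback.diagonal f)) := hw
  rw [j.isOpenEmbedding.isOpenMap.preimage_closure_eq_closure_preimage j.continuous, hpre,
    hcl.closure_eq, ← hpre] at this
  exact this

/-- Lifting a point of `P` mapping into the range of `Δ` to a factorization. -/
theorem exists_lift_of_mem_range {S : Scheme.{u}} {P T X : Over S} (q : P ⟶ T) (d : X ⟶ T)
    (w : P.left) (hw : q.left w ∈ Set.range d.left) :
    ∃ (E : Over S) (h : E ⟶ P) (h' : E ⟶ X), h ≫ q = h' ≫ d ∧ w ∈ Set.range h.left := by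
  refine ⟨Over.mk (pullback.snd d.left q.left ≫ P.hom), Over.homMk (pullback.snd d.left q.left),
    Over.homMk (pullback.fst d.left q.left) ?_, ?_, ?_⟩
  · simp only [Over.mk_left, Over.mk_hom]
    rw [← Over.w q, ← Over.w d, ← Category.assoc, ← Category.assoc, pullback.condition]
  · ext1
    simp [pullback.condition]
  · change w ∈ Set.range (pullback.snd d.left q.left)
    rw [Scheme.Pullback.range_snd]
    exact hw

/-- Every point of `X` has an open neighbourhood which is separated over `S`. -/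
theorem exists_separated_nhd {X S : Scheme.{u}} (f : X ⟶ S) (x : X) :
    ∃ U : X.Opens, x ∈ U ∧ IsSeparated (U.ι ≫ f) := by
  obtain ⟨_, ⟨V', hV, rfl⟩, hxV, -⟩ := S.isBasis_affineOpens.exists_subset_of_mem_open
    (Set.mem_univ (f x)) isOpen_univ
  let V : S.Opens := V'
  obtain ⟨_, ⟨U', hU, rfl⟩, hxU, hUV⟩ := X.isBasis_affineOpens.exists_subset_of_mem_open
    (show x ∈ (f ⁻¹ᵁ V : Set X) from hxV) (f ⁻¹ᵁ V).isOpen
  let U : X.Opens := U'
  refine ⟨U, hxU, ?_⟩
  have hle : U ≤ f ⁻¹ᵁ V := hUV
  have h1 : U.ι ≫ f = f.resLE V U hle ≫ V.ι := by simp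
  have : IsAffine U := hU
  have : IsAffine V := hV
  rw [h1]
  infer_instance

variable {S : Scheme.{u}} (G : Over S) [GrpObj G]

/-- For a `T`-point `a` of `G` and `t ∈ T` there is a point `w` of `T × G` over `t` with
`a(t) · w = e`. -/
theorem exists_fibre_point (T : Over S) (a : T ⟶ G) (U : G.left.Opens) (t : T.left)
    (ht : (η[G] : 𝟙_ (Over S) ⟶ G).left (T.hom t) ∈ U) :
    ∃ w : (T ⊗ G).left, (fst T G).left w = t ∧ ((fst T G ≫ a) * snd T G).left w ∈ U := by
  let σ : T ⟶ T ⊗ G := lift (𝟙 T) a⁻¹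
  have h1 : σ ≫ fst T G = 𝟙 T := lift_fst _ _
  have h2 : σ ≫ ((fst T G ≫ a) * snd T G) = 1 := by
    rw [MonObj.comp_mul, ← Category.assoc, h1, Category.id_comp, lift_snd, mul_inv_cancel]
  refine ⟨σ.left t, ?_, ?_⟩
  · rw [← Scheme.Hom.comp_apply, ← Over.comp_left, h1]
    rfl
  · rw [← Scheme.Hom.comp_apply, ← Over.comp_left, h2]
    exact ht

theorem isSeparated [GeometricallyIrreducible G.hom] [UniversallyOpen G.hom] :
    IsSeparated G.hom := by
  have himm : IsImmersion (pullback.diagonal G.hom) := inferInstance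
  constructor
  suffices H : IsClosed (Set.range (pullback.diagonal G.hom)) by
    exact IsClosedImmersion.of_isPreimmersion _ H
  let T : Over S := G ⊗ G
  let d : G ⟶ T := lift (𝟙 G) (𝟙 G)
  have hd : d.left = pullback.diagonal G.hom := rfl
  let P : Over S := T ⊗ G
  let q : P ⟶ T := fst T G
  let y : P ⟶ G := snd T G
  let α : P ⟶ G := (q ≫ fst G G) * y
  let β : P ⟶ G := (q ≫ snd G G) * y
  let φ : P ⟶ T := lift α β
  have hqL : q.left = pullback.fst T.hom G.hom := rfl
  have : UniversallyOpen q.left := by rw [hqL]; infer_instance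
  have : GeometricallyIrreducible q.left := by rw [hqL]; infer_instance
  -- the two preimages of the diagonal agree
  have hpre : q.left ⁻¹' (Set.range d.left) = φ.left ⁻¹' (Set.range d.left) := by
    ext w
    constructor
    · intro hw
      obtain ⟨E, h, h', hh, e, rfl⟩ := exists_lift_of_mem_range q d w hw
      have h1 : h ≫ φ = (h ≫ α) ≫ d := by
        have ha : h ≫ q ≫ fst G G = h' := by
          rw [← Category.assoc, hh, Category.assoc]; simp [d]
        have hb : h ≫ q ≫ snd G G = h' := by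
          rw [← Category.assoc, hh, Category.assoc]; simp [d]
        have hab : h ≫ α = h ≫ β := by
          simp only [α, β, MonObj.comp_mul, ha, hb]
        apply CartesianMonoidalCategory.hom_ext
        · simp [φ, d]
        · simp [φ, d, hab]
      refine ⟨(h ≫ α).left e, ?_⟩
      rw [← Scheme.Hom.comp_apply, ← Scheme.Hom.comp_apply, ← Over.comp_left, ← Over.comp_left, h1]
    · intro hw
      obtain ⟨E, h, h', hh, e, rfl⟩ := exists_lift_of_mem_range φ d w hw
      have h1 : h ≫ q = (h ≫ q ≫ fst G G) ≫ d := by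
        have ha : h ≫ α = h' := by
          have : h ≫ φ ≫ fst G G = h' := by rw [← Category.assoc, hh, Category.assoc]; simp [d]
          simpa [φ] using this
        have hb : h ≫ β = h' := by
          have : h ≫ φ ≫ snd G G = h' := by rw [← Category.assoc, hh, Category.assoc]; simp [d]
          simpa [φ] using this
        have hab : h ≫ q ≫ fst G G = h ≫ q ≫ snd G G := by
          have h2 : (h ≫ q ≫ fst G G) * (h ≫ y) = (h ≫ q ≫ snd G G) * (h ≫ y) := by
            rw [← MonObj.comp_mul, ← MonObj.comp_mul]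
            exact ha.trans hb.symm
          exact mul_right_cancel h2
        apply CartesianMonoidalCategory.hom_ext
        · simp [d]
        · simp [d, hab]
      refine ⟨(h ≫ q ≫ fst G G).left e, ?_⟩
      rw [← Scheme.Hom.comp_apply, ← Scheme.Hom.comp_apply, ← Over.comp_left, ← Over.comp_left, h1]
  rw [← hd, ← closure_subset_iff_isClosed]
  intro t' ht
  let t : T.left := t'
  -- an affine open neighbourhood of the image of the unit section
  let s : S := T.hom t
  let e0 : G.left := (η[G] : 𝟙_ (Over S) ⟶ G).left s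
  obtain ⟨U, heU, hU⟩ := exists_separated_nhd G.hom e0
  -- points of the fibre
  have hα : ∃ w : P.left, q.left w = t ∧ α.left w ∈ U := by
    refine exists_fibre_point G T (fst G G) U t heU
  have hβ : ∃ w : P.left, q.left w = t ∧ β.left w ∈ U := by
    refine exists_fibre_point G T (snd G G) U t heU
  obtain ⟨w, hwt, hwα, hwβ⟩ : ∃ w : P.left, q.left w = t ∧ α.left w ∈ U ∧ β.left w ∈ U := by
    have hirr := q.left.isIrreducible_preimage q.left.isOpenMap (isIrreducible_singleton (x := t))
    obtain ⟨a, ha1, ha2⟩ := hα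
    obtain ⟨b, hb1, hb2⟩ := hβ
    obtain ⟨w, hw1, hw2, hw3⟩ := hirr.isPreirreducible (α.left ⁻¹' U) (β.left ⁻¹' U)
      (U.isOpen.preimage α.left.continuous) (U.isOpen.preimage β.left.continuous)
      ⟨a, ha1, ha2⟩ ⟨b, hb1, hb2⟩
    exact ⟨w, hw1, hw2, hw3⟩
  have hw1 : w ∈ closure (q.left ⁻¹' (Set.range d.left)) := by
    rw [← q.left.isOpenMap.preimage_closure_eq_closure_preimage q.left.continuous]
    change q.left w ∈ closure (Set.range d.left)
    rw [hwt]
    exact ht
  have hw2 : φ.left w ∈ closure (Set.range d.left) := by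
    rw [hpre] at hw1
    exact (φ.left.continuous.closure_preimage_subset _) hw1
  have hw3 : φ.left w ∈ Set.range d.left := by
    refine mem_range_diagonal_of_mem_closure G.hom U _ ?_ ?_ hw2
    · have : (φ.left ≫ pullback.fst G.hom G.hom) w = α.left w := by
        rw [show φ.left ≫ pullback.fst G.hom G.hom = (φ ≫ fst G G).left from rfl, lift_fst]
      rw [← Scheme.Hom.comp_apply, this]
      exact hwα
    · have : (φ.left ≫ pullback.snd G.hom G.hom) w = β.left w := by
        rw [show φ.left ≫ pullback.snd G.hom G.hom = (φ ≫ snd G G).left from rfl, lift_snd]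
      rw [← Scheme.Hom.comp_apply, this]
      exact hwβ
  have hw4 : w ∈ q.left ⁻¹' (Set.range d.left) := by rw [hpre]; exact hw3
  change t ∈ Set.range d.left
  rw [← hwt]
  exact hw4

/-- If `W` is an open of `G` and `g` is a point of `G` over a point in the image of `W`, then `g` is
the product of two points of `W` (more precisely, of a point of `G ×_S G` with both projections
in `W`). -/
theorem exists_mul_eq [GeometricallyIrreducible G.hom] [UniversallyOpen G.hom] (W : G.left.Opens)
    (g : G.left) (hg : ∃ u ∈ W, G.hom u = G.hom g) :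
    ∃ k : (G ⊗ G).left, (fst G G).left k ∈ W ∧ (snd G G).left k ∈ W ∧ (μ[G]).left k = g := by
  let q : G ⊗ G ⟶ G := fst G G
  let y : G ⊗ G ⟶ G := snd G G
  have hqL : q.left = pullback.fst G.hom G.hom := rfl
  have : UniversallyOpen q.left := by rw [hqL]; infer_instance
  have : GeometricallyIrreducible q.left := by rw [hqL]; infer_instance
  obtain ⟨u, huW, hu⟩ := hg
  obtain ⟨w0, hw0q, hw0y⟩ := Scheme.Pullback.exists_preimage_pullback (f := G.hom) (g := G.hom) g u
    hu.symm
  have h1 : ∃ w : (G ⊗ G).left, q.left w = g ∧ y.left w ∈ W := by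
    refine ⟨w0, hw0q, ?_⟩
    change pullback.snd G.hom G.hom w0 ∈ W
    rw [hw0y]
    exact huW
  have h2 : ∃ w : (G ⊗ G).left, q.left w = g ∧ (y⁻¹ * q).left w ∈ W := by
    let ψ : G ⊗ G ⟶ G ⊗ G := lift q (q * y⁻¹)
    have e1 : ψ ≫ q = q := lift_fst _ _
    have e2 : ψ ≫ (y⁻¹ * q) = y := by
      rw [MonObj.comp_mul, GrpObj.comp_inv, e1, lift_snd]
      group
    refine ⟨ψ.left w0, ?_, ?_⟩
    · rw [← Scheme.Hom.comp_apply, ← Over.comp_left, e1]
      exact hw0q
    · rw [← Scheme.Hom.comp_apply, ← Over.comp_left, e2]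
      change pullback.snd G.hom G.hom w0 ∈ W
      rw [hw0y]
      exact huW
  obtain ⟨w, hw1, hw2, hw3⟩ :
      ∃ w : (G ⊗ G).left, q.left w = g ∧ y.left w ∈ W ∧ (y⁻¹ * q).left w ∈ W := by
    have hirr := q.left.isIrreducible_preimage q.left.isOpenMap (isIrreducible_singleton (x := g))
    obtain ⟨a, ha1, ha2⟩ := h1
    obtain ⟨b, hb1, hb2⟩ := h2
    obtain ⟨w, hw1, hw2, hw3⟩ := hirr.isPreirreducible (y.left ⁻¹' W) ((y⁻¹ * q).left ⁻¹' W)
      (W.isOpen.preimage y.left.continuous) (W.isOpen.preimage (y⁻¹ * q).left.continuous)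
      ⟨a, ha1, ha2⟩ ⟨b, hb1, hb2⟩
    exact ⟨w, hw1, hw2, hw3⟩
  let φ : G ⊗ G ⟶ G ⊗ G := lift y (y⁻¹ * q)
  refine ⟨φ.left w, ?_, ?_, ?_⟩
  · rw [← Scheme.Hom.comp_apply, ← Over.comp_left, lift_fst]
    exact hw2
  · rw [← Scheme.Hom.comp_apply, ← Over.comp_left, lift_snd]
    exact hw3
  · have e3 : φ ≫ μ[G] = q := by
      have : φ ≫ μ[G] = y * (y⁻¹ * q) := rfl
      rw [this]
      group
    rw [← Scheme.Hom.comp_apply, ← Over.comp_left, e3]
    exact hw1

set_option backward.isDefEq.respectTransparency.types false in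
theorem quasiCompact [GeometricallyIrreducible G.hom] [UniversallyOpen G.hom] :
    QuasiCompact G.hom := by
  -- local statement
  have key : ∀ s : S, ∃ V : S.Opens, s ∈ V ∧ IsAffineOpen V ∧ IsCompact (G.hom ⁻¹ᵁ V : Set G.left) := by
    intro s
    obtain ⟨_, ⟨V', hV', rfl⟩, hxV, -⟩ := S.isBasis_affineOpens.exists_subset_of_mem_open
      (Set.mem_univ s) isOpen_univ
    let S0 : S.Opens := V'
    let e0 : G.left := (η[G] : 𝟙_ (Over S) ⟶ G).left s
    have he0 : G.hom e0 = s := by
      have h1 : (η[G] : 𝟙_ (Over S) ⟶ G).left ≫ G.hom = 𝟙 S := Over.w (η[G] : 𝟙_ (Over S) ⟶ G)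
      change G.hom ((η[G] : 𝟙_ (Over S) ⟶ G).left s) = s
      rw [← Scheme.Hom.comp_apply, h1]
      rfl
    obtain ⟨_, ⟨U', hU, rfl⟩, hxU, hUV⟩ := G.left.isBasis_affineOpens.exists_subset_of_mem_open
      (show e0 ∈ (G.hom ⁻¹ᵁ S0 : Set G.left) from by
        change G.hom e0 ∈ S0
        rw [he0]; exact hxV) (G.hom ⁻¹ᵁ S0).isOpen
    let U : G.left.Opens := U'
    have hopen : IsOpen (G.hom '' (U : Set G.left)) := G.hom.isOpenMap _ U.isOpen
    obtain ⟨_, ⟨V', hV, rfl⟩, hsV, hVU⟩ := S.isBasis_affineOpens.exists_subset_of_mem_open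
      (show s ∈ G.hom '' (U : Set G.left) from ⟨e0, hxU, he0⟩) hopen
    let V : S.Opens := V'
    refine ⟨V, hsV, hV, ?_⟩
    have hUS0 : U ≤ G.hom ⁻¹ᵁ S0 := hUV
    have hVS0 : V ≤ S0 := by
      intro v hv
      obtain ⟨u, hu, rfl⟩ := hVU hv
      exact hUV hu
    let W : G.left.Opens := U ⊓ G.hom ⁻¹ᵁ V
    have hW : IsAffineOpen W := by
      have hU' : IsAffine U := hU
      have hS0' : IsAffine S0 := hV'
      have h1 : IsAffineOpen (S0.ι ⁻¹ᵁ V) :=
        IsAffineOpen.preimage_of_isOpenImmersion hV S0.ι (by simpa using hVS0)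
      have h2 := (h1.preimage (G.hom.resLE S0 U hUS0)).image_of_isOpenImmersion U.ι
      have h3 : W = U.ι ''ᵁ ((G.hom.resLE S0 U hUS0) ⁻¹ᵁ (S0.ι ⁻¹ᵁ V)) := by
        rw [← Scheme.Hom.comp_preimage, Scheme.Hom.resLE_comp_ι, Scheme.Hom.comp_preimage,
          Scheme.Hom.image_preimage_eq_opensRange_inf, Scheme.Opens.opensRange_ι]
      rw [h3]
      exact h2
    have hWV : W ≤ G.hom ⁻¹ᵁ V := inf_le_right
    have : IsAffine W := hW
    have : IsAffine V := hV
    let r : W.toScheme ⟶ V.toScheme := G.hom.resLE V W hWV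
    let j : pullback r r ⟶ pullback G.hom G.hom :=
      pullback.map r r G.hom G.hom W.ι W.ι V.ι (by simp [r]) (by simp [r])
    have hj : Set.range j = pullback.fst G.hom G.hom ⁻¹' Set.range W.ι ∩
        pullback.snd G.hom G.hom ⁻¹' Set.range W.ι := Scheme.Pullback.range_map _ _ _ _ _ _ _ _ _
    have hcomp : IsCompact (Set.range j) := isCompact_range j.continuous
    have himage : (G.hom ⁻¹ᵁ V : Set G.left) = (μ[G]).left '' (Set.range j) := by
      apply subset_antisymm
      · intro g hg
        obtain ⟨u, huU, hu⟩ := hVU hg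
        have huW : u ∈ W := ⟨huU, by change G.hom u ∈ V; rw [hu]; exact hg⟩
        obtain ⟨k, hk1, hk2, hk3⟩ := exists_mul_eq G W g ⟨u, huW, hu⟩
        refine ⟨k, ?_, hk3⟩
        rw [hj]
        exact ⟨by simpa using hk1, by simpa using hk2⟩
      · rintro _ ⟨k, hk, rfl⟩
        rw [hj] at hk
        have hk1 : (fst G G).left k ∈ W := by simpa using hk.1
        change G.hom ((μ[G]).left k) ∈ V
        rw [← Scheme.Hom.comp_apply, Over.w μ[G], ← Over.w (fst G G), Scheme.Hom.comp_apply]
        exact hk1.2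
    rw [himage]
    exact hcomp.image (μ[G]).left.continuous
  choose V hsV hV hc using key
  rw [HasAffineProperty.iff_of_iSup_eq_top (P := @QuasiCompact) fun i ↦ ⟨V i, hV i⟩]
  · intro i
    exact isCompact_iff_compactSpace.mp (hc i)
  · exact top_le_iff.mp (fun x _ ↦ by simpa using ⟨x, hsV x⟩)

end Groth.Agent.Sga3C.GrpSep
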