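import Groth.Agent.VarietyA.GeomIrrS
import Mathlib.AlgebraicGeometry.Group.Smooth
import Mathlib.AlgebraicGeometry.Noetherian
import Mathlib.AlgebraicGeometry.PullbackCarrier
import Mathlib.AlgebraicGeometry.Morphisms.Integral
import Mathlib.AlgebraicGeometry.Morphisms.UniversallyOpen
import Mathlib.AlgebraicGeometry.Morphisms.Flat
import Mathlib.AlgebraicGeometry.Morphisms.FiniteType
import Mathlib.CategoryTheory.Monoidal.Cartesian.Over
import Mathlib.CategoryTheory.Monoidal.Cartesian.Grp

/-!
# Connected group schemes locally of finite type over a field are geometrically irreducible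
-/

set_option autoImplicit false

universe u

open CategoryTheory CategoryTheory.Limits MonoidalCategory CartesianMonoidalCategory MonObj GrpObj AlgebraicGeometry

namespace Groth.Agent.Sga3C.GrpIrr

/-- A connected `k`-scheme with a rational point stays connected after an algebraic extension. -/
theorem connectedSpace_pullback_of_section {k K : Type u} [Field k] [Field K] [Algebra k K]
    [Algebra.IsAlgebraic k K] {X : Scheme.{u}} (f : X ⟶ Spec (.of k)) [ConnectedSpace X]
    (e : Spec (.of k) ⟶ X) (he : e ≫ f = 𝟙 _) :
    ConnectedSpace ↥(pullback f (Spec.map (CommRingCat.ofHom (algebraMap k K)))) := by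
  set g := Spec.map (CommRingCat.ofHom (algebraMap k K)) with hg
  have hint : IsIntegralHom g := by
    rw [hg, IsIntegralHom.SpecMap_iff]
    exact algebraMap_isIntegral_iff.mpr inferInstance
  set p := pullback.fst f g with hp
  have : IsIntegralHom p := inferInstance
  have hclosed : IsClosedMap p := p.isClosedMap
  have hopen : IsOpenMap p := p.isOpenMap
  -- the fibre over the rational point is a single point
  let pt : Spec (.of k) := IsLocalRing.closedPoint k
  have hfib : (p ⁻¹' {e pt}).Subsingleton := by
    have h1 : p ⁻¹' {e pt} = Set.range (pullback.fst p e) := by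
      rw [Scheme.Pullback.range_fst]
      congr 1
      ext y
      constructor
      · rintro rfl
        exact ⟨_, rfl⟩
      · rintro ⟨z, rfl⟩
        rw [Set.mem_singleton_iff, Subsingleton.elim z pt]
    have h2 : Subsingleton ↥(pullback p e) := by
      have i1 : pullback p e ≅ Spec (.of K) :=
        pullbackSymmetry _ _ ≪≫ pullbackRightPullbackFstIso f g e ≪≫ 
          pullback.congrHom he rfl ≪≫ asIso (pullback.snd _ _)
      exact i1.hom.homeomorph.toEquiv.subsingleton
    rw [h1]
    exact Set.subsingleton_range _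
  have hne : Nonempty ↥(pullback f g) := by
    obtain ⟨x, -⟩ := Scheme.Pullback.exists_preimage_pullback (f := f) (g := g) (e pt)
      (IsLocalRing.closedPoint K) (Subsingleton.elim _ _)
    exact ⟨x⟩
  have hpre : PreconnectedSpace ↥(pullback f g) := by
    rw [preconnectedSpace_iff_clopen]
    intro U hU
    by_contra! hcon
    obtain ⟨h0, h1⟩ := hcon
    have key : ∀ V : Set ↥(pullback f g), IsClopen V → V.Nonempty → ∃ v ∈ V, p v = e pt := by
      intro V hV hVne
      have : p '' V = Set.univ :=
        (isClopen_iff.mp ⟨hclosed _ hV.1, hopen _ hV.2⟩).resolve_left (hVne.image _).ne_empty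
      obtain ⟨v, hv, hv'⟩ := this.ge (Set.mem_univ (e pt))
      exact ⟨v, hv, hv'⟩
    obtain ⟨v, hv, hv'⟩ := key U hU h0
    obtain ⟨w, hw, hw'⟩ := key Uᶜ hU.compl (Set.nonempty_compl.mpr h1)
    exact hw (hfib hv' hw' ▸ hv)
  exact ⟨hne⟩

/-- In a topological space which is connected and where every point has an irreducible open
neighbourhood, the whole space is irreducible. -/
theorem irreducibleSpace_of_locally {X : Type*} [TopologicalSpace X] [ConnectedSpace X]
    (h : ∀ x : X, ∃ U : Set X, IsOpen U ∧ x ∈ U ∧ IsPreirreducible U) : IrreducibleSpace X := by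
  have key : ∀ U : Set X, IsOpen U → U.Nonempty → closure U = Set.univ := by
    intro U hU hne
    refine (isClopen_iff.mp ⟨isClosed_closure, ?_⟩).resolve_left (hne.mono subset_closure).ne_empty
    rw [isOpen_iff_mem_nhds]
    intro x hx
    obtain ⟨W, hWo, hxW, hWirr⟩ := h x
    refine Filter.mem_of_superset (hWo.mem_nhds hxW) ?_
    intro y hy
    rw [mem_closure_iff]
    intro V hV hyV
    obtain ⟨z, hzW, hzU⟩ := mem_closure_iff.mp hx W hWo hxW
    obtain ⟨t, -, htV, htU⟩ := hWirr V U hV hU ⟨y, hy, hyV⟩ ⟨z, hzW, hzU⟩
    exact ⟨t, htV, htU⟩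
  have : PreirreducibleSpace X := by
    refine ⟨fun U V hU hV ⟨x, _, hx⟩ ⟨y, _, hy⟩ => ?_⟩
    have := (key U hU ⟨x, hx⟩).ge (Set.mem_univ y)
    obtain ⟨z, hzV, hzU⟩ := mem_closure_iff.mp this V hV hy
    exact ⟨z, trivial, hzU, hzV⟩
  exact ⟨inferInstance⟩

/-- A nonempty locally Noetherian scheme has a nonempty irreducible open subset. -/
theorem exists_irreducible_open (X : Scheme.{u}) [IsLocallyNoetherian X] [Nonempty X] :
    ∃ U : Set X, IsOpen U ∧ U.Nonempty ∧ IsPreirreducible U := by
  obtain ⟨x⟩ := ‹Nonempty X›
  obtain ⟨_, ⟨V, hV, rfl⟩, hxV, -⟩ := X.isBasis_affineOpens.exists_subset_of_mem_open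
    (Set.mem_univ x) isOpen_univ
  have : IsNoetherianRing Γ(X, V) := IsLocallyNoetherian.component_noetherian ⟨V, hV⟩
  have : TopologicalSpace.NoetherianSpace ((V : Set X) : Type u) :=
    noetherianSpace_of_isAffineOpen V hV
  obtain ⟨o, ho, hne, hoZ⟩ :=
    TopologicalSpace.NoetherianSpace.exists_isOpen_nonempty_subset_irreducibleComponent
      (irreducibleComponent (⟨x, hxV⟩ : (V : Set X)))
      (irreducibleComponent_mem_irreducibleComponents _)
  have hirr : IsPreirreducible o := by
    exact IsPreirreducible.open_subset (isIrreducible_irreducibleComponent).isPreirreducible ho hoZ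
  refine ⟨Subtype.val '' o, V.isOpen.isOpenMap_subtype_val _ ho, hne.image _, ?_⟩
  exact hirr.image _ continuous_subtype_val.continuousOn

set_option backward.defeqAttrib.useBackward true in
set_option backward.isDefEq.respectTransparency false in
/-- A connected group scheme locally of finite type over an algebraically closed field is
irreducible. -/
theorem irreducibleSpace_of_isAlgClosed {k : Type u} [Field k] [IsAlgClosed k]
    {G : Scheme.{u}} (f : G ⟶ Spec (.of k)) [LocallyOfFiniteType f] [GrpObj (Over.mk f)]
    [ConnectedSpace G] : IrreducibleSpace G := by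
  have := LocallyOfFiniteType.jacobsonSpace f
  have : IsLocallyNoetherian G := LocallyOfFiniteType.isLocallyNoetherian f
  let N : Set G := {x | ∃ U : Set G, IsOpen U ∧ x ∈ U ∧ IsPreirreducible U}
  have hN : IsOpen N := by
    rw [isOpen_iff_mem_nhds]
    rintro x ⟨U, hU, hxU, hirr⟩
    exact Filter.mem_of_superset (hU.mem_nhds hxU) fun y hy => ⟨U, hU, hy, hirr⟩
  suffices H : N = Set.univ from irreducibleSpace_of_locally fun x => H.ge (Set.mem_univ x)
  by_contra hcon
  obtain ⟨x, hx, hxc⟩ :=
    nonempty_inter_closedPoints (Set.nonempty_compl.mpr hcon) hN.isClosed_compl.isLocallyClosed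
  have hNne : N.Nonempty := by
    obtain ⟨U, hU, ⟨u, hu⟩, hirr⟩ := exists_irreducible_open G
    exact ⟨u, U, hU, hu, hirr⟩
  obtain ⟨y, hy, hyc⟩ := nonempty_inter_closedPoints hNne hN.isLocallyClosed
  let x' : 𝟙_ _ ⟶ Over.mk f := Over.homMk _ ((pointEquivClosedPoint f).symm ⟨x, hxc⟩).2
  let y' : 𝟙_ _ ⟶ Over.mk f := Over.homMk _ ((pointEquivClosedPoint f).symm ⟨y, hyc⟩).2
  let α := (GrpObj.mulRight (A := Over.mk f) x').symm ≪≫
    (GrpObj.mulRight (A := Over.mk f) y')
  have hα : x' ≫ α.hom = y' := by
    dsimp only [Iso.trans_hom, Iso.symm_hom, α]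
    rw [← Category.assoc, ← Iso.eq_comp_inv]
    simp [comp_lift_assoc]
  have hα' : α.hom.left x = y := by
    simpa [x', y', pointEquivClosedPoint] using congr(($hα).left (IsLocalRing.closedPoint k))
  obtain ⟨U, hU, hyU, hirr⟩ := hy
  have : IsIso α.hom.left := inferInstanceAs (IsIso ((Over.forget _).map α.hom))
  refine hx ⟨α.hom.left ⁻¹' U, hU.preimage α.hom.left.continuous, ?_, ?_⟩
  · rw [Set.mem_preimage, hα']; exact hyU
  · exact hirr.preimage (Scheme.Hom.homeomorph α.hom.left).isOpenEmbedding

/-- A connected group scheme locally of finite type over a field is geometrically irreducible. -/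
theorem geometricallyIrreducible_of_connectedSpace {k : Type u} [Field k]
    {G : Scheme.{u}} (f : G ⟶ Spec (.of k)) [LocallyOfFiniteType f] [GrpObj (Over.mk f)]
    [ConnectedSpace G] : GeometricallyIrreducible f := by
  let Ω : Type u := AlgebraicClosure k
  let g : Spec (.of Ω) ⟶ Spec (.of k) := Spec.map (CommRingCat.ofHom <| algebraMap k Ω)
  have h1 : ConnectedSpace ↥(pullback f g) :=
    connectedSpace_pullback_of_section f (η[Over.mk f] : 𝟙_ (Over (Spec (.of k))) ⟶ _).left
      (Over.w η[Over.mk f])
  let : GrpObj (Over.mk (Limits.pullback.snd f g)) := Over.grpObjMkPullbackSnd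
  have h2 : IrreducibleSpace ↥(pullback f g) := irreducibleSpace_of_isAlgClosed (pullback.snd f g)
  exact VarietyA.GeomIrr.geometricallyIrreducible_of_irreducibleSpace_of_isSepClosed k Ω f

/-- A group scheme locally of finite type over a base whose fibres are connected is
geometrically irreducible. -/
theorem geometricallyIrreducible_of_connected_fibres {S G : Scheme.{u}} (f : G ⟶ S)
    [LocallyOfFiniteType f] [GrpObj (Over.mk f)]
    (hconn : ∀ s : S, _root_.IsConnected (f.base ⁻¹' {s})) : GeometricallyIrreducible f := by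
  rw [GeometricallyIrreducible.iff_geometricallyIrreducible_fiber]
  intro s
  have : LocallyOfFiniteType (pullback.snd f (S.fromSpecResidueField s)) := inferInstance
  let : GrpObj (Over.mk (pullback.snd f (S.fromSpecResidueField s))) := Over.grpObjMkPullbackSnd
  have : ConnectedSpace ↥(pullback f (S.fromSpecResidueField s)) := by
    have h1 := isConnected_iff_connectedSpace.mp (hconn s)
    exact (f.fiberHomeo s).symm.surjective.connectedSpace (f.fiberHomeo s).symm.continuous
  exact geometricallyIrreducible_of_connectedSpace (k := S.residueField s)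
    (pullback.snd f (S.fromSpecResidueField s))

end Groth.Agent.Sga3C.GrpIrr
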