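import Groth.Agent.Sga3C.Chevalley
import Mathlib.LinearAlgebra.Matrix.Adjugate
import Mathlib.Data.Fintype.BigOperators

/-!
# Stabilizers of subspaces as stabilizers of lines in tensor powers
-/

set_option autoImplicit false
universe u v w w'
open TensorProduct

namespace Groth.Agent.Sga3C.LineStab

open Groth.Agent.Sga3C.MatComod

section Minors

variable {R : Type u} [CommRing R] {d m : ℕ}

/-- The `d × d` minor of the first `d` columns with rows `f`. -/
noncomputable def minor (M : (Fin d ⊕ Fin m) → (Fin d ⊕ Fin m) → R)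
    (f : Fin d → Fin d ⊕ Fin m) : R :=
  Matrix.det (Matrix.of fun i j : Fin d => M (f i) (Sum.inl j))

/-- The coordinates of the antisymmetrized tensor of the first `d` basis vectors. -/
noncomputable def alt (R : Type u) [CommRing R] (d m : ℕ) (f : Fin d → Fin d ⊕ Fin m) : R :=
  ∑ σ : Equiv.Perm (Fin d), ((Equiv.Perm.sign σ : ℤ) : R) *
    (if f = fun i => Sum.inl (σ i) then 1 else 0)

lemma alt_inl : alt R d m (fun i => Sum.inl i) = 1 := by
  unfold alt
  rw [Finset.sum_eq_single (1 : Equiv.Perm (Fin d))]
  · simp
  · intro σ _ hσ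
    rw [if_neg, mul_zero]
    intro h
    apply hσ
    ext i
    have := congrFun h i
    simp only [Sum.inl.injEq] at this
    simp [← this]
  · simp

lemma alt_eq_zero_of_inr (f : Fin d → Fin d ⊕ Fin m) (i : Fin d) (j : Fin m)
    (hf : f i = Sum.inr j) : alt R d m f = 0 := by
  unfold alt
  refine Finset.sum_eq_zero fun σ _ => ?_
  rw [if_neg, mul_zero]
  intro h
  have := congrFun h i
  simp [hf] at this

lemma algebraMap_alt {k : Type v} [CommRing k] [Algebra k R] (f : Fin d → Fin d ⊕ Fin m) :
    algebraMap k R (alt k d m f) = alt R d m f := by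
  unfold alt
  rw [map_sum]
  refine Finset.sum_congr rfl fun σ _ => ?_
  rw [map_mul, map_intCast]
  split_ifs <;> simp

lemma sum_alt_mul (x : (Fin d → Fin d ⊕ Fin m) → R) :
    ∑ h, alt R d m h * x h =
      ∑ σ : Equiv.Perm (Fin d), ((Equiv.Perm.sign σ : ℤ) : R) * x (fun i => Sum.inl (σ i)) := by
  unfold alt
  simp only [Finset.sum_mul]
  rw [Finset.sum_comm]
  refine Finset.sum_congr rfl fun σ _ => ?_
  rw [Finset.sum_eq_single (fun i => Sum.inl (σ i))]
  · simp
  · intro h _ hh
    rw [if_neg hh]
    ring
  · simp

lemma minor_eq (M : (Fin d ⊕ Fin m) → (Fin d ⊕ Fin m) → R) (f : Fin d → Fin d ⊕ Fin m) :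
    minor M f = ∑ h, alt R d m h * ∏ i, M (f i) (h i) := by
  rw [sum_alt_mul, minor, ← Matrix.det_transpose, Matrix.det_apply']
  refine Finset.sum_congr rfl fun σ _ => ?_
  simp

/-- If the lower-left block vanishes, the minors are multiples of `alt`. -/
lemma minor_of_block (M : (Fin d ⊕ Fin m) → (Fin d ⊕ Fin m) → R)
    (hM : ∀ i j, M (Sum.inr i) (Sum.inl j) = 0) (f : Fin d → Fin d ⊕ Fin m) :
    minor M f = alt R d m f * minor M (fun i => Sum.inl i) := by
  by_cases hf : ∃ i j, f i = Sum.inr j
  · obtain ⟨i, j, hij⟩ := hf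
    rw [alt_eq_zero_of_inr f i j hij, zero_mul]
    refine Matrix.det_eq_zero_of_row_eq_zero i fun l => ?_
    simp [hij, hM]
  · push Not at hf
    have hf' : ∀ i, ∃ t, f i = Sum.inl t := by
      intro i
      rcases h : f i with t | t
      · exact ⟨t, rfl⟩
      · exact absurd h (hf i t)
    choose τ hτ using hf'
    obtain rfl : f = fun i => Sum.inl (τ i) := funext hτ
    by_cases hinj : Function.Injective τ
    · -- permutation
      let σ : Equiv.Perm (Fin d) := Equiv.ofBijective τ (Finite.injective_iff_bijective.mp hinj)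
      have hσ : ∀ i, σ i = τ i := fun i => rfl
      have h1 : alt R d m (fun i => Sum.inl (τ i)) = ((Equiv.Perm.sign σ : ℤ) : R) := by
        unfold alt
        rw [Finset.sum_eq_single σ]
        · rw [if_pos (by funext i; rw [hσ]), mul_one]
        · intro σ' _ hσ'
          rw [if_neg, mul_zero]
          intro h
          apply hσ'
          ext i
          have := congrFun h i
          simp only [Sum.inl.injEq] at this
          rw [hσ, this]
        · simp
      rw [h1]
      have h2 := Matrix.det_permute σ (Matrix.of fun i j : Fin d => M (Sum.inl i) (Sum.inl j))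
      rw [minor, minor, ← h2]
      rfl
    · -- repeated row
      have h1 : alt R d m (fun i => Sum.inl (τ i)) = 0 := by
        unfold alt
        refine Finset.sum_eq_zero fun σ _ => ?_
        rw [if_neg, mul_zero]
        intro h
        apply hinj
        have h2 : τ = σ := by
          funext i
          have := congrFun h i
          simpa using this
        rw [h2]
        exact σ.injective
      rw [h1, zero_mul]
      simp only [Function.Injective, not_forall] at hinj
      obtain ⟨i, j, hij, hne⟩ := hinj
      refine Matrix.det_zero_of_row_eq hne ?_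
      funext l
      simp [hij]

/-- If the minors are a common multiple of `alt` and `M` has a left inverse, the lower-left block
vanishes. -/
lemma block_of_minor (M N : (Fin d ⊕ Fin m) → (Fin d ⊕ Fin m) → R)
    (hNM : ∀ i j, ∑ l, N i l * M l j = if i = j then 1 else 0) (c : R)
    (hc : ∀ f, minor M f = alt R d m f * c) (i : Fin m) (j : Fin d) :
    M (Sum.inr i) (Sum.inl j) = 0 := by
  -- `c` is a unit
  have h1 : ∑ f : Fin d → Fin d ⊕ Fin m, (∏ i, N (Sum.inl i) (f i)) * minor M f = 1 := by
    simp only [minor_eq, sum_alt_mul]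
    simp only [Finset.mul_sum]
    rw [Finset.sum_comm]
    have : ∀ σ : Equiv.Perm (Fin d), ∑ f : Fin d → Fin d ⊕ Fin m,
        (∏ i, N (Sum.inl i) (f i)) * (((Equiv.Perm.sign σ : ℤ) : R) *
          ∏ i, M (f i) (Sum.inl (σ i))) =
        ((Equiv.Perm.sign σ : ℤ) : R) * ∏ i, ∑ l, N (Sum.inl i) l * M l (Sum.inl (σ i)) := by
      intro σ
      rw [Finset.prod_univ_sum, Finset.mul_sum]
      refine Finset.sum_congr (by simp) fun f _ => ?_
      rw [Finset.prod_mul_distrib]
      ring
    simp only [this, hNM]
    rw [Finset.sum_eq_single (1 : Equiv.Perm (Fin d))]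
    · simp
    · intro σ _ hσ
      obtain ⟨i, hi⟩ : ∃ i, σ i ≠ i := by
        by_contra hcon
        push Not at hcon
        exact hσ (Equiv.ext hcon)
      rw [Finset.prod_eq_zero (Finset.mem_univ i), mul_zero]
      rw [if_neg]
      simpa using hi.symm
    · simp
  have hcu : IsUnit c := by
    refine IsUnit.of_mul_eq_one (∑ f : Fin d → Fin d ⊕ Fin m, (∏ i, N (Sum.inl i) (f i)) *
      alt R d m f) ?_
    rw [← h1, Finset.mul_sum]
    refine Finset.sum_congr rfl fun f _ => ?_
    rw [hc]
    ring
  set P : Matrix (Fin d) (Fin d) R := Matrix.of fun i j : Fin d => M (Sum.inl i) (Sum.inl j)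
    with hP
  have hdet : P.det = c := by
    have := hc (fun i => Sum.inl i)
    rw [alt_inl, one_mul] at this
    exact this
  have hcr : Matrix.cramer P.transpose (fun j => M (Sum.inr i) (Sum.inl j)) = 0 := by
    funext l
    rw [Matrix.cramer_transpose_apply]
    have h2 : P.updateRow l (fun j => M (Sum.inr i) (Sum.inl j)) =
        Matrix.of fun i' j : Fin d =>
          M (Function.update (fun i => (Sum.inl i : Fin d ⊕ Fin m)) l (Sum.inr i) i')
            (Sum.inl j) := by
      ext i' j
      rw [Matrix.updateRow_apply, Matrix.of_apply, Function.update_apply]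
      split_ifs with h
      · rfl
      · rfl
    rw [h2]
    have h3 := hc (Function.update (fun i => (Sum.inl i : Fin d ⊕ Fin m)) l (Sum.inr i))
    rw [alt_eq_zero_of_inr _ l i (by simp), zero_mul] at h3
    exact h3
  have h4 := Matrix.mulVec_cramer P.transpose (fun j => M (Sum.inr i) (Sum.inl j))
  rw [hcr, Matrix.mulVec_zero, Matrix.det_transpose, hdet] at h4
  have h5 := congrFun h4 j
  simp only [Pi.zero_apply, Pi.smul_apply, smul_eq_mul] at h5
  exact (hcu.mul_right_eq_zero.mp h5.symm)

end Minors

end Groth.Agent.Sga3C.LineStab
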