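import Mathlib.AlgebraicGeometry.Morphisms.ClosedImmersion
import Mathlib.AlgebraicGeometry.IdealSheaf.Functorial
import Mathlib.CategoryTheory.Monoidal.Cartesian.Over
import Mathlib.CategoryTheory.Monoidal.Cartesian.Grp

/-!
# Closed subgroup schemes

* `grpObjOfMono` : a subobject of a group object through which unit, product and inverse factor is a
  group object;
* `factors_iff` : a morphism factors through a closed immersion iff the kernels are comparable.
-/

set_option autoImplicit false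
universe u v w

open CategoryTheory MonoidalCategory CartesianMonoidalCategory MonObj GrpObj AlgebraicGeometry Limits

namespace Groth.Agent.Sga3C.ClosedSub

section cat

variable {C : Type u} [Category.{v} C] [CartesianMonoidalCategory C] {G Z : C} [GrpObj G]

/-- The group structure on a subobject through which the unit, the product and the inverse factor. -/
@[reducible]
def grpObjOfMono (i : Z ⟶ G) [Mono i] (e : 𝟙_ C ⟶ Z) (he : e ≫ i = η[G])
    (m : Z ⊗ Z ⟶ Z) (hm : m ≫ i = (i ⊗ₘ i) ≫ μ[G])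
    (v : Z ⟶ Z) (hv : v ≫ i = i ≫ ι[G]) : GrpObj Z where
  one := e
  mul := m
  one_mul := by
    rw [← cancel_mono i, Category.assoc, hm, whiskerRight_comp_tensorHom_assoc, he]
    have : (η[G] ⊗ₘ i) ≫ μ[G] = (𝟙_ C ◁ i) ≫ (η[G] ▷ G) ≫ μ[G] := by
      rw [tensorHom_def' η[G] i]; simp
    rw [this, MonObj.one_mul]; simp
  mul_one := by
    rw [← cancel_mono i, Category.assoc, hm, whiskerLeft_comp_tensorHom_assoc, he]
    have : (i ⊗ₘ η[G]) ≫ μ[G] = (i ▷ 𝟙_ C) ≫ (G ◁ η[G]) ≫ μ[G] := by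
      rw [tensorHom_def i η[G]]; simp
    rw [this, MonObj.mul_one]; simp
  mul_assoc := by
    rw [← cancel_mono i]
    simp only [Category.assoc, hm, whiskerRight_comp_tensorHom_assoc,
      whiskerLeft_comp_tensorHom_assoc]
    have h1 : (((i ⊗ₘ i) ≫ μ[G]) ⊗ₘ i) ≫ μ[G] = ((i ⊗ₘ i) ⊗ₘ i) ≫ (μ[G] ▷ G) ≫ μ[G] := by
      rw [tensorHom_comp_whiskerRight_assoc]
    have h2 : (i ⊗ₘ ((i ⊗ₘ i) ≫ μ[G])) ≫ μ[G] = (i ⊗ₘ (i ⊗ₘ i)) ≫ (G ◁ μ[G]) ≫ μ[G] := by
      rw [tensorHom_comp_whiskerLeft_assoc]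
    rw [h1, h2, MonObj.mul_assoc]
    simp
  inv := v
  left_inv := by
    rw [← cancel_mono i]
    simp only [Category.assoc, hm, he, lift_map_assoc, hv, Category.id_comp]
    have : lift (i ≫ ι[G]) i ≫ μ[G] = i ≫ lift ι[G] (𝟙 G) ≫ μ[G] := by simp
    rw [this, GrpObj.left_inv]; simp
  right_inv := by
    rw [← cancel_mono i]
    simp only [Category.assoc, hm, he, lift_map_assoc, hv, Category.id_comp]
    have : lift i (i ≫ ι[G]) ≫ μ[G] = i ≫ lift (𝟙 G) ι[G] ≫ μ[G] := by simp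
    rw [this, GrpObj.right_inv]; simp

lemma isMonHom_grpObjOfMono (i : Z ⟶ G) [Mono i] (e : 𝟙_ C ⟶ Z) (he : e ≫ i = η[G])
    (m : Z ⊗ Z ⟶ Z) (hm : m ≫ i = (i ⊗ₘ i) ≫ μ[G])
    (v : Z ⟶ Z) (hv : v ≫ i = i ≫ ι[G]) :
    let _ := grpObjOfMono i e he m hm v hv
    IsMonHom i := by
  let _ := grpObjOfMono i e he m hm v hv
  exact { one_hom := he, mul_hom := hm }

/-- Existence form of `grpObjOfMono`. -/
lemma exists_grpObj_of_mono (i : Z ⟶ G) [Mono i] (he : ∃ e : 𝟙_ C ⟶ Z, e ≫ i = η[G])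
    (hm : ∃ m : Z ⊗ Z ⟶ Z, m ≫ i = (i ⊗ₘ i) ≫ μ[G])
    (hv : ∃ v : Z ⟶ Z, v ≫ i = i ≫ ι[G]) :
    ∃ _ : GrpObj Z, IsMonHom i := by
  obtain ⟨e, he⟩ := he
  obtain ⟨m, hm⟩ := hm
  obtain ⟨v, hv⟩ := hv
  exact ⟨grpObjOfMono i e he m hm v hv, isMonHom_grpObjOfMono i e he m hm v hv⟩

end cat

section scheme

variable {X Y Z : Scheme.{u}}

/-- `h` factors through the closed immersion `i` iff `ker i ≤ ker h`. -/
lemma factors_iff (i : Z ⟶ Y) [IsClosedImmersion i] (h : X ⟶ Y) :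
    (∃ h' : X ⟶ Z, h' ≫ i = h) ↔ i.ker ≤ h.ker := by
  constructor
  · rintro ⟨h', rfl⟩
    exact Scheme.Hom.le_ker_comp h' i
  · intro H
    exact ⟨IsClosedImmersion.lift i h H, IsClosedImmersion.lift_fac i h H⟩

variable {S : Scheme.{u}}

lemma over_factors_iff {X Y Z : Over S} (i : Z ⟶ Y) [IsClosedImmersion i.left] (h : X ⟶ Y) :
    (∃ h' : X ⟶ Z, h' ≫ i = h) ↔ i.left.ker ≤ h.left.ker := by
  rw [← factors_iff]
  constructor
  · rintro ⟨h', rfl⟩
    exact ⟨h'.left, by simp⟩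
  · rintro ⟨h', hh⟩
    refine ⟨Over.homMk h' ?_, ?_⟩
    · rw [← Over.w i, ← Category.assoc, hh, Over.w]
    · ext; simpa using hh

/-- the closed subobject of `Y` over `S` cut out by an ideal sheaf -/
noncomputable def sub (Y : Over S) (I : Y.left.IdealSheafData) : Over S :=
  Over.mk (I.subschemeι ≫ Y.hom)

/-- the inclusion of the closed subobject cut out by an ideal sheaf -/
noncomputable def subι (Y : Over S) (I : Y.left.IdealSheafData) : sub Y I ⟶ Y :=
  Over.homMk I.subschemeι rfl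

@[simp] lemma subι_left (Y : Over S) (I : Y.left.IdealSheafData) :
    (subι Y I).left = I.subschemeι := rfl

instance (Y : Over S) (I : Y.left.IdealSheafData) : IsClosedImmersion (subι Y I).left :=
  inferInstanceAs (IsClosedImmersion I.subschemeι)

lemma ker_subι (Y : Over S) (I : Y.left.IdealSheafData) : (subι Y I).left.ker = I := by
  rw [subι_left]; exact I.ker_subschemeι

lemma mono_of_left {X Y : Over S} (i : X ⟶ Y) [Mono i.left] : Mono i :=
  (Over.forget S).mono_of_mono_map ‹_›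

instance (Y : Over S) (I : Y.left.IdealSheafData) : Mono (subι Y I) :=
  mono_of_left _

end scheme

end Groth.Agent.Sga3C.ClosedSub
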