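import Mathlib.AlgebraicGeometry.Morphisms.ClosedImmersion
import Mathlib.AlgebraicGeometry.IdealSheaf.Functorial
import Mathlib.AlgebraicGeometry.Morphisms.Flat
import Mathlib.RingTheory.Ideal.Pure
import Mathlib.RingTheory.Flat.Localization

/-!
# Flat closed immersions and closed subsets stable under generization (Stacks 04PW)
-/

set_option autoImplicit false
universe u v w

open CategoryTheory AlgebraicGeometry Limits TopologicalSpace

namespace Groth.Agent.Sga3C.FlatClosed

section algebra

variable {R : Type u} [CommRing R]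

/-- A closed subset of `Spec R` stable under generization is the zero locus of a pure ideal. -/
theorem exists_pure {C : Set (PrimeSpectrum R)} (hC : IsClosed C)
    (hg : StableUnderGeneralization C) :
    ∃ J : Ideal R, J.Pure ∧ PrimeSpectrum.zeroLocus (J : Set R) = C := by
  obtain ⟨I, -, rfl⟩ := (PrimeSpectrum.isClosed_iff_zeroLocus_radical_ideal C).mp hC
  let S : Submonoid R :=
    { carrier := {s | s - 1 ∈ I}
      one_mem' := by simp
      mul_mem' := fun {a b} ha hb ↦ by
        have : a * b - 1 = a * (b - 1) + (a - 1) := by ring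
        change a * b - 1 ∈ I
        rw [this]
        exact I.add_mem (I.mul_mem_left _ hb) ha }
  have hS : ∀ s ∈ S, ∀ p : PrimeSpectrum R, I ≤ p.asIdeal → s ∉ p.asIdeal := by
    intro s hs p hp hsp
    have h1 : s - 1 ∈ p.asIdeal := hp hs
    have h2 : (1 : R) ∈ p.asIdeal := by
      have := p.asIdeal.sub_mem hsp h1
      simpa using this
    exact p.isPrime.one_notMem h2
  -- primes not meeting `S` are in `V(I)`
  have hdisj : ∀ p : PrimeSpectrum R, (∀ s ∈ S, s ∉ p.asIdeal) → I ≤ p.asIdeal := by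
    intro p hp
    have hne : p.asIdeal ⊔ I ≠ ⊤ := by
      intro htop
      have h1 : (1 : R) ∈ p.asIdeal ⊔ I := htop ▸ Submodule.mem_top
      obtain ⟨a, ha, b, hb, hab⟩ := Submodule.mem_sup.mp h1
      refine hp a ?_ ha
      change a - 1 ∈ I
      rw [← hab, sub_add_cancel_left]
      exact I.neg_mem hb
    obtain ⟨m, hm, hle⟩ := Ideal.exists_le_maximal _ hne
    let m' : PrimeSpectrum R := ⟨m, hm.isPrime⟩
    have h1 : m' ∈ PrimeSpectrum.zeroLocus (I : Set R) := le_trans le_sup_right hle
    have h3 : p ≤ m' := show p.asIdeal ≤ m from le_trans le_sup_left hle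
    have h2 : p ⤳ m' := (PrimeSpectrum.le_iff_specializes _ _).mp h3
    exact hg h2 h1
  let J : Ideal R := RingHom.ker (algebraMap R (Localization S))
  have hJ : ∀ a, a ∈ J ↔ ∃ s ∈ S, s * a = 0 := by
    intro a
    rw [RingHom.mem_ker, ← map_zero (algebraMap R (Localization S)),
      IsLocalization.eq_iff_exists S]
    constructor
    · rintro ⟨c, hc⟩
      exact ⟨c, c.2, by simpa using hc⟩
    · rintro ⟨s, hs, h⟩
      exact ⟨⟨s, hs⟩, by simpa using h⟩
  have hzero : PrimeSpectrum.zeroLocus (J : Set R) = PrimeSpectrum.zeroLocus (I : Set R) := by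
    apply Set.Subset.antisymm
    · intro p hp
      by_contra hpI
      let M : Submonoid R := S ⊔ p.asIdeal.primeCompl
      have hM : (0 : R) ∉ M := by
        intro h0
        obtain ⟨s, hs, t, ht, hst⟩ := Submonoid.mem_sup.mp h0
        exact ht (hp ((hJ t).mpr ⟨s, hs, hst⟩))
      obtain ⟨q, hq, -, hqM⟩ := Ideal.exists_le_prime_disjoint (⊥ : Ideal R) M (by
        rw [Set.disjoint_left]
        intro x hx hxM
        rw [SetLike.mem_coe, Ideal.mem_bot] at hx
        exact hM (hx ▸ hxM))
      rw [Set.disjoint_left] at hqM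
      have h1 : I ≤ q := hdisj ⟨q, hq⟩ fun s hs hsq ↦ hqM hsq (Submonoid.mem_sup_left hs)
      have h2 : q ≤ p.asIdeal := by
        intro x hx
        by_contra hxp
        exact hqM hx (Submonoid.mem_sup_right hxp)
      exact hpI (h1.trans h2)
    · intro p hp a ha
      obtain ⟨s, hs, hsa⟩ := (hJ a).mp ha
      have h1 : s * a ∈ p.asIdeal := hsa ▸ p.asIdeal.zero_mem
      exact (p.isPrime.mem_or_mem h1).resolve_left (hS s hs p hp)
  refine ⟨J, ?_, hzero⟩
  have : IsLocalization S (R ⧸ J) := by
    refine ⟨?_, ?_, ?_⟩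
    · rintro ⟨s, hs⟩
      by_contra hcon
      obtain ⟨m, hm, hsm⟩ := exists_max_ideal_of_mem_nonunits hcon
      have h1 : (⟨m.comap (Ideal.Quotient.mk J), inferInstance⟩ : PrimeSpectrum R) ∈
          PrimeSpectrum.zeroLocus (J : Set R) := by
        intro a ha
        change Ideal.Quotient.mk J a ∈ m
        rw [Ideal.Quotient.eq_zero_iff_mem.mpr ha]
        exact m.zero_mem
      rw [hzero] at h1
      exact hS s hs _ h1 hsm
    · intro z
      obtain ⟨r, rfl⟩ := Ideal.Quotient.mk_surjective z
      exact ⟨(r, 1), by simp⟩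
    · intro x y hxy
      have : x - y ∈ J := Ideal.Quotient.eq.mp hxy
      obtain ⟨s, hs, h⟩ := (hJ _).mp this
      exact ⟨⟨s, hs⟩, by simpa [mul_sub, sub_eq_zero] using h⟩
  exact IsLocalization.flat (R ⧸ J) S

lemma pure_map {S : Type v} [CommRing S] (φ : R →+* S) (J : Ideal R) [J.Pure] :
    (J.map φ).Pure := by
  algebraize [φ]
  have : Module.Flat S (TensorProduct R S (R ⧸ J)) := inferInstance
  exact Module.Flat.of_linearEquiv
    (Algebra.TensorProduct.quotIdealMapEquivTensorQuot S J).toLinearEquiv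

end algebra

section scheme

variable {X : Scheme.{u}}

lemma map_eq_of_pure {C : Set X} {U V : X.Opens} (hU : IsAffineOpen U) (hV : IsAffineOpen V)
    (i : V ≤ U) (J : Ideal Γ(X, U)) (J' : Ideal Γ(X, V)) (hJ : J.Pure) (hJ' : J'.Pure)
    (h : PrimeSpectrum.zeroLocus (J : Set Γ(X, U)) = hU.fromSpec ⁻¹' C)
    (h' : PrimeSpectrum.zeroLocus (J' : Set Γ(X, V)) = hV.fromSpec ⁻¹' C) :
    J.map (X.presheaf.map (homOfLE i).op).hom = J' := by
  have := pure_map (X.presheaf.map (homOfLE i).op).hom J
  rw [← Ideal.zeroLocus_inj_of_pure, h', Ideal.map, PrimeSpectrum.zeroLocus_span,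
    ← PrimeSpectrum.preimage_comap_zeroLocus, h, ← hU.map_fromSpec hV (homOfLE i).op]
  rfl

/-- for each affine open, the pure ideal with zero locus `C` -/
lemma exists_pure_ideal {C : Set X} (hC : IsClosed C) (hg : StableUnderGeneralization C)
    (U : X.affineOpens) :
    ∃ J : Ideal Γ(X, U), J.Pure ∧ PrimeSpectrum.zeroLocus (J : Set Γ(X, U)) = U.2.fromSpec ⁻¹' C :=
  exists_pure (hC.preimage U.2.fromSpec.continuous)
    (hg.preimage U.2.fromSpec.continuous)

lemma mem_iff_mem_zeroLocus {C : Set X} {U : X.Opens} (hU : IsAffineOpen U)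
    (J : Ideal Γ(X, U)) (h : PrimeSpectrum.zeroLocus (J : Set Γ(X, U)) = hU.fromSpec ⁻¹' C)
    (x : X) (hx : x ∈ U) : x ∈ C ↔ x ∈ X.zeroLocus (U := U) J := by
  obtain ⟨y, rfl⟩ : x ∈ Set.range hU.fromSpec := by rw [hU.range_fromSpec]; exact hx
  rw [← Set.mem_preimage, ← h, ← hU.fromSpec_preimage_zeroLocus]
  rfl

/-- the flat closed subscheme structure on a closed subset stable under generization -/
noncomputable def flatIdeal {C : Set X} (hC : IsClosed C) (hg : StableUnderGeneralization C) :
    X.IdealSheafData :=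
  Scheme.IdealSheafData.mkOfMemSupportIff
    (fun U ↦ (exists_pure_ideal hC hg U).choose)
    (fun U f ↦ map_eq_of_pure U.2 (X.affineBasicOpen f).2 (X.basicOpen_le f) _ _
      (exists_pure_ideal hC hg U).choose_spec.1
      (exists_pure_ideal hC hg (X.affineBasicOpen f)).choose_spec.1
      (exists_pure_ideal hC hg U).choose_spec.2
      (exists_pure_ideal hC hg (X.affineBasicOpen f)).choose_spec.2)
    C
    (fun U x hx ↦ mem_iff_mem_zeroLocus U.2 _ (exists_pure_ideal hC hg U).choose_spec.2 x hx)

variable {C : Set X} (hC : IsClosed C) (hg : StableUnderGeneralization C)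

lemma support_flatIdeal : ((flatIdeal hC hg).support : Set X) = C := rfl

lemma range_subschemeι_flatIdeal : Set.range (flatIdeal hC hg).subschemeι = C := by
  rw [Scheme.IdealSheafData.range_subschemeι]; rfl

lemma pure_flatIdeal (U : X.affineOpens) : ((flatIdeal hC hg).ideal U).Pure :=
  (exists_pure_ideal hC hg U).choose_spec.1

lemma zeroLocus_flatIdeal (U : X.affineOpens) :
    PrimeSpectrum.zeroLocus ((flatIdeal hC hg).ideal U : Set Γ(X, U)) = U.2.fromSpec ⁻¹' C :=
  (exists_pure_ideal hC hg U).choose_spec.2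

/-- the universal property: a morphism factors through `V(flatIdeal)` iff it does topologically -/
lemma flatIdeal_le_ker {T : Scheme.{u}} (h : T ⟶ X) (hT : Set.range h ⊆ C) :
    flatIdeal hC hg ≤ h.ker := by
  rw [Scheme.Hom.ker, Scheme.IdealSheafData.le_ofIdeals_iff]
  intro U a ha
  have := pure_flatIdeal hC hg U
  obtain ⟨y, hy, hay⟩ := Ideal.exists_eq_mul_of_pure ha
  have h1 : IsUnit ((h.app U.1).hom (1 - y)) := by
    refine RingedSpace.isUnit_of_isUnit_germ _ _ _ fun x hx ↦ ?_
    refine (T.mem_basicOpen _ x hx).mp ?_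
    have h3 : x ∈ h ⁻¹ᵁ X.basicOpen (1 - y) := by
      have h4 : h x ∈ X.basicOpen (y + (1 - y)) := by
        rw [add_sub_cancel, Scheme.basicOpen_one]; exact hx
      have h5 : h x ∈ X.zeroLocus (U := U.1) ((flatIdeal hC hg).ideal U : Set Γ(X, U)) :=
        (mem_iff_mem_zeroLocus U.2 _ (zeroLocus_flatIdeal hC hg U) (h x) hx).mp (hT ⟨x, rfl⟩)
      rw [Scheme.mem_zeroLocus_iff] at h5
      exact (X.basicOpen_add_le _ _ h4).resolve_left (h5 y hy)
    rwa [Scheme.preimage_basicOpen] at h3
  have h2 : (h.app U.1).hom a * (h.app U.1).hom (1 - y) = 0 := by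
    rw [← map_mul, mul_sub, mul_one, ← hay, sub_self, map_zero]
  exact (h1.mul_left_eq_zero).mp h2

instance flat_subschemeι_flatIdeal : Flat (flatIdeal hC hg).subschemeι := by
  rw [IsZariskiLocalAtSource.iff_of_openCover (P := @Flat)
    (flatIdeal hC hg).subschemeCover.openCover]
  intro U
  change Flat ((flatIdeal hC hg).subschemeCover.f U ≫ (flatIdeal hC hg).subschemeι)
  rw [Scheme.IdealSheafData.subschemeCover_map_subschemeι,
    Scheme.IdealSheafData.glueDataObjι_ι]
  have : Flat (Spec.map (CommRingCat.ofHom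
      (Ideal.Quotient.mk ((flatIdeal hC hg).ideal U)))) := by
    rw [Flat.SpecMap_iff]
    exact pure_flatIdeal hC hg U
  have hU : IsAffineOpen U.1 := U.2
  have h2 : Flat hU.fromSpec := inferInstance
  exact MorphismProperty.comp_mem @Flat _ _ this h2

end scheme

end Groth.Agent.Sga3C.FlatClosed
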