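import Mathlib.AlgebraicGeometry.Morphisms.Flat
import Mathlib.AlgebraicGeometry.GammaSpecAdjunction
import Mathlib.AlgebraicGeometry.AffineScheme
import Mathlib.CategoryTheory.Monoidal.Cartesian.Over
import Mathlib.CategoryTheory.Monoidal.Cartesian.Grp

/-!
# Affinization of schemes and group schemes over a field

For a qcqs scheme `X` over a field `k`, `Γ(X × Y) = Γ(X) ⊗ Γ(Y)`; hence for a qcqs group scheme `G` over `k`,
`Spec Γ(G)` is a group scheme and `G ⟶ Spec Γ(G)` is a homomorphism.
-/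

set_option autoImplicit false
universe u
open CategoryTheory MonoidalCategory CartesianMonoidalCategory MonObj GrpObj AlgebraicGeometry Limits

namespace Groth.Agent.Sga3C.Affinization

/-- A morphism `a : X ⟶ X'` over `S` is an affinization when `X'` is affine and `Γ(X') ≅ Γ(X)`. -/
structure IsAffinization {S : Scheme.{u}} {X X' : Over S} (a : X ⟶ X') : Prop where
  isAffine : IsAffine X'.left
  isIso : IsIso a.left.appTop

/-- For `Z` affine a ring map `Γ(Z) ⟶ Γ(X)` comes from a morphism `X ⟶ Z`. -/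
theorem exists_appTop_eq {X Z : Scheme.{u}} [IsAffine Z] (φ : Γ(Z, ⊤) ⟶ Γ(X, ⊤)) :
    ∃ g : X ⟶ Z, g.appTop = φ := by
  refine ⟨X.toSpecΓ ≫ Spec.map φ ≫ Z.isoSpec.inv, ?_⟩
  have h1 : Z.isoSpec.inv.appTop = (Scheme.ΓSpecIso Γ(Z, ⊤)).inv := by
    have h2 : Z.isoSpec.hom.appTop = (Scheme.ΓSpecIso Γ(Z, ⊤)).hom := Z.toSpecΓ_appTop
    have h3 : Z.isoSpec.inv.appTop ≫ Z.isoSpec.hom.appTop = 𝟙 _ := by
      rw [← Scheme.Hom.comp_appTop, Iso.hom_inv_id, Scheme.Hom.id_appTop]
    rw [h2] at h3
    rw [← cancel_mono (Scheme.ΓSpecIso Γ(Z, ⊤)).hom, h3, Iso.inv_hom_id]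
  rw [Scheme.Hom.comp_appTop, Scheme.Hom.comp_appTop, h1, Scheme.toSpecΓ_appTop, Category.assoc,
    Scheme.ΓSpecIso_naturality, Iso.inv_hom_id_assoc]

variable {S : Scheme.{u}} {X X' : Over S} {a : X ⟶ X'}

theorem IsAffinization.hom_ext (ha : IsAffinization a) {Z : Over S} [IsAffine Z.left] {g₁ g₂ : X' ⟶ Z}
    (h : a ≫ g₁ = a ≫ g₂) : g₁ = g₂ := by
  have := ha.isIso
  apply Over.OverMorphism.ext
  apply ext_of_isAffine
  have h1 : (a ≫ g₁).left.appTop = (a ≫ g₂).left.appTop := by rw [h]
  simp only [Over.comp_left, Scheme.Hom.comp_appTop] at h1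
  exact (cancel_mono _).mp h1

theorem IsAffinization.exists_fac (ha : IsAffinization a) [IsAffine S] {Z : Over S} [IsAffine Z.left] (h : X ⟶ Z) :
    ∃ g : X' ⟶ Z, a ≫ g = h := by
  have := ha.isIso
  have := ha.isAffine
  obtain ⟨g, hg⟩ := exists_appTop_eq (X := X'.left) (Z := Z.left) (h.left.appTop ≫ inv a.left.appTop)
  refine ⟨Over.homMk g ?_, ?_⟩
  · apply ext_of_isAffine
    rw [Scheme.Hom.comp_appTop, hg, ← cancel_mono a.left.appTop, Category.assoc, Category.assoc, IsIso.inv_hom_id,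
      Category.comp_id, ← Scheme.Hom.comp_appTop, ← Scheme.Hom.comp_appTop, Over.w, Over.w]
  · apply Over.OverMorphism.ext
    apply ext_of_isAffine
    simp only [Over.comp_left, Scheme.Hom.comp_appTop, Over.homMk_left]
    rw [hg, Category.assoc, IsIso.inv_hom_id, Category.comp_id]

/-- Any ring map out of `Γ(Spec k, ⊤)`, `k` a field, is flat. -/
theorem flat_of_field (k : Type u) [Field k] {R : CommRingCat.{u}} (φ : Γ(Spec (CommRingCat.of k), ⊤) ⟶ R) :
    φ.hom.Flat := by
  have h1 : ((Scheme.ΓSpecIso (CommRingCat.of k)).inv ≫ φ).hom.Flat := by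
    let := ((Scheme.ΓSpecIso (CommRingCat.of k)).inv ≫ φ).hom.toAlgebra
    change Module.Flat k R
    infer_instance
  have h2 : (Scheme.ΓSpecIso (CommRingCat.of k)).hom.hom.Flat :=
    RingHom.Flat.of_bijective (ConcreteCategory.bijective_of_isIso (Scheme.ΓSpecIso (CommRingCat.of k)).hom)
  have h3 : φ = (Scheme.ΓSpecIso (CommRingCat.of k)).hom ≫ (Scheme.ΓSpecIso (CommRingCat.of k)).inv ≫ φ := by
    rw [Iso.hom_inv_id_assoc]
  rw [h3, CommRingCat.hom_comp]
  exact RingHom.Flat.comp h2 h1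

/-- Künneth in degree zero: for qcqs schemes over a field, global sections of the product are the tensor
product. -/
theorem isPushout_appTop (k : Type u) [Field k] (X Y : Over (Spec (CommRingCat.of k))) [CompactSpace X.left]
    [QuasiSeparatedSpace X.left] [CompactSpace Y.left] [QuasiSeparatedSpace Y.left] :
    IsPushout X.hom.appTop Y.hom.appTop (fst X Y).left.appTop (snd X Y).left.appTop := by
  have H : IsPullback (fst X Y).left (snd X Y).left X.hom Y.hom := IsPullback.of_hasPullback X.hom Y.hom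
  have h1 := isIso_pushoutSection_of_isCompact_of_flat_right_of_ringHomFlat (US := ⊤) (UT := ⊤) (UX := ⊤) (UY := ⊤) H
    (by simp) (by simp) (by simp) (isAffineOpen_top _) CompactSpace.isCompact_univ isQuasiSeparated_univ
    CompactSpace.isCompact_univ isQuasiSeparated_univ (flat_of_field k _)
  have h2 := (isIso_pushoutSection_iff ..).mp h1
  have e : ∀ {A B : Scheme.{u}} (f : A ⟶ B) (h : (⊤ : A.Opens) ≤ f ⁻¹ᵁ ⊤), f.appLE ⊤ ⊤ h = f.appTop :=
    fun f _ => Scheme.Hom.appLE_eq_app f
  simpa only [e] using h2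

/-- The product of two affinizations (of qcqs schemes over a field) is an affinization. -/
theorem IsAffinization.tensor (k : Type u) [Field k] {X Y X' Y' : Over (Spec (CommRingCat.of k))}
    [CompactSpace X.left] [QuasiSeparatedSpace X.left] [CompactSpace Y.left] [QuasiSeparatedSpace Y.left]
    {a : X ⟶ X'} {b : Y ⟶ Y'} (ha : IsAffinization a) (hb : IsAffinization b) : IsAffinization (a ⊗ₘ b) := by
  have := ha.isAffine
  have := hb.isAffine
  refine ⟨inferInstanceAs (IsAffine (Limits.pullback X'.hom Y'.hom)), ?_⟩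
  have := ha.isIso
  have := hb.isIso
  have h1 := isPushout_appTop k X Y
  have h2 := isPushout_appTop k X' Y'
  have ea : X'.hom.appTop ≫ a.left.appTop = X.hom.appTop := by
    rw [← Scheme.Hom.comp_appTop, Over.w]
  have eb : Y'.hom.appTop ≫ b.left.appTop = Y.hom.appTop := by
    rw [← Scheme.Hom.comp_appTop, Over.w]
  have h3 : IsPushout X'.hom.appTop Y'.hom.appTop (a.left.appTop ≫ (fst X Y).left.appTop)
      (b.left.appTop ≫ (snd X Y).left.appTop) :=
    h1.of_iso (Iso.refl _) (asIso a.left.appTop).symm (asIso b.left.appTop).symm (Iso.refl _)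
      (by simp [← ea]) (by simp [← eb]) (by simp) (by simp)
  have h4 : (a ⊗ₘ b).left.appTop = (h2.isoIsPushout _ _ h3).hom := by
    apply h2.hom_ext
    · rw [IsPushout.inl_isoIsPushout_hom, ← Scheme.Hom.comp_appTop, ← Scheme.Hom.comp_appTop,
        ← Over.comp_left, ← Over.comp_left, tensorHom_fst]
    · rw [IsPushout.inr_isoIsPushout_hom, ← Scheme.Hom.comp_appTop, ← Scheme.Hom.comp_appTop,
        ← Over.comp_left, ← Over.comp_left, tensorHom_snd]
  rw [h4]
  infer_instance

theorem IsAffinization.id {S : Scheme.{u}} (X : Over S) [IsAffine X.left] : IsAffinization (𝟙 X) :=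
  ⟨inferInstance, by rw [Over.id_left, Scheme.Hom.id_appTop]; infer_instance⟩

/-- The canonical affinization `X ⟶ Spec Γ(X)`. -/
noncomputable def affOver {R : Type u} [CommRing R] (X : Over (Spec (CommRingCat.of R))) :
    Over (Spec (CommRingCat.of R)) :=
  Over.mk (Spec.map ((Scheme.ΓSpecIso (CommRingCat.of R)).inv ≫ X.hom.appTop))

/-- The canonical map `X ⟶ Spec Γ(X)` over the base. -/
noncomputable def toAff {R : Type u} [CommRing R] (X : Over (Spec (CommRingCat.of R))) : X ⟶ affOver X :=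
  Over.homMk X.left.toSpecΓ (by
    dsimp [affOver]
    rw [Spec.map_comp, ← Scheme.toSpecΓ_naturality_assoc]
    simp)

theorem isAffinization_toAff {R : Type u} [CommRing R] (X : Over (Spec (CommRingCat.of R))) :
    IsAffinization (toAff X) :=
  ⟨inferInstanceAs (IsAffine (Spec _)), by
    change IsIso X.left.toSpecΓ.appTop
    rw [Scheme.toSpecΓ_appTop]; infer_instance⟩

end Groth.Agent.Sga3C.Affinization
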