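import Groth.Agent.Sga3C.SchemImage
import Groth.Agent.Sga3C.GrpBasic
import Mathlib.AlgebraicGeometry.Geometrically.Irreducible

/-!
# Commutation with a geometrically irreducible group scheme can be checked near the unit section
-/

set_option autoImplicit false

universe u

open CategoryTheory MonoidalCategory CartesianMonoidalCategory AlgebraicGeometry Limits MonObj GrpObj

namespace Groth.Agent.Sga3C.CentDom

variable {S : Scheme.{u}} {G : Over S} [GrpObj G]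

/-- every point of `N × G` is a product (relative to `N`) of two points in a neighbourhood `W` of the
unit section. -/
theorem exists_mul_eq_rel [GeometricallyIrreducible G.hom] [UniversallyOpen G.hom] (N : Over S)
    (W : (N ⊗ G).left.Opens)
    (hW : ∀ v : (N ⊗ G).left, (snd N G).left v ∈ Set.range (η[G] : 𝟙_ (Over S) ⟶ G).left → v ∈ W)
    (p : (N ⊗ G).left) :
    ∃ κ : (N ⊗ (G ⊗ G) : Over S).left, (N ◁ fst G G).left κ ∈ W ∧ (N ◁ snd G G).left κ ∈ W ∧
      (N ◁ μ[G]).left κ = p := by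
  let P : Over S := N ⊗ G
  let q : P ⊗ G ⟶ P := fst P G
  let y : P ⊗ G ⟶ G := snd P G
  let n : P ⊗ G ⟶ N := q ≫ fst N G
  let x : P ⊗ G ⟶ G := q ≫ snd N G
  let a : P ⊗ G ⟶ N ⊗ G := lift n y
  let b : P ⊗ G ⟶ N ⊗ G := lift n (y⁻¹ * x)
  have hqL : q.left = pullback.fst P.hom G.hom := rfl
  have : UniversallyOpen q.left := by rw [hqL]; infer_instance
  have : GeometricallyIrreducible q.left := by rw [hqL]; infer_instance
  have hp0 : (lift (fst N G) 1 : N ⊗ G ⟶ N ⊗ G).left p ∈ W := by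
    refine hW _ ⟨(toUnit (N ⊗ G)).left p, ?_⟩
    rw [← Scheme.Hom.comp_apply, ← Over.comp_left, ← Scheme.Hom.comp_apply, ← Over.comp_left,
      lift_snd]
    rfl
  have h1 : ∃ w : (P ⊗ G).left, q.left w = p ∧ a.left w ∈ W := by
    refine ⟨(lift (𝟙 P) 1 : P ⟶ P ⊗ G).left p, ?_, ?_⟩
    · rw [← Scheme.Hom.comp_apply, ← Over.comp_left, lift_fst]
      rfl
    · rw [← Scheme.Hom.comp_apply, ← Over.comp_left]
      have e : (lift (𝟙 P) 1 : P ⟶ P ⊗ G) ≫ a = lift (fst N G) 1 := by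
        simp [a, n, y, q, P]
      rw [e]
      exact hp0
  have h2 : ∃ w : (P ⊗ G).left, q.left w = p ∧ b.left w ∈ W := by
    refine ⟨(lift (𝟙 P) (snd N G) : P ⟶ P ⊗ G).left p, ?_, ?_⟩
    · rw [← Scheme.Hom.comp_apply, ← Over.comp_left, lift_fst]
      rfl
    · rw [← Scheme.Hom.comp_apply, ← Over.comp_left]
      have e : (lift (𝟙 P) (snd N G) : P ⟶ P ⊗ G) ≫ b = lift (fst N G) 1 := by
        have e1 : (lift (𝟙 P) (snd N G) : P ⟶ P ⊗ G) ≫ (y⁻¹ * x) = 1 := by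
          rw [MonObj.comp_mul, GrpObj.comp_inv]
          simp [y, x, q, P]
        have e2 : (lift (𝟙 P) (snd N G) : P ⟶ P ⊗ G) ≫ n = fst N G := by
          simp [n, q, P]
        rw [comp_lift, e1, e2]
      rw [e]
      exact hp0
  obtain ⟨w, hw1, hw2, hw3⟩ :
      ∃ w : (P ⊗ G).left, q.left w = p ∧ a.left w ∈ W ∧ b.left w ∈ W := by
    have hirr := q.left.isIrreducible_preimage q.left.isOpenMap (isIrreducible_singleton (x := p))
    obtain ⟨a', ha1, ha2⟩ := h1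
    obtain ⟨b', hb1, hb2⟩ := h2
    obtain ⟨w, hw1, hw2, hw3⟩ := hirr.isPreirreducible (a.left ⁻¹' W) (b.left ⁻¹' W)
      (W.isOpen.preimage a.left.continuous) (W.isOpen.preimage b.left.continuous)
      ⟨a', ha1, ha2⟩ ⟨b', hb1, hb2⟩
    exact ⟨w, hw1, hw2, hw3⟩
  let φ : P ⊗ G ⟶ N ⊗ (G ⊗ G) := lift n (lift y (y⁻¹ * x))
  refine ⟨φ.left w, ?_, ?_, ?_⟩
  · have e : φ ≫ (N ◁ fst G G) = a := by
      simp [φ, a]
    rw [← Scheme.Hom.comp_apply, ← Over.comp_left, e]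
    exact hw2
  · have e : φ ≫ (N ◁ snd G G) = b := by
      simp [φ, b]
    rw [← Scheme.Hom.comp_apply, ← Over.comp_left, e]
    exact hw3
  · have e : φ ≫ (N ◁ μ[G]) = q := by
      have e1 : φ ≫ (N ◁ μ[G]) = lift n (y * (y⁻¹ * x)) := by
        simp only [φ, lift_whiskerLeft]
        rfl
      rw [e1, mul_inv_cancel_left]
      ext1
      · simp [n]
      · simp [x]
    rw [← Scheme.Hom.comp_apply, ← Over.comp_left, e]
    exact hw1

theorem flat_mul [Flat G.hom] : Flat (μ[G] : G ⊗ G ⟶ G).left := by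
  have h : (GrpBasic.mulLeftShear (𝟙 G)).hom ≫ snd G G = μ[G] := by
    rw [GrpBasic.mulLeftShear_hom_snd, Category.comp_id, ← MonObj.mul_eq_mul]
  rw [← h, Over.comp_left]
  have := SchemImage.flat_snd G G
  have : IsIso (GrpBasic.mulLeftShear (𝟙 G)).hom.left :=
    inferInstanceAs (IsIso ((Over.forget S).map (GrpBasic.mulLeftShear (𝟙 G)).hom))
  infer_instance

/-- If the points of `N` (mapping to `G` by `i`) commute with the points of `G` near the unit section,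
they commute with all points of `G`. -/
theorem conj_eq [GeometricallyIrreducible G.hom] [UniversallyOpen G.hom] [Flat G.hom] (N : Over S)
    (i : N ⟶ G) (W : (N ⊗ G).left.Opens)
    (hW : ∀ v : (N ⊗ G).left, (snd N G).left v ∈ Set.range (η[G] : 𝟙_ (Over S) ⟶ G).left → v ∈ W)
    (h : W.ι ≫ ((fst N G ≫ i) * snd N G * (fst N G ≫ i)⁻¹).left = W.ι ≫ (snd N G).left) :
    (fst N G ≫ i) * snd N G * (fst N G ≫ i)⁻¹ = snd N G := by
  set f := (fst N G ≫ i) * snd N G * (fst N G ≫ i)⁻¹ with hf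
  let W' : (N ⊗ (G ⊗ G) : Over S).left.Opens :=
    (N ◁ fst G G).left ⁻¹ᵁ W ⊓ (N ◁ snd G G).left ⁻¹ᵁ W
  let D : Over S := Over.mk (W'.ι ≫ (N ⊗ (G ⊗ G) : Over S).hom)
  let δ : D ⟶ N ⊗ (G ⊗ G) := Over.homMk W'.ι
  have hδr : ∀ d : D.left, (N ◁ fst G G).left (δ.left d) ∈ W ∧ (N ◁ snd G G).left (δ.left d) ∈ W :=
    fun d => (d : W').2
  -- agreement for points factoring through `W`
  have key : ∀ (c : D ⟶ N ⊗ G), (∀ d : D.left, c.left d ∈ W) → c ≫ f = c ≫ snd N G := by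
    intro c hc
    ext1
    have hr : Set.range c.left ⊆ Set.range W.ι := by
      rintro _ ⟨d, rfl⟩
      simpa using hc d
    rw [Over.comp_left, Over.comp_left, ← IsOpenImmersion.lift_fac W.ι c.left hr, Category.assoc,
      Category.assoc, h]
  have k1 := key (δ ≫ N ◁ fst G G) (fun d => (hδr d).1)
  have k2 := key (δ ≫ N ◁ snd G G) (fun d => (hδr d).2)
  have hsurj : Surjective (δ ≫ N ◁ μ[G]).left := by
    refine ⟨fun p => ?_⟩
    obtain ⟨κ, h1, h2, h3⟩ := exists_mul_eq_rel N W hW p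
    refine ⟨(⟨κ, h1, h2⟩ : W'), ?_⟩
    rw [Over.comp_left, Scheme.Hom.comp_apply]
    exact h3
  have hflat : Flat (δ ≫ N ◁ μ[G]).left := by
    have h1 : Flat (N ◁ μ[G]).left := by
      have := flat_mul (G := G)
      exact MorphismProperty.of_isPullback (P := @Flat)
        (SchemImage.isPullback_whiskerLeft_left μ[G] N).flip this
    have h2 : IsOpenImmersion δ.left := inferInstanceAs (IsOpenImmersion W'.ι)
    rw [Over.comp_left]
    infer_instance
  have hepi : Epi (δ ≫ N ◁ μ[G]) := by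
    have : Epi (δ ≫ N ◁ μ[G]).left := Flat.epi_of_flat_of_surjective _
    exact Over.epi_of_epi_left _
  rw [← cancel_epi (δ ≫ N ◁ μ[G])]
  have e0 : δ ≫ N ◁ μ[G] = lift (δ ≫ fst N (G ⊗ G))
      ((δ ≫ snd N (G ⊗ G) ≫ fst G G) * (δ ≫ snd N (G ⊗ G) ≫ snd G G)) := by
    ext1
    · simp
    · simp only [Category.assoc, whiskerLeft_snd, lift_snd]
      rw [← MonObj.comp_mul, ← MonObj.comp_mul, ← MonObj.mul_eq_mul]
  have e1 : δ ≫ N ◁ fst G G = lift (δ ≫ fst N (G ⊗ G)) (δ ≫ snd N (G ⊗ G) ≫ fst G G) := by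
    ext1 <;> simp
  have e2 : δ ≫ N ◁ snd G G = lift (δ ≫ fst N (G ⊗ G)) (δ ≫ snd N (G ⊗ G) ≫ snd G G) := by
    ext1 <;> simp
  have ef : ∀ (T : Over S) (z : T ⟶ N) (g : T ⟶ G), lift z g ≫ f = (z ≫ i) * g * (z ≫ i)⁻¹ := by
    intro T z g
    rw [hf, MonObj.comp_mul, MonObj.comp_mul, GrpObj.comp_inv]
    simp
  rw [e1, ef, lift_snd] at k1
  rw [e2, ef, lift_snd] at k2
  rw [e0, ef, lift_snd]
  set z := (δ ≫ fst N (G ⊗ G)) ≫ i
  set a := δ ≫ snd N (G ⊗ G) ≫ fst G G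
  set b := δ ≫ snd N (G ⊗ G) ≫ snd G G
  calc z * (a * b) * z⁻¹ = (z * a * z⁻¹) * (z * b * z⁻¹) := by group
    _ = a * b := by rw [k1, k2]

end Groth.Agent.Sga3C.CentDom
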