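import Mathlib.AlgebraicGeometry.Morphisms.UniversallyOpen
import Mathlib.AlgebraicGeometry.PullbackCarrier
import Mathlib.AlgebraicGeometry.ResidueField
import Groth.Agent.Sga3C.GrpBasic
import Groth.Agent.Sga3C.SchemImage

/-!
# Over a one-point base over which everything is universally open, a homomorphism of group schemes
whose image is locally closed has closed image
-/

set_option autoImplicit false
universe u
open CategoryTheory MonoidalCategory CartesianMonoidalCategory MonObj GrpObj AlgebraicGeometry Limits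

namespace Groth.Agent.Sga3C.LocClosedGrp

open Groth.Agent.Sga3C.SchemImage Groth.Agent.Sga3C.GrpBasic

theorem exists_preimage_of_isPullback {P X Y Z : Scheme.{u}} {a : P ⟶ X} {b : P ⟶ Y} {f : X ⟶ Z}
    {g : Y ⟶ Z} (h : IsPullback a b f g) (x : X) (y : Y) (hxy : f x = g y) :
    ∃ z : P, a z = x ∧ b z = y := by
  obtain ⟨z, hz1, hz2⟩ := Scheme.Pullback.exists_preimage_pullback x y hxy
  refine ⟨h.isoPullback.inv z, ?_, ?_⟩
  · rw [← Scheme.Hom.comp_apply, h.isoPullback_inv_fst, hz1]
  · rw [← Scheme.Hom.comp_apply, h.isoPullback_inv_snd, hz2]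

variable {S : Scheme.{u}} {G H C : Over S}

/-- lift a point of `T ⊗ H` whose second coordinate is in the image of `u`. -/
theorem exists_whiskerLeft (T : Over S) (u : G ⟶ H) (w : (T ⊗ H).left)
    (hw : (snd T H).left w ∈ Set.range u.left) : ∃ w' : (T ⊗ G).left, (T ◁ u).left w' = w := by
  obtain ⟨g, hg⟩ := hw
  obtain ⟨z, hz1, -⟩ := exists_preimage_of_isPullback (isPullback_whiskerLeft_left u T) w g hg.symm
  exact ⟨z, hz1⟩

theorem exists_whiskerRight (T : Over S) (u : G ⟶ H) (w : (H ⊗ T).left)
    (hw : (fst H T).left w ∈ Set.range u.left) : ∃ w' : (G ⊗ T).left, (u ▷ T).left w' = w := by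
  obtain ⟨g, hg⟩ := hw
  obtain ⟨z, hz1, -⟩ := exists_preimage_of_isPullback (isPullback_whiskerRight_left u T) w g hg.symm
  exact ⟨z, hz1⟩

variable [GrpObj G] [GrpObj H] (u : G ⟶ H) [IsMonHom u]

theorem mul_mem_range (z : (H ⊗ H).left) (h1 : (fst H H).left z ∈ Set.range u.left)
    (h2 : (snd H H).left z ∈ Set.range u.left) : (μ[H]).left z ∈ Set.range u.left := by
  obtain ⟨w, rfl⟩ := exists_whiskerRight H u z h1
  have h3 : (snd G H).left w ∈ Set.range u.left := by
    have : (u ▷ H).left ≫ (snd H H).left = (snd G H).left := by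
      rw [← Over.comp_left, whiskerRight_snd]
    rw [← this, Scheme.Hom.comp_apply]; exact h2
  obtain ⟨w', rfl⟩ := exists_whiskerLeft G u w h3
  refine ⟨(μ[G]).left w', ?_⟩
  have : (G ◁ u) ≫ (u ▷ H) ≫ μ[H] = μ[G] ≫ u := by
    rw [IsMonHom.mul_hom, tensorHom_def', Category.assoc]
  simp only [← Scheme.Hom.comp_apply, ← Over.comp_left]
  rw [← this, Category.assoc]

/-- the action of `G` preserves the closure of the image -/
theorem act_mem_closure (huo : ∀ T : Over S, UniversallyOpen T.hom) (w : (G ⊗ H).left)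
    (h : (snd G H).left w ∈ closure (Set.range u.left)) :
    ((u ▷ H) ≫ μ[H]).left w ∈ closure (Set.range u.left) := by
  have hopen : IsOpenMap (snd G H).left := by
    have := huo G
    rw [Over.snd_left]
    exact (pullback.snd G.hom H.hom).isOpenMap
  have hcl : (snd G H).left ⁻¹' closure (Set.range u.left) =
      closure ((snd G H).left ⁻¹' Set.range u.left) :=
    hopen.preimage_closure_eq_closure_preimage (snd G H).left.continuous _
  have hw : w ∈ closure ((snd G H).left ⁻¹' Set.range u.left) := by rw [← hcl]; exact h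
  have hmap : Set.MapsTo ((u ▷ H) ≫ μ[H]).left ((snd G H).left ⁻¹' Set.range u.left)
      (Set.range u.left) := by
    intro v hv
    obtain ⟨v', rfl⟩ := exists_whiskerLeft G u v hv
    refine ⟨(μ[G]).left v', ?_⟩
    have : (G ◁ u) ≫ (u ▷ H) ≫ μ[H] = μ[G] ≫ u := by
      rw [IsMonHom.mul_hom, tensorHom_def', Category.assoc]
    simp only [← Scheme.Hom.comp_apply, ← Over.comp_left]
    rw [← this]
  exact hmap.closure ((u ▷ H) ≫ μ[H]).left.continuous hw

theorem mul_mem_closure (huo : ∀ T : Over S, UniversallyOpen T.hom) (i : C ⟶ H)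
    (hi : Set.range i.left = closure (Set.range u.left)) (z : (H ⊗ H).left)
    (h1 : (fst H H).left z ∈ closure (Set.range u.left))
    (h2 : (snd H H).left z ∈ closure (Set.range u.left)) :
    (μ[H]).left z ∈ closure (Set.range u.left) := by
  rw [← hi] at h2
  obtain ⟨w, rfl⟩ := exists_whiskerLeft H i z h2
  have hopen : IsOpenMap (fst H C).left := by
    have := huo C
    rw [Over.fst_left]
    exact (pullback.fst H.hom C.hom).isOpenMap
  have hcl : (fst H C).left ⁻¹' closure (Set.range u.left) =
      closure ((fst H C).left ⁻¹' Set.range u.left) :=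
    hopen.preimage_closure_eq_closure_preimage (fst H C).left.continuous _
  have h1' : (fst H C).left w ∈ closure (Set.range u.left) := by
    have : (H ◁ i).left ≫ (fst H H).left = (fst H C).left := by
      rw [← Over.comp_left, whiskerLeft_fst]
    rw [← this, Scheme.Hom.comp_apply]; exact h1
  have hw : w ∈ closure ((fst H C).left ⁻¹' Set.range u.left) := by rw [← hcl]; exact h1'
  have hmap : Set.MapsTo ((H ◁ i) ≫ μ[H]).left ((fst H C).left ⁻¹' Set.range u.left)
      (closure (Set.range u.left)) := by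
    intro v hv
    obtain ⟨v', rfl⟩ := exists_whiskerRight C u v hv
    have e : (u ▷ C) ≫ (H ◁ i) ≫ μ[H] = (G ◁ i) ≫ (u ▷ H) ≫ μ[H] := by
      rw [whisker_exchange_assoc]
    rw [← Scheme.Hom.comp_apply, ← Over.comp_left, e, Over.comp_left, Scheme.Hom.comp_apply]
    refine act_mem_closure u huo _ ?_
    rw [← Scheme.Hom.comp_apply, ← Over.comp_left, whiskerLeft_snd, ← hi]
    exact ⟨(snd G C).left v', by rw [← Scheme.Hom.comp_apply, ← Over.comp_left]⟩
  have := hmap.closure ((H ◁ i) ≫ μ[H]).left.continuous hw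
  rw [closure_closure] at this
  rwa [Over.comp_left, Scheme.Hom.comp_apply] at this

theorem inv_mem_closure (z : H.left) (hz : z ∈ closure (Set.range u.left)) :
    (ι[H]).left z ∈ closure (Set.range u.left) := by
  have hmap : Set.MapsTo (ι[H]).left (Set.range u.left) (Set.range u.left) := by
    rintro _ ⟨g, rfl⟩
    refine ⟨(ι[G]).left g, ?_⟩
    simp only [← Scheme.Hom.comp_apply, ← Over.comp_left]
    rw [GrpObj.inv_hom]
  exact hmap.closure (ι[H]).left.continuous hz

/-- values of `lift a b` on points -/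
theorem lift_fst_apply {T X Y : Over S} (a : T ⟶ X) (b : T ⟶ Y) (w : T.left) :
    (fst X Y).left ((lift a b).left w) = a.left w := by
  rw [← Scheme.Hom.comp_apply, ← Over.comp_left, lift_fst]

theorem lift_snd_apply {T X Y : Over S} (a : T ⟶ X) (b : T ⟶ Y) (w : T.left) :
    (snd X Y).left ((lift a b).left w) = b.left w := by
  rw [← Scheme.Hom.comp_apply, ← Over.comp_left, lift_snd]

theorem mul_apply {T : Over S} (a b : T ⟶ H) (w : T.left) :
    (a * b).left w = (μ[H]).left ((lift a b).left w) := by
  rw [Hom.mul_def, Over.comp_left, Scheme.Hom.comp_apply]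

theorem inv_apply {T : Over S} (a : T ⟶ H) (w : T.left) :
    (a⁻¹).left w = (ι[H]).left (a.left w) := by
  rw [Hom.inv_def, Over.comp_left, Scheme.Hom.comp_apply]

/-- A homomorphism whose image is locally closed has closed image. -/
theorem isClosed_range_of_locallyClosed [Subsingleton S] (huo : ∀ T : Over S, UniversallyOpen T.hom)
    (i : C ⟶ H) (hi : Set.range i.left = closure (Set.range u.left)) (V : Set H.left) (hV : IsOpen V)
    (hRV : closure (Set.range u.left) ∩ V ⊆ Set.range u.left) (hVR : Set.range u.left ⊆ V) :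
    IsClosed (Set.range u.left) := by
  refine isClosed_of_closure_subset fun c hc => ?_
  -- the point `c` as a `κ(c)`-valued point
  let T : Over S := Over.mk (H.left.fromSpecResidueField c ≫ H.hom)
  let t : T ⟶ H := Over.homMk (H.left.fromSpecResidueField c)
  have ht : ∀ x : T.left, t.left x = c := fun x => Scheme.fromSpecResidueField_apply c x
  let R := Set.range u.left
  let e := invMulShear t
  let sn := (snd T H).left
  let F := sn ⁻¹' closure R
  have hR : ∀ a b : T ⊗ H ⟶ H, ∀ w, a.left w ∈ R → b.left w ∈ R → (a * b).left w ∈ R := by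
    intro a b w ha hb
    rw [mul_apply]
    exact mul_mem_range u _ (by rwa [lift_fst_apply]) (by rwa [lift_snd_apply])
  have hC : ∀ a b : T ⊗ H ⟶ H, ∀ w, a.left w ∈ closure R → b.left w ∈ closure R →
      (a * b).left w ∈ closure R := by
    intro a b w ha hb
    rw [mul_apply]
    exact mul_mem_closure u huo i hi _ (by rwa [lift_fst_apply]) (by rwa [lift_snd_apply])
  have hI : ∀ a : T ⊗ H ⟶ H, ∀ w, a.left w ∈ closure R → (a⁻¹).left w ∈ closure R := by
    intro a w ha
    rw [inv_apply]; exact inv_mem_closure u _ ha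
  have hft : ∀ w, (fst T H ≫ t).left w = c := by
    intro w
    rw [Over.comp_left, Scheme.Hom.comp_apply, ht]
  have hes : e.hom ≫ snd T H = (snd T H)⁻¹ * (fst T H ≫ t) := invMulShear_hom_snd t
  have hes' : e.inv ≫ snd T H = (fst T H ≫ t) * (snd T H)⁻¹ := by simp [e, invMulShear]
  have hmem1 : ∀ w, w ∈ F → e.hom.left w ∈ F := by
    intro w hw
    change sn (e.hom.left w) ∈ closure R
    rw [← Scheme.Hom.comp_apply, ← Over.comp_left, hes]
    exact hC _ _ w (hI _ _ hw) (by rw [hft]; exact hc)
  have hmem2 : ∀ w, w ∈ F → e.inv.left w ∈ F := by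
    intro w hw
    change sn (e.inv.left w) ∈ closure R
    rw [← Scheme.Hom.comp_apply, ← Over.comp_left, hes']
    exact hC _ _ w (by rw [hft]; exact hc) (hI _ _ hw)
  have hei : ∀ w, e.inv.left (e.hom.left w) = w := fun w => by
    rw [← Scheme.Hom.comp_apply, ← Over.comp_left, Iso.hom_inv_id]; rfl
  have hF : e.hom.left ⁻¹' F = F := by
    ext w
    refine ⟨fun h => ?_, hmem1 w⟩
    rw [← hei w]; exact hmem2 _ h
  -- density
  have hopen : IsOpenMap sn := by
    have := huo T
    change IsOpenMap (snd T H).left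
    rw [Over.snd_left]
    exact (pullback.snd T.hom H.hom).isOpenMap
  have hD1 : F = closure (sn ⁻¹' R) := hopen.preimage_closure_eq_closure_preimage sn.continuous _
  have hopen2 : IsOpenMap e.hom.left := e.hom.left.isOpenEmbedding.isOpenMap
  have hD2 : F = closure (e.hom.left ⁻¹' (sn ⁻¹' R)) := by
    rw [← hopen2.preimage_closure_eq_closure_preimage e.hom.left.continuous, ← hD1, hF]
  -- `F` is non empty
  obtain ⟨f, hf⟩ : ∃ f, f ∈ F := by
    obtain ⟨z, -, hz⟩ := Scheme.Pullback.exists_preimage_pullback (f := T.hom) (g := H.hom)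
      (IsLocalRing.closedPoint (H.left.residueField c)) c (Subsingleton.elim _ _)
    exact ⟨z, by change (snd T H).left z ∈ closure R; rw [Over.snd_left]; erw [hz]; exact hc⟩
  obtain ⟨d, hd⟩ : ∃ d, d ∈ sn ⁻¹' R := by
    rw [hD1] at hf
    exact closure_nonempty_iff.mp ⟨f, hf⟩
  have hdF : d ∈ closure (e.hom.left ⁻¹' (sn ⁻¹' R)) := by
    rw [← hD2, hD1]; exact subset_closure hd
  obtain ⟨w, hw1, hw2⟩ := mem_closure_iff.mp hdF (sn ⁻¹' V) (hV.preimage sn.continuous) (hVR hd)
  have hwF : w ∈ F := by rw [hD2]; exact subset_closure hw2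
  have hwR : (snd T H).left w ∈ R := hRV ⟨hwF, hw1⟩
  have hw2' : ((snd T H)⁻¹ * (fst T H ≫ t)).left w ∈ R := by
    rw [← hes, Over.comp_left, Scheme.Hom.comp_apply]; exact hw2
  have := hR _ _ w hwR hw2'
  rwa [mul_inv_cancel_left, hft] at this

end Groth.Agent.Sga3C.LocClosedGrp
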