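import Groth.Agent.Sga3C.FlatImage
import Groth.Agent.Sga3C.LocClosedGrp
import Groth.Agent.Sga3C.ArtinBase
import Mathlib.AlgebraicGeometry.Noetherian

/-!
# Factorisation of a homomorphism with flat kernel (faithfully flat, closed immersion)

Over a one-point base over which everything is universally open (the spectrum of a local artinian
ring): a quasi-compact homomorphism with flat kernel from a flat group scheme to a locally noetherian
group scheme is faithfully flat onto its schematic image, a closed subgroup scheme.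
-/

set_option autoImplicit false
universe u
open CategoryTheory MonoidalCategory CartesianMonoidalCategory MonObj GrpObj AlgebraicGeometry Limits

namespace Groth.Agent.Sga3C.FlatImage2

open Groth.Agent.Sga3C.FlatPt Groth.Agent.Sga3C.FlatGeneric Groth.Agent.Sga3C.SchemImage
  Groth.Agent.Sga3C.FlatImage Groth.Agent.Sga3C.LocClosedGrp

variable {S : Scheme.{u}}

/-- flatness of the target of a faithfully flat morphism -/
theorem flat_of_comp_flat_surjective {X Y Z : Scheme.{u}} (p : X ⟶ Y) (f : Y ⟶ Z) [Flat p]
    [Surjective p] [Flat (p ≫ f)] : Flat f := by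
  refine flat_of_forall_isFlatAt f fun y => ?_
  obtain ⟨x, rfl⟩ := p.surjective y
  exact IsFlatAt.of_comp (isFlatAt_of_flat p x) (isFlatAt_of_flat (p ≫ f) x)

theorem exists_factorisation [Subsingleton S] (huo : ∀ T : Over S, UniversallyOpen T.hom)
    {G H : Over S} [GrpObj G] [GrpObj H] [Flat G.hom] [IsLocallyNoetherian H.left]
    (u : G ⟶ H) [IsMonHom u] [QuasiCompact u.left] [LocallyOfFiniteType u.left]
    (hK : Flat (Limits.pullback.snd u.left (η[H] : 𝟙_ (Over S) ⟶ H).left)) :
    ∃ (C : Over S) (_ : GrpObj C) (p : G ⟶ C) (i : C ⟶ H), IsMonHom p ∧ IsMonHom i ∧ p ≫ i = u ∧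
      Flat p.left ∧ Surjective p.left ∧ LocallyOfFinitePresentation p.left ∧
      IsClosedImmersion i.left ∧ QuasiCompact p.left ∧ Flat C.hom := by
  let C : Over S := Over.mk (u.left.imageι ≫ H.hom)
  let i : C ⟶ H := Over.homMk u.left.imageι
  let p : G ⟶ C := Over.homMk u.left.toImage (by
    change u.left.toImage ≫ u.left.imageι ≫ H.hom = G.hom
    rw [Scheme.Hom.toImage_imageι_assoc, Over.w])
  have hpi : p ≫ i = u := by
    ext1
    exact Scheme.Hom.toImage_imageι _
  have hi : IsClosedImmersion i.left := inferInstanceAs (IsClosedImmersion u.left.imageι)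
  have himono : Mono i := (Over.forget S).mono_of_mono_map (inferInstanceAs (Mono i.left))
  have hqc : QuasiCompact p.left := inferInstanceAs (QuasiCompact u.left.toImage)
  have hdom : IsSchemeTheoreticallyDominant p.left := dominant_toImage u.left
  have hnoeth : IsLocallyNoetherian C.left := LocallyOfFiniteType.isLocallyNoetherian i.left
  have hflat : Flat p.left := flat_of_flat_ker u hK p i hpi
  have hlft : LocallyOfFiniteType p.left := by
    have : LocallyOfFiniteType (p.left ≫ i.left) := by
      rw [← Over.comp_left, hpi]; infer_instance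
    exact locallyOfFiniteType_of_comp p.left i.left
  have hlfp : LocallyOfFinitePresentation p.left := inferInstance
  -- closedness of the image
  have hrange : Set.range i.left = closure (Set.range u.left) := by
    change Set.range u.left.imageι = _
    rw [Scheme.IdealSheafData.range_subschemeι, Scheme.Hom.support_ker]
  have hopen : IsOpen (Set.range p.left) := p.left.isOpenMap.isOpen_range
  obtain ⟨V, hV, hV2⟩ := i.left.isClosedEmbedding.isInducing.isOpen_iff.mp hopen
  have hpir : ∀ x, i.left (p.left x) = u.left x := fun x => by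
    rw [← Scheme.Hom.comp_apply, ← Over.comp_left, hpi]
  have hcl : IsClosed (Set.range u.left) := by
    refine isClosed_range_of_locallyClosed u huo i hrange V hV ?_ ?_
    · rintro y ⟨hy1, hy2⟩
      rw [← hrange] at hy1
      obtain ⟨c, rfl⟩ := hy1
      have : c ∈ i.left ⁻¹' V := hy2
      rw [hV2] at this
      obtain ⟨x, rfl⟩ := this
      exact ⟨x, (hpir x).symm⟩
    · rintro _ ⟨x, rfl⟩
      have : p.left x ∈ i.left ⁻¹' V := by rw [hV2]; exact ⟨x, rfl⟩
      rw [← hpir]; exact this
  have hsurj : Surjective p.left := by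
    constructor
    intro c
    have h1 : i.left c ∈ Set.range u.left := by
      rw [← hcl.closure_eq, ← hrange]; exact ⟨c, rfl⟩
    obtain ⟨x, hx⟩ := h1
    refine ⟨x, i.left.isClosedEmbedding.injective ?_⟩
    rw [← hx]; exact hpir x
  -- the group structure
  have hCflat : Flat C.hom := by
    have : Flat (p.left ≫ C.hom) := by rw [Over.w]; infer_instance
    exact flat_of_comp_flat_surjective p.left C.hom
  have hm : ∃ m : C ⊗ C ⟶ C, m ≫ i = (i ⊗ₘ i) ≫ μ[H] := by
    have h1 := dominant_whiskerRight p G
    have h2 := dominant_whiskerLeft p C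
    have h3 : IsSchemeTheoreticallyDominant (p ⊗ₘ p).left := by
      rw [tensorHom_def, Over.comp_left]; infer_instance
    refine exists_lift_over (p ⊗ₘ p) ((i ⊗ₘ i) ≫ μ[H]) i (μ[G] ≫ p) ?_
    rw [tensorHom_comp_tensorHom_assoc, hpi, Category.assoc, hpi, IsMonHom.mul_hom]
  have he : ∃ e : 𝟙_ (Over S) ⟶ C, e ≫ i = η[H] :=
    ⟨η[G] ≫ p, by rw [Category.assoc, hpi, IsMonHom.one_hom]⟩
  have hv : ∃ v : C ⟶ C, v ≫ i = i ≫ ι[H] := by
    refine exists_lift_over p (i ≫ ι[H]) i (ι[G] ≫ p) ?_
    rw [Category.assoc, hpi, reassoc_of% hpi, GrpObj.inv_hom]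
  obtain ⟨gC, hgC⟩ := Groth.Agent.Sga3C.SubGrp.exists_grpObj_of_mono i hm he hv
  refine ⟨C, gC, p, i, ?_, hgC, hpi, hflat, hsurj, hlfp, hi, hqc, hCflat⟩
  have : IsMonHom (p ≫ i) := by rw [hpi]; infer_instance
  exact Groth.Agent.Sga3C.SubGrp.isMonHom_of_comp_mono p i

end Groth.Agent.Sga3C.FlatImage2
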