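import Mathlib.AlgebraicGeometry.Group.Abelian
import Mathlib.AlgebraicGeometry.Noetherian
import Mathlib.AlgebraicGeometry.Morphisms.ClosedImmersion
import Mathlib.CategoryTheory.Monoidal.Cartesian.Over
import Mathlib.CategoryTheory.Monoidal.Cartesian.Grp

/-!
# A decreasing sequence of kernels is stationary
-/

set_option autoImplicit false

universe u

open CategoryTheory MonoidalCategory CartesianMonoidalCategory AlgebraicGeometry Limits MonObj

namespace Groth.Agent.Sga3C.KerStab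

/-- an increasing sequence of quasi-coherent ideals on a noetherian scheme is bounded by one of its
members. -/
theorem exists_stable {X : Scheme.{u}} [IsNoetherian X] (I : ℕ → X.IdealSheafData)
    (hI : Monotone I) : ∃ n₀, ∀ n, I n ≤ I n₀ := by
  obtain ⟨s, hs, h⟩ := (isCompact_iff_finite_and_eq_biUnion_affineOpens (U := (⊤ : X.Opens))).mp
    isCompact_univ
  have key : ∀ U : X.affineOpens, ∃ n, ∀ m, (I m).ideal U ≤ (I n).ideal U := by
    intro U
    have : IsNoetherianRing Γ(X, U) := IsLocallyNoetherian.component_noetherian U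
    obtain ⟨n, hn⟩ := monotone_stabilizes_iff_noetherian.mpr this
      ⟨fun n => (I n).ideal U, fun a b hab => hI hab U⟩
    refine ⟨n, fun m => ?_⟩
    rcases le_total n m with hm | hm
    · exact (hn m hm).ge
    · exact hI hm U
  choose N hN using key
  obtain ⟨n₀, hn₀⟩ := (hs.image N).bddAbove
  refine ⟨n₀, fun n => ?_⟩
  refine Scheme.IdealSheafData.le_of_iSup_eq_top (fun U : s => U.1) ?_ ?_
  · rw [h, iSup_subtype]
  · rintro ⟨U, hU⟩
    exact (hN U n).trans (hI (hn₀ ⟨U, hU, rfl⟩) U)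

theorem exists_forall_comp_eq_one {S : Scheme.{u}} (G : Over S) [IsNoetherian G.left]
    (H : ℕ → Over S) [∀ n, GrpObj (H n)] (hsep : ∀ n, IsSeparated (H n).hom) (f : ∀ n, G ⟶ H n)
    (hf : ∀ n (T : Over S) (g : T ⟶ G), g ≫ f (n + 1) = 1 → g ≫ f n = 1) :
    ∃ n₀, ∀ (T : Over S) (g : T ⟶ G), g ≫ f n₀ = 1 → ∀ n, g ≫ f n = 1 := by
  have hη : ∀ n, IsClosedImmersion (η[H n] : 𝟙_ (Over S) ⟶ H n).left := by
    intro n
    have h1 : (η[H n] : 𝟙_ (Over S) ⟶ H n).left ≫ (H n).hom = 𝟙 S := Over.w η[H n]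
    have h2 : IsClosedImmersion ((η[H n] : 𝟙_ (Over S) ⟶ H n).left ≫ (H n).hom) := by
      rw [h1]; exact (inferInstance : IsClosedImmersion (𝟙 (S : Scheme.{u})))
    exact IsClosedImmersion.of_comp _ (H n).hom
  let K : ℕ → Over S := fun n =>
    Over.mk (pullback.fst (f n).left (η[H n] : 𝟙_ (Over S) ⟶ H n).left ≫ G.hom)
  let κ : ∀ n, K n ⟶ G := fun n => Over.homMk (pullback.fst (f n).left (η[H n] : 𝟙_ (Over S) ⟶ H n).left)
  have hκ : ∀ n, IsClosedImmersion (κ n).left := fun n =>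
    inferInstanceAs (IsClosedImmersion (pullback.fst (f n).left (η[H n] : 𝟙_ (Over S) ⟶ H n).left))
  have h1 : ∀ n, κ n ≫ f n = 1 := by
    intro n
    ext1
    have : (1 : K n ⟶ H n) = toUnit _ ≫ η[H n] := rfl
    rw [this]
    simp only [Over.comp_left, κ, Over.homMk_left]
    rw [pullback.condition]
    congr 1
    have h2 := Over.w (toUnit (K n))
    have h3 : (toUnit (K n)).left = (K n).hom := by
      rw [← h2]; exact (Category.comp_id _).symm
    rw [h3]
    change _ = pullback.fst _ _ ≫ G.hom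
    rw [← Over.w (f n), pullback.condition_assoc]
    have h4 : (η[H n] : 𝟙_ (Over S) ⟶ H n).left ≫ (H n).hom = 𝟙 S := Over.w η[H n]
    rw [h4]
    exact (Category.comp_id _).symm
  have h2 : ∀ n (T : Over S) (g : T ⟶ G), g ≫ f n = 1 → ∃ z : T ⟶ K n, z ≫ κ n = g := by
    intro n T g hg
    have h3 : g.left ≫ (f n).left = T.hom ≫ (η[H n] : 𝟙_ (Over S) ⟶ H n).left := by
      rw [← Over.comp_left, hg]
      have : (1 : T ⟶ H n) = toUnit _ ≫ η[H n] := rfl
      rw [this, Over.comp_left]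
      congr 1
    refine ⟨Over.homMk (pullback.lift g.left T.hom h3) ?_, ?_⟩
    · change pullback.lift g.left T.hom h3 ≫ pullback.fst _ _ ≫ G.hom = T.hom
      rw [pullback.lift_fst_assoc, Over.w]
    · ext1
      change pullback.lift g.left T.hom h3 ≫ pullback.fst _ _ = g.left
      rw [pullback.lift_fst]
  have h3 : ∀ m n, (κ m ≫ f n = 1) → (κ n).left.ker ≤ (κ m).left.ker := by
    intro m n h
    obtain ⟨z, hz⟩ := h2 n _ (κ m) h
    rw [← hz, Over.comp_left]
    exact Scheme.Hom.le_ker_comp _ _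
  obtain ⟨n₀, hn₀⟩ := exists_stable (fun n => (κ n).left.ker)
    (monotone_nat_of_le_succ fun n => h3 (n + 1) n (hf n _ _ (h1 (n + 1))))
  refine ⟨n₀, fun T g hg n => ?_⟩
  obtain ⟨z, rfl⟩ := h2 n₀ T g hg
  have h4 : ∃ l : K n₀ ⟶ K n, l ≫ κ n = κ n₀ := by
    refine ⟨Over.homMk (IsClosedImmersion.lift (κ n).left (κ n₀).left (hn₀ n)) ?_, ?_⟩
    · rw [← Over.w (κ n), ← Category.assoc, IsClosedImmersion.lift_fac, Over.w]
    · ext1
      simp only [Over.comp_left, Over.homMk_left, IsClosedImmersion.lift_fac]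
  obtain ⟨l, hl⟩ := h4
  rw [← hl, Category.assoc, Category.assoc, h1, MonObj.comp_one, MonObj.comp_one]

end Groth.Agent.Sga3C.KerStab
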