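import Groth.Agent.Sga3C.AdRepN
import Mathlib.AlgebraicGeometry.Group.Abelian
import Mathlib.AlgebraicGeometry.SpreadingOut
import Mathlib.AlgebraicGeometry.Noetherian
import Mathlib.RingTheory.Filtration

/-!
# Morphisms agreeing on all infinitesimal neighbourhoods
-/

set_option autoImplicit false

universe u

open CategoryTheory MonoidalCategory CartesianMonoidalCategory AlgebraicGeometry Limits MonObj

namespace Groth.Agent.Sga3C.KrullPt

open Sga3B.GLn Sga3B.FreeBC Sga3B.LinRep Sga3B.AdRep AdRepN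

/-- Two morphisms from the spectrum of a noetherian local ring which agree on all infinitesimal
neighbourhoods of the closed point are equal. -/
theorem ext_of_isLocalRing {R : CommRingCat.{u}} [IsLocalRing R] [IsNoetherianRing R]
    {X : Scheme.{u}} (a b : Spec R ⟶ X)
    (h : ∀ n, Spec.map (CommRingCat.ofHom (Ideal.Quotient.mk (IsLocalRing.maximalIdeal R ^ (n + 1)))) ≫ a =
      Spec.map (CommRingCat.ofHom (Ideal.Quotient.mk (IsLocalRing.maximalIdeal R ^ (n + 1)))) ≫ b) :
    a = b := by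
  have hc : a (IsLocalRing.closedPoint R) = b (IsLocalRing.closedPoint R) := by
    have hne : Nontrivial (R ⧸ IsLocalRing.maximalIdeal R ^ (0 + 1)) := by
      rw [zero_add, pow_one]
      exact Ideal.Quotient.nontrivial_iff.mpr Ideal.IsPrime.ne_top'
    obtain ⟨q⟩ : Nonempty (PrimeSpectrum (R ⧸ IsLocalRing.maximalIdeal R ^ (0 + 1))) := inferInstance
    have hq : Spec.map (CommRingCat.ofHom (Ideal.Quotient.mk (IsLocalRing.maximalIdeal R ^ (0 + 1)))) q =
        IsLocalRing.closedPoint R := by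
      apply PrimeSpectrum.ext
      have h1 : IsLocalRing.maximalIdeal R ≤ (q.asIdeal).comap
          (Ideal.Quotient.mk (IsLocalRing.maximalIdeal R ^ (0 + 1))) := by
        intro x hx
        rw [Ideal.mem_comap, Ideal.Quotient.eq_zero_iff_mem.mpr (by rwa [zero_add, pow_one])]
        exact q.asIdeal.zero_mem
      exact (Ideal.IsMaximal.eq_of_le (IsLocalRing.maximalIdeal.isMaximal R)
        (q.2.comap _).ne_top h1).symm
    have := congr(($(h 0)) q)
    rw [Scheme.Hom.comp_apply, Scheme.Hom.comp_apply, hq] at this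
    exact this
  obtain ⟨_, ⟨U, hU, rfl⟩, hxU, -⟩ :=
    X.isBasis_affineOpens.exists_subset_of_mem_open (Set.mem_univ (a (IsLocalRing.closedPoint R)))
      isOpen_univ
  have hU : IsAffineOpen U := hU
  have hra : Set.range a ⊆ Set.range hU.fromSpec := by
    rintro _ ⟨p, rfl⟩
    rw [hU.range_fromSpec]
    exact ((IsLocalRing.specializes_closedPoint p).map a.continuous).mem_open U.2 hxU
  have hrb : Set.range b ⊆ Set.range hU.fromSpec := by
    rintro _ ⟨p, rfl⟩
    rw [hU.range_fromSpec]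
    exact ((IsLocalRing.specializes_closedPoint p).map b.continuous).mem_open U.2 (hc ▸ hxU)
  obtain ⟨a', ha'⟩ : ∃ a' : Spec R ⟶ Spec Γ(X, U), a' ≫ hU.fromSpec = a :=
    ⟨IsOpenImmersion.lift hU.fromSpec a hra, IsOpenImmersion.lift_fac _ _ _⟩
  obtain ⟨b', hb'⟩ : ∃ b' : Spec R ⟶ Spec Γ(X, U), b' ≫ hU.fromSpec = b :=
    ⟨IsOpenImmersion.lift hU.fromSpec b hrb, IsOpenImmersion.lift_fac _ _ _⟩
  obtain ⟨α, rfl⟩ : ∃ α, Spec.map α = a' := ⟨Spec.preimage a', Spec.map_preimage a'⟩
  obtain ⟨β, rfl⟩ : ∃ β, Spec.map β = b' := ⟨Spec.preimage b', Spec.map_preimage b'⟩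
  rw [← ha', ← hb']
  congr 2
  ext x
  have h2 : ∀ n, α x - β x ∈ IsLocalRing.maximalIdeal R ^ n := by
    intro n
    have h3 := h n
    rw [← ha', ← hb', ← Category.assoc, ← Category.assoc, cancel_mono, ← Spec.map_comp,
      ← Spec.map_comp] at h3
    have h4 := congr($(Spec.map_injective h3) x)
    have h5 : Ideal.Quotient.mk (IsLocalRing.maximalIdeal R ^ (n + 1)) (α x) =
        Ideal.Quotient.mk (IsLocalRing.maximalIdeal R ^ (n + 1)) (β x) := h4
    exact Ideal.pow_le_pow_right n.le_succ (Ideal.Quotient.eq.mp h5)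
  have h6 : α x - β x ∈ (⨅ n, IsLocalRing.maximalIdeal R ^ n : Ideal R) := by
    rw [Ideal.mem_iInf]
    exact h2
  rw [Ideal.iInf_pow_eq_bot_of_isLocalRing _ Ideal.IsPrime.ne_top'] at h6
  exact sub_eq_zero.mp h6

/-- A point of a group scheme over a field with values in a reduced scheme and supported at the unit is
trivial. -/
theorem eq_one_of_range {k : Type u} [Field k] {G : Over (Spec (CommRingCat.of k))} [GrpObj G]
    {X : Over (Spec (CommRingCat.of k))} [IsReduced X.left] (x : X ⟶ G)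
    (hx : ∀ p, x.left p ∈ Set.range (η[G] : 𝟙_ (Over (Spec (CommRingCat.of k))) ⟶ G).left) : x = 1 := by
  set e := (η[G] : 𝟙_ (Over (Spec (CommRingCat.of k))) ⟶ G).left with he
  have : IsClosedImmersion e := by rw [he]; infer_instance
  have hs : Surjective (pullback.fst x.left e) := by
    refine ⟨fun p => ?_⟩
    have h1 := Scheme.Pullback.range_fst (f := x.left) (g := e)
    have h2 : p ∈ Set.range (pullback.fst x.left e) := by
      rw [h1]; exact hx p
    exact h2
  have : IsIso (pullback.fst x.left e) := isIso_of_isClosedImmersion_of_surjective _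
  have h1 : x.left = (inv (pullback.fst x.left e) ≫ pullback.snd x.left e) ≫ e := by
    rw [Category.assoc, ← pullback.condition, IsIso.inv_hom_id_assoc]
  have h2 : inv (pullback.fst x.left e) ≫ pullback.snd x.left e = X.hom := by
    have h3 : e ≫ G.hom = 𝟙 _ := Over.w η[G]
    have h4 : x.left ≫ G.hom =
        (inv (pullback.fst x.left e) ≫ pullback.snd x.left e) ≫ e ≫ G.hom := by
      rw [← Category.assoc]
      exact congrArg (· ≫ G.hom) h1
    rw [← Over.w x, h4, h3]
    exact (Category.comp_id _).symm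
  ext1
  rw [h1, h2]
  rfl

lemma ker_appTop_pow_eq_bot {R S : CommRingCat.{u}} (φ : R ⟶ S) (n : ℕ)
    (h : RingHom.ker φ.hom ^ n = ⊥) : RingHom.ker (Spec.map φ).appTop.hom ^ n = ⊥ := by
  have h1 : RingHom.ker (Spec.map φ).appTop.hom ≤
      (RingHom.ker φ.hom).map (Scheme.ΓSpecIso R).inv.hom := by
    intro x hx
    have h2 : (Scheme.ΓSpecIso R).inv ((Scheme.ΓSpecIso R).hom x) = x :=
      congr($((Scheme.ΓSpecIso R).hom_inv_id) x)
    rw [← h2]
    refine Ideal.mem_map_of_mem (Scheme.ΓSpecIso R).inv.hom ?_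
    rw [RingHom.mem_ker] at hx ⊢
    have h3 := congr($(Scheme.ΓSpecIso_naturality φ) x)
    change (Scheme.ΓSpecIso S).hom ((Spec.map φ).appTop x) = φ ((Scheme.ΓSpecIso R).hom x) at h3
    change φ ((Scheme.ΓSpecIso R).hom x) = 0
    rw [← h3]
    change (Scheme.ΓSpecIso S).hom ((Spec.map φ).appTop.hom x) = 0
    rw [hx, map_zero]
  refine le_bot_iff.mp ((Ideal.pow_right_mono h1 n).trans ?_)
  rw [← Ideal.map_pow, h, Ideal.map_bot]

variable {k : Type u} [Field k] {B : Type u} [CommRing B] [Algebra k B]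
  {G : Over (Spec (CommRingCat.of k))} [GrpObj G]

/-- Two morphisms to a group scheme agree near a point lying over the unit as soon as they agree on
all points where the second factors through an infinitesimal neighbourhood of the unit. -/
theorem exists_nhd (w : DE k B ⟶ G) [IsOpenImmersion w.left]
    (eW : 𝟙_ (Over (Spec (CommRingCat.of k))) ⟶ DE k B) (heW : eW ≫ w = η[G])
    {P : Over (Spec (CommRingCat.of k))} [IsLocallyNoetherian P.left] (f₁ f₂ : P ⟶ G) (y : P.left)
    (hy : f₂.left y ∈ Set.range (η[G] : 𝟙_ (Over (Spec (CommRingCat.of k))) ⟶ G).left)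
    (hagree : ∀ (n : ℕ) (X : Over (Spec (CommRingCat.of k))) (t : X ⟶ P)
      (d : X ⟶ DE k (B ⧸ (augIdeal eW) ^ (n + 1))), d ≫ quotMap _ ≫ w = t ≫ f₂ → t ≫ f₁ = t ≫ f₂) :
    ∃ U : P.left.Opens, y ∈ U ∧ U.ι ≫ f₁.left = U.ι ≫ f₂.left := by
  refine spread_out_unique_of_isGermInjective' f₁.left f₂.left (ext_of_isLocalRing _ _ fun n => ?_)
  set R := P.left.presheaf.stalk y with hR
  let m := IsLocalRing.maximalIdeal R
  let q : R ⟶ CommRingCat.of (R ⧸ m ^ (n + 1)) := CommRingCat.ofHom (Ideal.Quotient.mk (m ^ (n + 1)))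
  let T : Over (Spec (CommRingCat.of k)) := Over.mk (Spec.map q ≫ P.left.fromSpecStalk y ≫ P.hom)
  let t : T ⟶ P := Over.homMk (Spec.map q ≫ P.left.fromSpecStalk y) (by simp [T])
  let ρ : CommRingCat.of (R ⧸ m ^ (n + 1)) ⟶ CommRingCat.of (R ⧸ m) :=
    CommRingCat.ofHom (Ideal.Quotient.factor (Ideal.pow_le_self n.succ_ne_zero))
  let T₀ : Over (Spec (CommRingCat.of k)) := Over.mk (Spec.map ρ ≫ T.hom)
  let i : T₀ ⟶ T := Over.homMk (Spec.map ρ)
  have hfac : q ≫ ρ = CommRingCat.ofHom (Ideal.Quotient.mk m) := by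
    ext x
    rfl
  have hkerρ : RingHom.ker ρ.hom ^ (n + 1) = ⊥ := by
    have h1 : RingHom.ker ρ.hom ≤ m.map (Ideal.Quotient.mk (m ^ (n + 1))) := by
      intro x hx
      obtain ⟨x, rfl⟩ := Ideal.Quotient.mk_surjective x
      refine Ideal.mem_map_of_mem _ ?_
      have h2 : Ideal.Quotient.mk m x = 0 := hx
      exact Ideal.Quotient.eq_zero_iff_mem.mp h2
    refine le_bot_iff.mp ((Ideal.pow_right_mono h1 (n + 1)).trans ?_)
    rw [← Ideal.map_pow, Ideal.map_quotient_self]
  have hker : RingHom.ker i.left.appTop.hom ^ (n + 1) = ⊥ := ker_appTop_pow_eq_bot ρ (n + 1) hkerρ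
  have hmax : m.IsMaximal := IsLocalRing.maximalIdeal.isMaximal R
  have hpt : ∀ p : T.left, (Spec.map q) p = IsLocalRing.closedPoint R := by
    intro p
    apply PrimeSpectrum.ext
    have h1 : m ≤ Ideal.comap (Ideal.Quotient.mk (m ^ (n + 1)))
        (PrimeSpectrum.asIdeal (R := R ⧸ m ^ (n + 1)) p) := by
      intro x hx
      refine Ideal.IsPrime.mem_of_pow_mem (PrimeSpectrum.isPrime (R := R ⧸ m ^ (n + 1)) p) (n + 1) ?_
      rw [← map_pow, Ideal.Quotient.eq_zero_iff_mem.mpr (Ideal.pow_mem_pow hx _)]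
      exact Ideal.zero_mem _
    exact (Ideal.IsMaximal.eq_of_le hmax
      (Ideal.IsPrime.comap _ (hK := PrimeSpectrum.isPrime (R := R ⧸ m ^ (n + 1)) p)).ne_top h1).symm
  have hsub : Subsingleton T.left := by
    have hinj : Function.Injective (Spec.map q) := by
      have : IsClosedImmersion (Spec.map q) :=
        IsClosedImmersion.spec_of_surjective _ Ideal.Quotient.mk_surjective
      exact (Spec.map q).isClosedEmbedding.injective
    exact ⟨fun a b => hinj (by rw [hpt, hpt])⟩
  have hsurj : Surjective i.left := by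
    refine ⟨fun p => ?_⟩
    have : Nonempty (PrimeSpectrum (R ⧸ m)) := inferInstance
    obtain ⟨z⟩ := this
    exact ⟨(show T₀.left from z), Subsingleton.elim _ _⟩
  have hred : IsReduced T₀.left := by
    let _ : Field (R ⧸ m) := Ideal.Quotient.field m
    exact inferInstanceAs (IsReduced (Spec (CommRingCat.of (R ⧸ m))))
  have hone : i ≫ t ≫ f₂ = 1 := by
    refine eq_one_of_range _ fun p => ?_
    have h1 : (i ≫ t ≫ f₂).left p = f₂.left (P.left.fromSpecStalk y (Spec.map q (i.left p))) := by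
      simp [t]
    rw [h1, hpt, Scheme.fromSpecStalk_closedPoint]
    exact hy
  obtain ⟨d, hd⟩ := factor_pow w eW heW (n + 1) i hker (t ≫ f₂) hone
  have h7 := hagree n T t d hd
  have h8 := congr(($h7).left)
  simp only [Over.comp_left, t, Over.homMk_left, Category.assoc] at h8
  exact h8

end Groth.Agent.Sga3C.KrullPt
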