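import Groth.Agent.Sga3C.InfNbhd
import Groth.Agent.Sga3C.KerStab
import Groth.Agent.Sga3C.KrullPt
import Groth.Agent.Sga3C.CentDom
import Groth.Agent.Sga3C.FlatImage2
import Groth.Agent.Sga3C.ArtinBase
import Groth.Agent.Sga3C.GrpIrr
import Groth.Agent.Fdesc.GrpDimHom

/-!
# The centre of a connected group scheme of finite type over a field
-/

set_option autoImplicit false

universe u

open CategoryTheory MonoidalCategory CartesianMonoidalCategory AlgebraicGeometry MonObj GrpObj

namespace Groth.Agent.Sga3C.Center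

open Sga3B.GLn Sga3B.FreeBC Sga3B.LinRep Sga3B.AdRep AdRepN

theorem isPullback_kerι {S : Scheme.{u}} {G H : Over S} [GrpObj H] (q : G ⟶ H) :
    IsPullback (Fdesc.GrpDimHom.kerι q) (toUnit _) q η[H] := by
  refine ⟨⟨by rw [Fdesc.GrpDimHom.kerι_comp]; rfl⟩, ⟨Limits.PullbackCone.IsLimit.mk _
    (fun s => Fdesc.GrpDimHom.kerLift q s.fst (by
      rw [s.condition, toUnit_unique s.snd (toUnit _)]; rfl)) ?_ ?_ ?_⟩⟩
  · intro s
    exact Fdesc.GrpDimHom.kerLift_comp _ _ _
  · intro s
    exact toUnit_unique _ _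
  · intro s m h1 _
    rw [← cancel_mono (Fdesc.GrpDimHom.kerι q), Fdesc.GrpDimHom.kerLift_comp, h1]

theorem iSup_ι_comp_eq {X Y : Scheme.{u}} {J : Sort*} (U : J → X.Opens) (f g : X ⟶ Y)
    (h : ∀ j, (U j).ι ≫ f = (U j).ι ≫ g) : (⨆ j, U j).ι ≫ f = (⨆ j, U j).ι ≫ g := by
  have h' : ∀ j : PLift J, (U j.down).ι ≫ f = (U j.down).ι ≫ g := fun j => h j.down
  have e : (⨆ j, U j) = ⨆ j : PLift J, U j.down := (iSup_plift_down (f := U)).symm
  rw [e]
  refine (Scheme.Opens.iSupOpenCover (fun j : PLift J => U j.down)).hom_ext _ _ fun j => ?_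
  simpa [Scheme.Opens.iSupOpenCover] using h' j

/-- A homomorphism to the general linear group with kernel the centre. -/
theorem exists_rep_center (k : Type u) [Field k] (G : Over (Spec (CommRingCat.of k))) [GrpObj G]
    [LocallyOfFiniteType G.hom] [QuasiCompact G.hom] [ConnectedSpace G.left] :
    ∃ (m : Type u) (_ : Fintype m) (_ : DecidableEq m) (f : G ⟶ GLS m (Spec (CommRingCat.of k))),
      IsMonHom f ∧ ∀ (T : Over (Spec (CommRingCat.of k))) (g : T ⟶ G), g ≫ f = 1 ↔
        ∀ (T' : Over (Spec (CommRingCat.of k))) (t : T' ⟶ T) (h : T' ⟶ G), (t ≫ g) * h = h * (t ≫ g) := by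
  have hfn : LocallyOfFiniteType G.hom := ‹_›
  have : CompactSpace G.left := by
    have := QuasiCompact.isCompact_preimage (f := G.hom) Set.univ isOpen_univ isCompact_univ
    exact ⟨by simpa using this⟩
  have : IsLocallyNoetherian G.left := LocallyOfFiniteType.isLocallyNoetherian G.hom
  have : IsNoetherian G.left := {}
  have : GrpObj (Over.mk G.hom) := ‹GrpObj G›
  have hgi : GeometricallyIrreducible G.hom :=
    GrpIrr.geometricallyIrreducible_of_connectedSpace G.hom
  have huo : UniversallyOpen G.hom := ArtinBase.universallyOpen_of_isArtinianRing k G.hom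
  obtain ⟨B, _, _, w, eW, hw, heW, hft⟩ := InfNbhd.exists_affine_nbhd k G η[G]
  choose m hm hmd f hf hker using InfNbhd.exists_reps k G B w eW heW
  -- stabilisation
  obtain ⟨n₀, hn₀⟩ := KerStab.exists_forall_comp_eq_one G
    (fun n => GLS (m n) (Spec (CommRingCat.of k))) (fun n => inferInstance) f (by
      intro n T g hg
      rw [hker] at hg ⊢
      intro X p d
      obtain ⟨d', hd'⟩ := factor_quot (J := (augIdeal eW) ^ (n + 1 + 1)) (d ≫ quotMap _) (by
        intro x hx
        rw [fn_quotMap, Ideal.Quotient.eq_zero_iff_mem.mpr (Ideal.pow_le_pow_right (n + 1).le_succ hx),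
          map_zero])
      have h1 := hg X p d'
      rw [← Category.assoc, hd', Category.assoc] at h1
      exact h1)
  refine ⟨m n₀, inferInstance, inferInstance, f n₀, hf n₀, fun T g => ⟨fun hg => ?_, fun hg => ?_⟩⟩
  · -- the points of the kernel commute with everything
    have hall : ∀ n, g ≫ f n = 1 := hn₀ T g hg
    -- reduce to the universal point of the kernel
    obtain ⟨N, i, hNi, z, hz⟩ : ∃ (N : Over (Spec (CommRingCat.of k))) (i : N ⟶ G),
        (i ≫ f n₀ = 1 ∧ LocallyOfFiniteType N.hom) ∧ ∃ z : T ⟶ N, z ≫ i = g := by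
      refine ⟨Fdesc.GrpDimHom.ker (f n₀), Fdesc.GrpDimHom.kerι (f n₀),
        ⟨Fdesc.GrpDimHom.kerι_comp _, ?_⟩, Fdesc.GrpDimHom.exists_lift (f n₀) g hg⟩
      change LocallyOfFiniteType (Limits.pullback.fst (f n₀).left (η : 𝟙_ (Over _) ⟶ _).left ≫ G.hom)
      rw [Fdesc.GrpDimHom.fst_hom]
      have : LocallyOfFiniteType ((f n₀).left ≫ (GLS (m n₀) (Spec (CommRingCat.of k))).hom) := by
        rw [Over.w]; infer_instance
      have : LocallyOfFiniteType (f n₀).left :=
        locallyOfFiniteType_of_comp (f n₀).left (GLS (m n₀) (Spec (CommRingCat.of k))).hom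
      infer_instance
    have hi1 : ∀ n, i ≫ f n = 1 := hn₀ N i hNi.1
    have hc : (fst N G ≫ i) * snd N G * (fst N G ≫ i)⁻¹ = snd N G := by
      have hlft : LocallyOfFiniteType N.hom := hNi.2
      have hlft' : LocallyOfFiniteType (N ⊗ G).hom := by
        have h1 : (N ⊗ G).hom = (snd N G).left ≫ G.hom := (Over.w _).symm
        rw [h1]
        have h2 : LocallyOfFiniteType (snd N G).left := by
          rw [Over.snd_left]; infer_instance
        infer_instance
      have hlnP : IsLocallyNoetherian (N ⊗ G).left :=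
        LocallyOfFiniteType.isLocallyNoetherian (N ⊗ G).hom
      set f₁ : N ⊗ G ⟶ G := (fst N G ≫ i) * snd N G * (fst N G ≫ i)⁻¹ with hf₁
      have key : ∀ y : (N ⊗ G).left,
          (snd N G).left y ∈ Set.range (η[G] : 𝟙_ (Over (Spec (CommRingCat.of k))) ⟶ G).left →
          ∃ U : (N ⊗ G).left.Opens, y ∈ U ∧ U.ι ≫ f₁.left = U.ι ≫ (snd N G).left := by
        intro y hy
        refine KrullPt.exists_nhd w eW heW f₁ (snd N G) y hy ?_
        intro n X t d hd
        have h1 := (hker n i).mp (hi1 n) X (t ≫ fst N G) d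
        rw [hd] at h1
        rw [hf₁, MonObj.comp_mul, MonObj.comp_mul, GrpObj.comp_inv, ← Category.assoc]
        exact h1
      choose U hyU hU using key
      let W : (N ⊗ G).left.Opens := ⨆ (y : (N ⊗ G).left)
        (hy : (snd N G).left y ∈ Set.range (η[G] : 𝟙_ (Over (Spec (CommRingCat.of k))) ⟶ G).left), U y hy
      refine CentDom.conj_eq N i W ?_ ?_
      · intro v hv
        exact TopologicalSpace.Opens.mem_iSup.mpr
          ⟨v, TopologicalSpace.Opens.mem_iSup.mpr ⟨hv, hyU v hv⟩⟩
      · refine iSup_ι_comp_eq _ _ _ fun y => iSup_ι_comp_eq _ _ _ fun hy => hU y hy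
    intro T' t h
    rw [← hz]
    have h1 := congr(lift (t ≫ z) h ≫ $hc)
    rw [MonObj.comp_mul, MonObj.comp_mul, GrpObj.comp_inv, lift_snd, ← Category.assoc, lift_fst,
      Category.assoc] at h1
    exact mul_inv_eq_iff_eq_mul.mp h1
  · rw [hker]
    intro X p d
    rw [mul_inv_eq_iff_eq_mul]
    exact hg X p _

end Groth.Agent.Sga3C.Center
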