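import Groth.Agent.Sga3C.ArtinHom
import Mathlib.AlgebraicGeometry.ZariskisMainTheorem
import Mathlib.AlgebraicGeometry.Artinian

/-!
# Finite and universally open homomorphisms over a local artinian ring
-/

set_option autoImplicit false
universe u
open CategoryTheory MonoidalCategory CartesianMonoidalCategory MonObj GrpObj AlgebraicGeometry Limits

namespace Groth.Agent.Sga3C.ArtinHom2

open Groth.Agent.Sga3C.RedFlat Groth.Agent.Sga3C.ClosedImage
  Groth.Agent.Sga3C.TopDescent Groth.Agent.Sga3C.SchemImage Groth.Agent.Sga3C.UnivClosedHom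
  Groth.Agent.Sga3C.KerSquare Groth.Agent.Sga3C.ArtinHom Groth.Agent.Sga3C.ArtinBase

variable {A : Type u} [CommRing A] [IsLocalRing A] [IsArtinianRing A]
  {G H : Over (Spec (CommRingCat.of A))} [GrpObj G] [GrpObj H]
  [LocallyOfFiniteType G.hom] [LocallyOfFiniteType H.hom] (u : G ⟶ H) [IsMonHom u]

/-- quasi-finiteness can be tested on the kernel -/
theorem locallyQuasiFinite_of_ker [QuasiCompact u.left]
    (hK : LocallyQuasiFinite (pullback.snd u.left (η[H] : 𝟙_ (Over (Spec (CommRingCat.of A))) ⟶ H).left)) :
    LocallyQuasiFinite u.left := by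
  obtain ⟨d, hd⟩ := isPullback_fst_ker u
  have h1 : LocallyQuasiFinite (pullback.fst u.left u.left) :=
    MorphismProperty.of_isPullback (P := @LocallyQuasiFinite) hd.flip hK
  have h3 : LocallyOfFiniteType u.left := by
    have : LocallyOfFiniteType (u.left ≫ H.hom) := by rw [Over.w]; infer_instance
    exact locallyOfFiniteType_of_comp u.left H.hom
  rw [locallyQuasiFinite_iff_finite_preimage_singleton]
  intro h
  by_cases hr : ∃ g, u.left g = h
  · obtain ⟨g, rfl⟩ := hr
    refine (((pullback.fst u.left u.left).finite_preimage_singleton g).image (pullback.snd u.left u.left)).subset ?_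
    intro g' hg'
    obtain ⟨e, he1, he2⟩ := Scheme.Pullback.exists_preimage_pullback (f := u.left) (g := u.left) g g' hg'.symm
    exact ⟨e, he1, he2⟩
  · convert Set.finite_empty
    ext g
    simp only [Set.mem_preimage, Set.mem_singleton_iff, Set.mem_empty_iff_false, iff_false]
    exact fun hg => hr ⟨g, hg⟩

theorem isFinite_iff [QuasiCompact u.left] :
    IsFinite u.left ↔ DiscreteTopology ↥(pullback u.left (η[H] : 𝟙_ (Over (Spec (CommRingCat.of A))) ⟶ H).left) := by
  let p := pullback.snd u.left (η[H] : 𝟙_ (Over (Spec (CommRingCat.of A))) ⟶ H).left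
  have hS : IsLocallyArtinian ((𝟙_ (Over (Spec (CommRingCat.of A)))).left) :=
    inferInstanceAs (IsLocallyArtinian (Spec (CommRingCat.of A)))
  have h3 : LocallyOfFiniteType u.left := by
    have : LocallyOfFiniteType (u.left ≫ H.hom) := by rw [Over.w]; infer_instance
    exact locallyOfFiniteType_of_comp u.left H.hom
  constructor
  · intro h
    have : LocallyQuasiFinite p := inferInstanceAs (LocallyQuasiFinite (pullback.snd _ _))
    have : IsLocallyArtinian (pullback u.left (η[H] : 𝟙_ (Over (Spec (CommRingCat.of A))) ⟶ H).left) :=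
      IsLocallyArtinian.of_locallyQuasiFinite p
    infer_instance
  · intro h
    have h4 : LocallyOfFiniteType p := inferInstanceAs (LocallyOfFiniteType (pullback.snd _ _))
    have h5 : QuasiCompact p := inferInstanceAs (QuasiCompact (pullback.snd _ _))
    have h6 : LocallyQuasiFinite p := by
      rw [locallyQuasiFinite_iff_isDiscrete_preimage_singleton]
      intro x
      exact _root_.IsDiscrete.univ.mono (Set.subset_univ _)
    have h7 : IsFinite p := IsFinite.of_locallyQuasiFinite p
    rw [IsFinite.iff_isProper_and_locallyQuasiFinite]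
    exact ⟨(isProper_iff u).mpr (inferInstanceAs (IsProper p)), locallyQuasiFinite_of_ker u h6⟩

theorem universallyOpen_of_isOpenMap (hu : IsOpenMap u.left.base) : UniversallyOpen u.left := by
  have hN := isLocallyNoetherian_bc (tA A) G
  have hNH := isLocallyNoetherian_bc (tA A) H
  have := lft_bcMap (tA A) u
  have hop : IsOpen (Set.range (bcMap (tA A) u)) := by
    rw [range_bcMap]
    exact hu.isOpen_range.preimage (prH H).continuous
  obtain ⟨X, Y, i, j, f, hi, his, hj, hjr, hX, hY, hf, hflat⟩ := exists_model (tA A) u Set.univ isClosed_univ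
    (Set.subset_univ _) (fun g => by
      rw [Set.image_univ, Set.range_eq_univ]
      exact ((Over.forget _).mapIso (Transl.transl (Transl.regular H) (g ≫ u))).hom.surjective)
  have hff : Flat f := by
    refine hflat ?_
    obtain ⟨η', hη', hs⟩ := GenPts.exists_mem_genericPoints_specializes
      (bcMap (tA A) u (pt (tA A) (1 : Over.mk (tA A) ⟶ G)))
    obtain ⟨z, hz⟩ := hs.mem_open hop ⟨_, rfl⟩
    refine ⟨z, fun y _ hy => ?_⟩
    rw [hz] at hy ⊢
    exact GenPts.eq_of_specializes_of_mem_genericPoints hη' y hy
  have hNY : IsLocallyNoetherian Y := LocallyOfFiniteType.isLocallyNoetherian j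
  have hft : LocallyOfFiniteType f := by
    have : LocallyOfFiniteType (f ≫ j) := by rw [hf]; infer_instance
    exact locallyOfFiniteType_of_comp f j
  have hfp : LocallyOfFinitePresentation f := by
    rw [LocallyOfFinitePresentation.iff_locallyOfFiniteType]; exact hft
  have hjs : Surjective j := ⟨Set.range_eq_univ.mp hjr⟩
  have hjo : UniversallyOpen j := universallyOpen_of_isClosedImmersion_surjective j
  have h1 : UniversallyOpen (i ≫ bcMap (tA A) u) := by rw [← hf]; infer_instance
  have h2 : UniversallyOpen (bcMap (tA A) u) := universallyOpen_of_comp_surjective i _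
  exact universallyOpen_of_isPullback (isPullback_bcMap u)

end Groth.Agent.Sga3C.ArtinHom2
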