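import Groth.Agent.Sga3C.GrpSep
import Groth.Agent.Sga3C.GrpBasic
import Mathlib.AlgebraicGeometry.Morphisms.Smooth
import Mathlib.AlgebraicGeometry.Morphisms.FlatDescent

/-!
# Lifting a family of homomorphisms through a monomorphism, given a flat local lifting
near a point of each fibre
-/

set_option autoImplicit false

open CategoryTheory Limits MonoidalCategory CartesianMonoidalCategory MonObj GrpObj AlgebraicGeometry

universe u

namespace Groth.Agent.Sga3C.CWGroup

/-- A morphism of `Over S` whose source is covered, fppf locally, by a lift through a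
monomorphism lifts through the monomorphism. -/
theorem exists_lift_of_fppf {S : Scheme.{u}} {Z P M N : Over S} (i : N ⟶ M) [Mono i]
    (γ : P ⟶ M) (m : Z ⟶ P) [Surjective m.left] [Flat m.left]
    [LocallyOfFinitePresentation m.left] (d : Z ⟶ N) (hd : d ≫ i = m ≫ γ) :
    ∃ b : P ⟶ N, b ≫ i = γ := by
  let j : pullback γ i ⟶ P := pullback.fst γ i
  let s : Z ⟶ pullback γ i := pullback.lift m d hd.symm
  have hs : s ≫ j = m := pullback.lift_fst _ _ _
  have hsl : s.left ≫ j.left = m.left := by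
    rw [← Over.comp_left, hs]
  have : Mono j := inferInstance
  have : Mono j.left := inferInstance
  have h1 : IsIso (pullback.fst m.left j.left) := by
    let σ : Z.left ⟶ pullback m.left j.left := pullback.lift (𝟙 _) s.left (by simp [hsl])
    have hσ : σ ≫ pullback.fst m.left j.left = 𝟙 _ := pullback.lift_fst _ _ _
    refine ⟨σ, ?_, hσ⟩
    rw [← cancel_mono (pullback.fst m.left j.left), Category.assoc, hσ, Category.comp_id,
      Category.id_comp]
  have h2 : IsIso j.left :=
    MorphismProperty.of_pullback_fst_of_descendsAlong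
      (P := MorphismProperty.isomorphisms Scheme)
      (Q := @Surjective ⊓ @Flat ⊓ @LocallyOfFinitePresentation) (f := m.left) (g := j.left)
      ⟨⟨inferInstance, inferInstance⟩, inferInstance⟩ h1
  have h3 : IsIso j := by
    have : IsIso ((Over.forget S).map j) := h2
    exact isIso_of_reflects_iso j (Over.forget S)
  exact ⟨inv j ≫ pullback.snd γ i, by
    rw [Category.assoc, ← pullback.condition, ← Category.assoc]
    change (inv j ≫ j) ≫ γ = γ
    simp⟩

/-- A cartesian square of schemes over `S` is a cartesian square of schemes. -/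
theorem isPullback_left {S : Scheme.{u}} {A B C D : Over S} {f : A ⟶ B} {g : A ⟶ C} {h : B ⟶ D}
    {k : C ⟶ D} (H : IsPullback f g h k) : IsPullback f.left g.left h.left k.left :=
  H.map (Over.forget S)

section Family

variable {S : Scheme.{u}} {T H W : Over S} [GrpObj H] (w : W ⟶ T ⊗ H)

/-- `Z = W ×_T W`. -/
noncomputable abbrev Z : Over S := pullback (w ≫ fst T H) (w ≫ fst T H)

/-- The first projection `W ×_T W ⟶ W`. -/
noncomputable abbrev z1 : Z w ⟶ W := pullback.fst _ _

/-- The second projection `W ×_T W ⟶ W`. -/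
noncomputable abbrev z2 : Z w ⟶ W := pullback.snd _ _

omit [GrpObj H] in
theorem z_cond : z1 w ≫ w ≫ fst T H = z2 w ≫ w ≫ fst T H := pullback.condition

/-- `(z1, z2) ↦ (t, h(z1) h(z2))`. -/
noncomputable def m : Z w ⟶ T ⊗ H :=
  lift (z1 w ≫ w ≫ fst T H) ((z1 w ≫ w ≫ snd T H) * (z2 w ≫ w ≫ snd T H))

/-- `(z1, z2) ↦ (z1, h(z2))`. -/
noncomputable def a : Z w ⟶ W ⊗ H := lift (z1 w) (z2 w ≫ w ≫ snd T H)

omit [GrpObj H] in
@[reassoc] theorem a_fst : a w ≫ fst W H = z1 w := lift_fst _ _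

omit [GrpObj H] in
@[reassoc] theorem a_snd : a w ≫ snd W H = z2 w ≫ w ≫ snd T H := lift_snd _ _

omit [GrpObj H] in
/-- `W ×_T W ⟶ W ⊗ H` is a base change of `w`. -/
theorem isPullback_a : IsPullback (z2 w) (a w) w ((w ≫ fst T H) ▷ H) := by
  have comm : z2 w ≫ w = a w ≫ (w ≫ fst T H) ▷ H := by
    ext1
    · rw [Category.assoc, Category.assoc, whiskerRight_fst, a_fst_assoc, z_cond]
    · rw [Category.assoc, Category.assoc, whiskerRight_snd, a_snd]
  refine IsPullback.of_isLimit' ⟨comm⟩ (PullbackCone.IsLimit.mk _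
    (fun s ↦ pullback.lift (s.snd ≫ fst W H) s.fst ?_) ?_ ?_ ?_)
  · have := s.condition =≫ fst T H
    rw [Category.assoc, Category.assoc, whiskerRight_fst] at this
    rw [Category.assoc, this]
  · intro s
    exact pullback.lift_snd _ _ _
  · intro s
    ext1
    · rw [Category.assoc, a_fst, pullback.lift_fst]
    · have := s.condition =≫ snd T H
      rw [Category.assoc, Category.assoc, whiskerRight_snd] at this
      rw [Category.assoc, a_snd, ← this]
      rw [← Category.assoc, pullback.lift_snd]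
  · intro s l h1 h2
    apply pullback.hom_ext
    · rw [pullback.lift_fst, ← h2, Category.assoc, a_fst]
    · rw [pullback.lift_snd]
      exact h1

omit [GrpObj H] in
/-- `W ⊗ H ⟶ (T ⊗ H) ⊗ H` is a base change of `w`. -/
theorem isPullback_whisker : IsPullback (fst W H) (w ▷ H) w (fst (T ⊗ H) H) := by
  have comm : fst W H ≫ w = w ▷ H ≫ fst (T ⊗ H) H := (whiskerRight_fst _ _).symm
  refine IsPullback.of_isLimit' ⟨comm⟩ (PullbackCone.IsLimit.mk _
    (fun s ↦ lift s.fst (s.snd ≫ snd _ _)) ?_ ?_ ?_)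
  · intro s
    exact lift_fst _ _
  · intro s
    ext1
    · rw [Category.assoc, whiskerRight_fst, lift_fst_assoc, s.condition]
    · rw [Category.assoc, whiskerRight_snd, lift_snd]
  · intro s l h1 h2
    ext1
    · rw [h1, lift_fst]
    · rw [lift_snd, ← h2, Category.assoc, whiskerRight_snd]

variable (T H) in
/-- `(t, h₁, h₂) ↦ (t, h₁ h₂, h₂)`. -/
noncomputable def e : (T ⊗ H) ⊗ H ≅ (T ⊗ H) ⊗ H where
  hom := lift (lift (fst _ _ ≫ fst _ _) ((fst _ _ ≫ snd _ _) * snd _ _)) (snd _ _)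
  inv := lift (lift (fst _ _ ≫ fst _ _) ((fst _ _ ≫ snd _ _) * (snd _ _)⁻¹)) (snd _ _)
  hom_inv_id := by
    ext1
    · ext1
      · simp
      · simp [comp_mul, GrpObj.comp_inv]
    · simp
  inv_hom_id := by
    ext1
    · ext1
      · simp
      · simp [comp_mul]
    · simp

theorem m_eq : m w = a w ≫ w ▷ H ≫ (e T H).hom ≫ fst _ _ := by
  ext1
  · simp [m, e, a_fst_assoc]
  · simp [m, e, comp_mul, a_fst_assoc, a_snd]

theorem flat_m [Flat w.left] [LocallyOfFinitePresentation w.left] [Smooth H.hom] :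
    Flat (m w).left ∧ LocallyOfFinitePresentation (m w).left := by
  have h1 := isPullback_left (isPullback_a w)
  have h2 := isPullback_left (isPullback_whisker (H := H) w)
  have f1 : Flat (a w).left := MorphismProperty.of_isPullback (P := @Flat) h1 inferInstance
  have f2 : Flat (w ▷ H).left := MorphismProperty.of_isPullback (P := @Flat) h2 inferInstance
  have f3 : Flat (fst (T ⊗ H) H).left := by
    change Flat (pullback.fst _ _)
    infer_instance
  have g1 : LocallyOfFinitePresentation (a w).left :=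
    MorphismProperty.of_isPullback (P := @LocallyOfFinitePresentation) h1 inferInstance
  have g2 : LocallyOfFinitePresentation (w ▷ H).left :=
    MorphismProperty.of_isPullback (P := @LocallyOfFinitePresentation) h2 inferInstance
  have g3 : LocallyOfFinitePresentation (fst (T ⊗ H) H).left := by
    change LocallyOfFinitePresentation (pullback.fst _ _)
    infer_instance
  have e1 : (m w).left = (a w).left ≫ (w ▷ H).left ≫ (e T H).hom.left ≫ (fst (T ⊗ H) H).left := by
    rw [m_eq]
    rfl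
  rw [e1]
  exact ⟨inferInstance, inferInstance⟩

/-- The image of a point under the composite of two morphisms over `S`. -/
theorem comp_left_apply {S : Scheme.{u}} {A B C : Over S} (f : A ⟶ B) (g : B ⟶ C) (x : A.left) :
    (f ≫ g).left x = g.left (f.left x) := rfl

variable (T H) in
/-- `(t, h₁, h₂) ↦ (t, h₂)`. -/
noncomputable abbrev Afun : (T ⊗ H) ⊗ H ⟶ T ⊗ H := fst T H ▷ H

variable (T H) in
/-- `(t, h₁, h₂) ↦ (t, h₁ h₂⁻¹)`. -/
noncomputable abbrev Bfun : (T ⊗ H) ⊗ H ⟶ T ⊗ H := (e T H).inv ≫ fst _ _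

variable (T H) in
/-- `(t, h₁, h₂) ↦ (t, h₁, h₂⁻¹ h₁)`. -/
noncomputable abbrev τ : (T ⊗ H) ⊗ H ⟶ (T ⊗ H) ⊗ H :=
  lift (fst _ _) ((snd _ _)⁻¹ * (fst _ _ ≫ snd _ _))

theorem τ_B : τ T H ≫ Bfun T H = Afun T H := by
  ext1
  · simp [τ, Bfun, Afun, e]
  · simp [τ, Bfun, Afun, e, comp_mul, GrpObj.comp_inv]

theorem e_A : (e T H).hom ≫ Afun T H = Afun T H := by
  ext1
  · simp [Afun, e]
  · simp [Afun, e]

theorem e_inv_A : (e T H).inv ≫ Afun T H = Afun T H := by
  rw [Iso.inv_comp_eq, e_A]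

omit [GrpObj H] in
/-- The square exhibiting `(T ⊗ H) ⊗ H` as `(T ⊗ H) ×_T (T ⊗ H)`. -/
theorem isPullback_A : IsPullback (fst (T ⊗ H) H) (Afun T H) (fst T H) (fst T H) := by
  have comm : fst (T ⊗ H) H ≫ fst T H = Afun T H ≫ fst T H := (whiskerRight_fst _ _).symm
  refine IsPullback.of_isLimit' ⟨comm⟩ (PullbackCone.IsLimit.mk _
    (fun s ↦ lift s.fst (s.snd ≫ snd _ _)) ?_ ?_ ?_)
  · intro s
    exact lift_fst _ _
  · intro s
    ext1
    · rw [Category.assoc, whiskerRight_fst, lift_fst_assoc, s.condition]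
    · rw [Category.assoc, whiskerRight_snd, lift_snd]
  · intro s l h1 h2
    ext1
    · rw [h1, lift_fst]
    · rw [lift_snd, ← h2, Category.assoc, whiskerRight_snd]

theorem surjective_m [Flat w.left] [LocallyOfFinitePresentation w.left] [Smooth H.hom]
    [GeometricallyIrreducible H.hom]
    (hw : ∀ t : T.left, ∃ z : W.left, (w ≫ fst T H).left z = t) : Surjective (m w).left := by
  constructor
  intro x
  let q : (T ⊗ H) ⊗ H ⟶ T ⊗ H := fst _ _
  have hqL : q.left = pullback.fst (T ⊗ H).hom H.hom := rfl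
  have : UniversallyOpen q.left := by rw [hqL]; infer_instance
  have : GeometricallyIrreducible q.left := by rw [hqL]; infer_instance
  let O : Set (T ⊗ H).left := Set.range w.left
  have hO : IsOpen O := w.left.isOpenMap.isOpen_range
  obtain ⟨z, hz⟩ := hw ((fst T H).left x)
  obtain ⟨kA, hkA1, hkA2⟩ := Scheme.exists_preimage_of_isPullback
    (isPullback_left (isPullback_A (T := T) (H := H))) x (w.left z) hz.symm
  have h1 : ∃ k : ((T ⊗ H) ⊗ H).left, q.left k = x ∧ (Afun T H).left k ∈ O :=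
    ⟨kA, hkA1, z, hkA2.symm⟩
  have h2 : ∃ k : ((T ⊗ H) ⊗ H).left, q.left k = x ∧ (Bfun T H).left k ∈ O := by
    refine ⟨(τ T H).left kA, ?_, ?_⟩
    · rw [← comp_left_apply, lift_fst]
      exact hkA1
    · rw [← comp_left_apply, τ_B]
      exact ⟨z, hkA2.symm⟩
  obtain ⟨k, hkq, hkA, hkB⟩ : ∃ k : ((T ⊗ H) ⊗ H).left, q.left k = x ∧
      (Afun T H).left k ∈ O ∧ (Bfun T H).left k ∈ O := by
    have hirr := q.left.isIrreducible_preimage q.left.isOpenMap (isIrreducible_singleton (x := x))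
    obtain ⟨a, ha1, ha2⟩ := h1
    obtain ⟨b, hb1, hb2⟩ := h2
    obtain ⟨w, hw1, hw2, hw3⟩ := hirr.isPreirreducible ((Afun T H).left ⁻¹' O)
      ((Bfun T H).left ⁻¹' O)
      (hO.preimage (Afun T H).left.continuous) (hO.preimage (Bfun T H).left.continuous)
      ⟨a, ha1, ha2⟩ ⟨b, hb1, hb2⟩
    exact ⟨w, hw1, hw2, hw3⟩
  obtain ⟨w1, hw1⟩ := hkB
  rw [comp_left_apply] at hw1
  obtain ⟨k1, -, hk1⟩ := Scheme.exists_preimage_of_isPullback
    (isPullback_left (isPullback_whisker (H := H) w)) w1 ((e T H).inv.left k) hw1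
  obtain ⟨w2, hw2⟩ := hkA
  have hA : ((w ≫ fst T H) ▷ H).left k1 = w.left w2 := by
    have e1 : (w ≫ fst T H) ▷ H = w ▷ H ≫ Afun T H := by
      rw [comp_whiskerRight]
    rw [e1, comp_left_apply, hk1, ← comp_left_apply, e_inv_A, hw2]
  obtain ⟨z0, -, hz0⟩ := Scheme.exists_preimage_of_isPullback
    (isPullback_left (isPullback_a w)) w2 k1 hA.symm
  refine ⟨z0, ?_⟩
  rw [m_eq, comp_left_apply, hz0, comp_left_apply, hk1, ← comp_left_apply,
    Iso.inv_hom_id_assoc]
  exact hkq

end Family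

theorem exists_lift_of_flat {S : Scheme.{u}} {T H M N : Over S} [GrpObj H] [GrpObj M] [GrpObj N]
    [Smooth H.hom] [GeometricallyIrreducible H.hom] (i : N ⟶ M) [IsMonHom i] [Mono i]
    (γ : T ⊗ H ⟶ M)
    (hγ : ∀ {U : Over S} (t : U ⟶ T) (a b : U ⟶ H),
      lift t (a * b) ≫ γ = (lift t a ≫ γ) * (lift t b ≫ γ))
    {W : Over S} (w : W ⟶ T ⊗ H) [Flat w.left] [LocallyOfFinitePresentation w.left]
    (hw : ∀ t : T.left, ∃ z : W.left, (w ≫ fst T H).left z = t)
    (c : W ⟶ N) (hc : c ≫ i = w ≫ γ) : ∃ b : T ⊗ H ⟶ N, b ≫ i = γ := by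
  obtain ⟨f1, f2⟩ := flat_m w
  have f3 := surjective_m w hw
  refine exists_lift_of_fppf i γ (m w) ((z1 w ≫ c) * (z2 w ≫ c)) ?_
  have e1 : lift (z1 w ≫ w ≫ fst T H) (z1 w ≫ w ≫ snd T H) = z1 w ≫ w := by
    ext1
    · rw [lift_fst, Category.assoc]
    · rw [lift_snd, Category.assoc]
  have e2 : lift (z1 w ≫ w ≫ fst T H) (z2 w ≫ w ≫ snd T H) = z2 w ≫ w := by
    ext1
    · rw [lift_fst, Category.assoc, z_cond]
    · rw [lift_snd, Category.assoc]
  rw [m, hγ, e1, e2, MonObj.mul_comp, Category.assoc, Category.assoc, Category.assoc,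
    Category.assoc, hc]

end Groth.Agent.Sga3C.CWGroup
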