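import Groth.Agent.Sga3C.CWMono
import Groth.Agent.Sga3C.CWGroup
import Groth.Agent.Sga3C.GrpIrr
import Groth.Agent.Ega43.FPOfComp

/-!
Representability by a closed subscheme of the condition that a family of homomorphisms from a
smooth group scheme with connected fibres factors through a subgroup.
-/

namespace Groth.Agent.Sga3C.CWFam

open CategoryTheory Limits MonoidalCategory CartesianMonoidalCategory MonObj GrpObj
  AlgebraicGeometry Groth.Agent.Sga3C.CWMain Groth.Agent.Sga3C.CWGroup

universe u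

section Square

variable {C : Type*} [Category C] [CartesianMonoidalCategory C]

theorem isPullback_whiskerRight {T G : C} (g : T ⟶ G) (H : C) :
    IsPullback (g ▷ H) (fst T H) (fst G H) g := by
  refine IsPullback.of_isLimit' ⟨whiskerRight_fst _ _⟩ (PullbackCone.IsLimit.mk _
    (fun s ↦ lift s.snd (s.fst ≫ snd _ _)) ?_ ?_ ?_)
  · intro s
    ext1
    · rw [Category.assoc, whiskerRight_fst, lift_fst_assoc, s.condition]
    · rw [Category.assoc, whiskerRight_snd, lift_snd]
  · intro s
    exact lift_fst _ _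
  · intro s l h1 h2
    ext1
    · rw [h2, lift_fst]
    · rw [lift_snd, ← h1, Category.assoc, whiskerRight_snd]

end Square

variable {S : Scheme.{u}} {G H M N : Over S} [GrpObj H] [GrpObj M] [GrpObj N]

/-- The family `γ` is multiplicative in the second variable. -/
def IsMul (γ : G ⊗ H ⟶ M) : Prop :=
  ∀ {U : Over S} (t : U ⟶ G) (a b : U ⟶ H),
    lift t (a * b) ≫ γ = (lift t a ≫ γ) * (lift t b ≫ γ)

omit [GrpObj N] in
theorem IsMul.one {γ : G ⊗ H ⟶ M} (hγ : IsMul γ) {U : Over S} (t : U ⟶ G) :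
    lift t (1 : U ⟶ H) ≫ γ = 1 := by
  have h := hγ t (1 : U ⟶ H) 1
  rw [_root_.mul_one] at h
  exact left_eq_mul.1 h

omit [GrpObj H] [GrpObj M] [GrpObj N] in
theorem cond_iff (i : N ⟶ M) [Mono i] (γ : G ⊗ H ⟶ M) {T : Over S} (g : T ⟶ G) :
    Cond (fst G H).left (pullback.fst γ i).left g.left ↔ ∃ a : T ⊗ H ⟶ N, a ≫ i = (g ▷ H) ≫ γ := by
  have hpb : IsPullback (g ▷ H).left (fst T H).left (fst G H).left g.left :=
    isPullback_left (isPullback_whiskerRight g H)
  constructor
  · rintro ⟨a, ha⟩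
    let c : T ⊗ H ⟶ pullback γ i := Over.homMk (hpb.isoPullback.hom ≫ a) (by
      rw [← Over.w (pullback.fst γ i), Category.assoc, ← Category.assoc a, ha,
        ← Category.assoc, hpb.isoPullback_hom_fst]
      exact Over.w (g ▷ H))
    have hc : c ≫ pullback.fst γ i = g ▷ H := by
      apply Over.OverMorphism.ext
      change (hpb.isoPullback.hom ≫ a) ≫ (pullback.fst γ i).left = _
      rw [Category.assoc, ha, hpb.isoPullback_hom_fst]
    refine ⟨c ≫ pullback.snd γ i, ?_⟩
    rw [Category.assoc, ← pullback.condition, ← Category.assoc, hc]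
  · rintro ⟨a, ha⟩
    refine ⟨hpb.isoPullback.inv ≫ (pullback.lift (g ▷ H) a ha.symm : T ⊗ H ⟶ pullback γ i).left, ?_⟩
    rw [Category.assoc, ← Over.comp_left, pullback.lift_fst, hpb.isoPullback_inv_fst]

theorem exists_closed [Smooth H.hom] [GeometricallyIrreducible H.hom]
    [LocallyOfFinitePresentation N.hom] [LocallyOfFiniteType M.hom] (i : N ⟶ M) [IsMonHom i]
    [Mono i] (γ : G ⊗ H ⟶ M) (hγ : IsMul γ) :
    ∃ (Z : Over S) (z : Z ⟶ G), IsClosedImmersion z.left ∧ LocallyOfFinitePresentation z.left ∧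
      ∀ (T : Over S) (g : T ⟶ G), (∃ w : T ⟶ Z, w ≫ z = g) ↔
        ∃ a : T ⊗ H ⟶ N, a ≫ i = (g ▷ H) ≫ γ := by
  let f : (G ⊗ H).left ⟶ G.left := (fst G H).left
  have hf : Smooth f := by
    change Smooth (pullback.fst _ _)
    infer_instance
  let j₀ : pullback γ i ⟶ G ⊗ H := pullback.fst γ i
  let j := j₀.left
  have hj : Mono j := inferInstance
  have hilfp : LocallyOfFinitePresentation i.left := by
    have : LocallyOfFinitePresentation (i.left ≫ M.hom) := by
      rw [Over.w i]
      infer_instance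
    exact Ega43.FPOfComp.locallyOfFinitePresentation_of_comp _ M.hom
  have hjlfp : LocallyOfFinitePresentation j := by
    have h1 : IsPullback j₀.left (pullback.snd γ i).left γ.left i.left :=
      isPullback_left (IsPullback.of_hasPullback γ i)
    exact MorphismProperty.of_isPullback (P := @LocallyOfFinitePresentation) h1.flip hilfp
  let e₀ : G ⟶ pullback γ i := pullback.lift (lift (𝟙 G) (1 : G ⟶ H)) (1 : G ⟶ N) (by
    rw [hγ.one, one_comp])
  have he₀ : (e₀ ≫ j₀) ≫ fst G H = 𝟙 G := by
    rw [pullback.lift_fst, lift_fst]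
  have hs : (e₀.left ≫ j) ≫ f = 𝟙 G.left := by
    change ((e₀ ≫ j₀) ≫ fst G H).left = 𝟙 G.left
    rw [he₀]
    rfl
  obtain ⟨Z, z, hz1, hz2, hz⟩ := CWMono.exists_closed_representing f j e₀.left hs (by
    intro T g W w hw1 hw2 hw3 c hc
    let T' : Over S := Over.mk (g ≫ G.hom)
    let g' : T' ⟶ G := Over.homMk g
    change Cond f j g'.left
    rw [cond_iff]
    have hpb : IsPullback (g' ▷ H).left (fst T' H).left f g :=
      isPullback_left (isPullback_whiskerRight g' H)
    let w1 : W ⟶ (T' ⊗ H).left := w ≫ hpb.isoPullback.inv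
    let W' : Over S := Over.mk (w1 ≫ (T' ⊗ H).hom)
    let w' : W' ⟶ T' ⊗ H := Over.homMk w1
    have h1 : Flat w'.left := inferInstanceAs (Flat (w ≫ hpb.isoPullback.inv))
    have h2 : LocallyOfFinitePresentation w'.left :=
      inferInstanceAs (LocallyOfFinitePresentation (w ≫ hpb.isoPullback.inv))
    have hw1g : w1 ≫ (g' ▷ H).left = c ≫ j := by
      rw [Category.assoc, hpb.isoPullback_inv_fst, hc]
    let c' : W' ⟶ pullback γ i := Over.homMk c (by
      rw [← Over.w (pullback.fst γ i)]
      change c ≫ j ≫ (G ⊗ H).hom = w1 ≫ (T' ⊗ H).hom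
      rw [← Category.assoc, ← hw1g, Category.assoc]
      congr 1
      exact Over.w (g' ▷ H))
    have hc' : c' ≫ j₀ = w' ≫ (g' ▷ H) := by
      apply Over.OverMorphism.ext
      exact hw1g.symm
    refine exists_lift_of_flat i ((g' ▷ H) ≫ γ) ?_ w' ?_ (c' ≫ pullback.snd γ i) ?_
    · intro U t a b
      simp only [← Category.assoc, lift_whiskerRight]
      exact hγ _ _ _
    · intro t
      obtain ⟨x, hx⟩ := hw3 t
      refine ⟨x, ?_⟩
      rw [← hx]
      have : (w' ≫ fst T' H).left = w ≫ pullback.snd f g := by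
        change w1 ≫ (fst T' H).left = _
        rw [Category.assoc, hpb.isoPullback_inv_snd]
      rw [this]
    · rw [Category.assoc, ← pullback.condition, ← Category.assoc]
      change (c' ≫ j₀) ≫ γ = _
      rw [hc', Category.assoc])
  refine ⟨Over.mk (z ≫ G.hom), Over.homMk z, hz1, hz2, ?_⟩
  intro T g
  rw [← cond_iff, ← hz]
  constructor
  · rintro ⟨w, hw⟩
    refine ⟨w.left, ?_⟩
    rw [← hw]
    rfl
  · rintro ⟨w, hw⟩
    refine ⟨Over.homMk w (by
      change w ≫ z ≫ G.hom = T.hom
      rw [← Category.assoc, hw]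
      exact Over.w g), ?_⟩
    apply Over.OverMorphism.ext
    exact hw

end Groth.Agent.Sga3C.CWFam
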