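import Mathlib.AlgebraicGeometry.IdealSheaf.Subscheme
import Mathlib.AlgebraicGeometry.IdealSheaf.Functorial
import Mathlib.AlgebraicGeometry.Morphisms.ClosedImmersion
import Mathlib.AlgebraicGeometry.Morphisms.FinitePresentation

/-!
A Zariski local condition on `S`-schemes which is locally on `S` represented by closed subschemes
is represented by a closed subscheme of `S`.
-/

namespace Groth.Agent.Sga3C.CWGlue

open CategoryTheory AlgebraicGeometry TopologicalSpace Opposite

universe u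

section Algebra

theorem eq_zero_of_forall_away {C : Type u} [CommRing C] (t : Set C) (ht : Ideal.span t = ⊤)
    (c : C) (h : ∀ a ∈ t, algebraMap C (Localization.Away a) c = 0) : c = 0 := by
  by_contra hc
  have hAnn : ∀ x, x ∈ LinearMap.ker (LinearMap.toSpanSingleton C C c) ↔ x * c = 0 := by
    intro x
    rw [LinearMap.mem_ker, LinearMap.toSpanSingleton_apply, smul_eq_mul]
  obtain ⟨m, hm, hle⟩ := Ideal.exists_le_maximal
    (LinearMap.ker (LinearMap.toSpanSingleton C C c)) (by
      rw [Ideal.ne_top_iff_one, hAnn, one_mul]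
      exact hc)
  have h1 : t ⊆ m := by
    intro a ha
    obtain ⟨⟨_, n, rfl⟩, hn⟩ := (IsLocalization.map_eq_zero_iff (Submonoid.powers a)
      (Localization.Away a) c).1 (h a ha)
    have : a ^ n ∈ m := hle ((hAnn _).2 hn)
    exact hm.isPrime.mem_of_pow_mem n this
  have h2 : Ideal.span t ≤ m := Ideal.span_le.2 h1
  rw [ht] at h2
  exact hm.ne_top (top_le_iff.1 h2)

end Algebra

variable {S : Scheme.{u}} (P : ∀ ⦃T : Scheme.{u}⦄, (T ⟶ S) → Prop)

/-- The condition `P` is represented over the affine open `W` by the ideal `K`. -/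
def RepAt (W : S.Opens) (hW : IsAffineOpen W) (K : Ideal Γ(S, W)) : Prop :=
  ∀ (C : CommRingCat.{u}) (φ : Γ(S, W) ⟶ C),
    P (Spec.map φ ≫ hW.fromSpec) ↔ K.map φ.hom = ⊥

theorem RepAt.le {V W : S.Opens} {hV : IsAffineOpen V} (hW : IsAffineOpen W) (h : W ≤ V)
    {K : Ideal Γ(S, V)} (hK : RepAt P V hV K) :
    RepAt P W hW (K.map (S.presheaf.map (homOfLE h).op).hom) := by
  intro C φ
  rw [Ideal.map_map, ← CommRingCat.hom_comp, ← hK, Spec.map_comp, Category.assoc,
    IsAffineOpen.map_fromSpec]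

/-- The ideal of functions on `W` killed by all test maps. -/
def idealOf (W : S.Opens) (hW : IsAffineOpen W) : Ideal Γ(S, W) where
  carrier := {a | ∀ (C : CommRingCat.{u}) (φ : Γ(S, W) ⟶ C),
    P (Spec.map φ ≫ hW.fromSpec) → φ.hom a = 0}
  add_mem' := by
    intro a b ha hb C φ hφ
    rw [map_add, ha C φ hφ, hb C φ hφ, add_zero]
  zero_mem' := by
    intro C φ _
    rw [map_zero]
  smul_mem' := by
    intro c a ha C φ hφ
    rw [smul_eq_mul, map_mul, ha C φ hφ, mul_zero]

theorem mem_idealOf {W : S.Opens} {hW : IsAffineOpen W} {a : Γ(S, W)} :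
    a ∈ idealOf P W hW ↔ ∀ (C : CommRingCat.{u}) (φ : Γ(S, W) ⟶ C),
      P (Spec.map φ ≫ hW.fromSpec) → φ.hom a = 0 := Iff.rfl

theorem RepAt.idealOf_eq {W : S.Opens} {hW : IsAffineOpen W} {K : Ideal Γ(S, W)}
    (hK : RepAt P W hW K) : idealOf P W hW = K := by
  apply le_antisymm
  · intro a ha
    have h1 := ha (CommRingCat.of (Γ(S, W) ⧸ K)) (CommRingCat.ofHom (Ideal.Quotient.mk K))
      ((hK _ _).2 (Ideal.map_quotient_self K))
    rw [CommRingCat.hom_ofHom, Ideal.Quotient.eq_zero_iff_mem] at h1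
    exact h1
  · intro a ha C φ hφ
    have h0 := (hK _ _).1 hφ
    have := Ideal.mem_map_of_mem φ.hom ha
    rw [h0] at this
    exact this

theorem exists_span (hrep : ∀ s : S, ∃ (V : S.Opens) (hV : IsAffineOpen V) (K : Ideal Γ(S, V)),
    s ∈ V ∧ RepAt P V hV K) (U : S.Opens) (hU : IsAffineOpen U) :
    ∃ t : Finset Γ(S, U), Ideal.span (t : Set Γ(S, U)) = ⊤ ∧
      ∀ h ∈ t, ∃ K, RepAt P (S.basicOpen h) (hU.basicOpen h) K := by
  let t' : Set Γ(S, U) := {h | ∃ K, RepAt P (S.basicOpen h) (hU.basicOpen h) K}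
  have ht' : Ideal.span t' = ⊤ := by
    rw [← hU.iSup_basicOpen_eq_self_iff]
    apply le_antisymm
    · simp only [iSup_le_iff]
      intro x
      exact S.basicOpen_le _
    · intro x hx
      obtain ⟨V, hV, K, hxV, hK⟩ := hrep x
      obtain ⟨f, g, hfg, hxf⟩ := exists_basicOpen_le_affine_inter hU hV x ⟨hx, hxV⟩
      rw [Opens.mem_iSup]
      have hle : S.basicOpen f ≤ V := by
        rw [hfg]
        exact S.basicOpen_le _
      exact ⟨⟨f, _, hK.le P (hU.basicOpen f) hle⟩, hxf⟩
  obtain ⟨t, ht, ht2⟩ := (Ideal.span_eq_top_iff_finite t').1 ht'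
  exact ⟨t, ht2, fun h hh => ht hh⟩

/-- Extension of a ring map inverting `h` to the basic open of `h`. -/
theorem exists_lift_basicOpen (U : S.Opens) (hU : IsAffineOpen U) (h : Γ(S, U))
    (C : CommRingCat.{u}) (φ : Γ(S, U) ⟶ C) (hu : IsUnit (φ.hom h)) :
    ∃ ψ : Γ(S, S.basicOpen h) ⟶ C, S.presheaf.map (homOfLE (S.basicOpen_le h)).op ≫ ψ = φ := by
  have := hU.isLocalization_basicOpen h
  refine ⟨CommRingCat.ofHom (IsLocalization.Away.lift (S := Γ(S, S.basicOpen h)) h hu), ?_⟩
  ext a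
  exact IsLocalization.Away.lift_eq (S := Γ(S, S.basicOpen h)) h hu a

theorem fromSpec_basicOpen (U : S.Opens) (hU : IsAffineOpen U) (h : Γ(S, U)) {C : CommRingCat.{u}}
    (φ : Γ(S, U) ⟶ C) (ψ : Γ(S, S.basicOpen h) ⟶ C)
    (e : S.presheaf.map (homOfLE (S.basicOpen_le h)).op ≫ ψ = φ) :
    Spec.map φ ≫ hU.fromSpec = Spec.map ψ ≫ (hU.basicOpen h).fromSpec := by
  have h2 := hU.map_fromSpec (hU.basicOpen h) (homOfLE <| S.basicOpen_le h).op
  rw [← e, Spec.map_comp, Category.assoc, h2]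

variable (hpre : ∀ {T' T : Scheme.{u}} (h : T' ⟶ T) (g : T ⟶ S), P g → P (h ≫ g))
variable (hrep : ∀ s : S, ∃ (V : S.Opens) (hV : IsAffineOpen V) (K : Ideal Γ(S, V)),
  s ∈ V ∧ RepAt P V hV K)

include hpre hrep in
theorem map_idealOf (U : S.Opens) (hU : IsAffineOpen U) (f : Γ(S, U)) :
    (idealOf P U hU).map (S.presheaf.map (homOfLE <| S.basicOpen_le f).op).hom =
      idealOf P (S.basicOpen f) (hU.basicOpen f) := by
  apply le_antisymm
  · rw [Ideal.map_le_iff_le_comap]
    intro a ha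
    rw [Ideal.mem_comap, mem_idealOf]
    intro C φ hφ
    have := ha C (S.presheaf.map (homOfLE <| S.basicOpen_le f).op ≫ φ) (by
      rw [fromSpec_basicOpen U hU f _ φ rfl]
      exact hφ)
    exact this
  · intro b hb
    have hloc := hU.isLocalization_basicOpen f
    obtain ⟨⟨a, ⟨_, n, rfl⟩⟩, hab⟩ := IsLocalization.surj (Submonoid.powers f) b
    dsimp only at hab
    obtain ⟨t, ht, htK⟩ := exists_span P hrep U hU
    -- a is killed by a power of f in each quotient
    have key : ∀ h ∈ t, ∃ m : ℕ, ∀ (C : CommRingCat.{u}) (φ : Γ(S, U) ⟶ C),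
        P (Spec.map φ ≫ hU.fromSpec) → IsUnit (φ.hom h) → φ.hom (f ^ m * a) = 0 := by
      intro h hh
      obtain ⟨K, hK⟩ := htK h hh
      let ρ : Γ(S, U) ⟶ Γ(S, S.basicOpen h) :=
        S.presheaf.map (homOfLE (S.basicOpen_le h)).op
      let q : Γ(S, S.basicOpen h) ⟶ CommRingCat.of (Γ(S, S.basicOpen h) ⧸ K) :=
        CommRingCat.ofHom (Ideal.Quotient.mk K)
      let C₁ := Γ(S, S.basicOpen h) ⧸ K
      let f₁ : C₁ := (ρ ≫ q).hom f
      let loc : CommRingCat.of C₁ ⟶ CommRingCat.of (Localization.Away f₁) :=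
        CommRingCat.ofHom (algebraMap C₁ (Localization.Away f₁))
      have hPq : P (Spec.map q ≫ (hU.basicOpen h).fromSpec) :=
        (hK _ q).2 (Ideal.map_quotient_self K)
      have hPρq : P (Spec.map (ρ ≫ q) ≫ hU.fromSpec) := by
        rw [fromSpec_basicOpen U hU h _ q rfl]
        exact hPq
      have hunit : IsUnit (((ρ ≫ q) ≫ loc).hom f) :=
        IsLocalization.Away.algebraMap_isUnit (S := Localization.Away f₁) f₁
      obtain ⟨ψ, hψ⟩ := exists_lift_basicOpen U hU f _ ((ρ ≫ q) ≫ loc) hunit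
      have hPψ : P (Spec.map ψ ≫ (hU.basicOpen f).fromSpec) := by
        rw [← fromSpec_basicOpen U hU f _ ψ hψ, Spec.map_comp, Category.assoc]
        exact hpre _ _ hPρq
      have hb0 : ψ.hom b = 0 := hb _ ψ hPψ
      have ha0 : loc.hom ((ρ ≫ q).hom a) = 0 := by
        have h3 : loc.hom ((ρ ≫ q).hom a) =
            ψ.hom ((S.presheaf.map (homOfLE (S.basicOpen_le f)).op).hom a) := by
          rw [← CommRingCat.comp_apply, ← CommRingCat.comp_apply, hψ]
        rw [h3]
        change ψ.hom (algebraMap Γ(S, U) Γ(S, S.basicOpen f) a) = 0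
        rw [← hab, map_mul, hb0, zero_mul]
      obtain ⟨⟨_, m, rfl⟩, hm⟩ := (IsLocalization.map_eq_zero_iff (Submonoid.powers f₁)
        (Localization.Away f₁) _).1 ha0
      refine ⟨m, ?_⟩
      intro C φ hφ hu
      obtain ⟨χ, hχ⟩ := exists_lift_basicOpen U hU h _ φ hu
      have hPχ : K.map χ.hom = ⊥ := by
        refine (hK _ χ).1 ?_
        rw [← fromSpec_basicOpen U hU h _ χ hχ]
        exact hφ
      have hmem : ρ.hom (f ^ m * a) ∈ K := by
        rw [← Ideal.Quotient.eq_zero_iff_mem, map_mul, map_pow, map_mul, map_pow]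
        exact hm
      have h4 := Ideal.mem_map_of_mem χ.hom hmem
      rw [hPχ] at h4
      have h5 : φ.hom (f ^ m * a) = χ.hom (ρ.hom (f ^ m * a)) := by
        rw [← hχ]
        rfl
      rw [h5]
      exact h4
    choose m hm using key
    let M := ∑ h : {h // h ∈ t}, m h.1 h.2
    have hM : f ^ M * a ∈ idealOf P U hU := by
      intro C φ hφ
      apply eq_zero_of_forall_away (φ.hom '' (t : Set Γ(S, U)))
      · rw [← Ideal.map_span, ht, Ideal.map_top]
      · rintro _ ⟨h, hh, rfl⟩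
        have h1 := hm h hh (CommRingCat.of (Localization.Away (φ.hom h)))
          (φ ≫ CommRingCat.ofHom (algebraMap C (Localization.Away (φ.hom h)))) (by
            rw [Spec.map_comp, Category.assoc]
            exact hpre _ _ hφ)
          (IsLocalization.Away.algebraMap_isUnit (S := Localization.Away (φ.hom h)) (φ.hom h))
        have h2 : m h hh ≤ M :=
          Finset.single_le_sum (f := fun h : {h // h ∈ t} => m h.1 h.2) (fun _ _ => Nat.zero_le _)
            (Finset.mem_univ (⟨h, hh⟩ : {h // h ∈ t}))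
        have h3 : f ^ M * a = f ^ (M - m h hh) * (f ^ (m h hh) * a) := by
          rw [← mul_assoc, ← pow_add, Nat.sub_add_cancel h2]
        rw [h3, map_mul, map_mul]
        have h4 : algebraMap C (Localization.Away (φ.hom h)) (φ.hom (f ^ (m h hh) * a)) = 0 := h1
        rw [h4, mul_zero]
    have h6 : (S.presheaf.map (homOfLE <| S.basicOpen_le f).op).hom (f ^ M * a) ∈
        (idealOf P U hU).map (S.presheaf.map (homOfLE <| S.basicOpen_le f).op).hom :=
      Ideal.mem_map_of_mem _ hM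
    have hfu : IsUnit (algebraMap Γ(S, U) Γ(S, S.basicOpen f) f) :=
      IsLocalization.Away.algebraMap_isUnit (S := Γ(S, S.basicOpen f)) f
    have h7 : (S.presheaf.map (homOfLE <| S.basicOpen_le f).op).hom (f ^ M * a) =
        b * (algebraMap Γ(S, U) Γ(S, S.basicOpen f) f) ^ (n + M) := by
      change algebraMap Γ(S, U) Γ(S, S.basicOpen f) (f ^ M * a) = _
      rw [map_mul, ← hab, map_pow, map_pow]
      ring
    rw [h7] at h6
    have h8 := (hfu.pow (n + M))
    exact (Ideal.unit_mul_mem_iff_mem _ h8).1 (by rw [mul_comm]; exact h6)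

/-- The ideal sheaf glued from the local ideals. -/
def glued : S.IdealSheafData where
  ideal := fun U => idealOf P U.1 U.2
  map_ideal_basicOpen := fun U f => map_idealOf P hpre hrep U.1 U.2 f

theorem glued_ideal (V : S.Opens) (hV : IsAffineOpen V) (K : Ideal Γ(S, V))
    (hK : RepAt P V hV K) :
    (glued P hpre hrep).ideal ⟨V, hV⟩ = K := hK.idealOf_eq P

variable (hloc : ∀ {T : Scheme.{u}} (g : T ⟶ S) (𝒰 : Scheme.OpenCover.{u} T),
  (∀ i, P (𝒰.f i ≫ g)) → P g)

include hpre hrep hloc in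
theorem P_of_map_idealOf_eq_bot (U : S.Opens) (hU : IsAffineOpen U) (C : CommRingCat.{u})
    (φ : Γ(S, U) ⟶ C) (h : (idealOf P U hU).map φ.hom = ⊥) : P (Spec.map φ ≫ hU.fromSpec) := by
  obtain ⟨t, ht, htK⟩ := exists_span P hrep U hU
  have hspan : Ideal.span (Set.range (fun h : t => φ.hom h.1)) = ⊤ := by
    have : Set.range (fun h : t => φ.hom h.1) = φ.hom '' (t : Set Γ(S, U)) := by
      ext x
      simp
    rw [this, ← Ideal.map_span, ht, Ideal.map_top]
  refine hloc _ (Scheme.affineOpenCoverOfSpanRangeEqTop _ hspan).openCover ?_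
  intro i
  let i' : t := i
  change P (Spec.map (CommRingCat.ofHom (algebraMap C (Localization.Away (φ.hom i'.1)))) ≫
    Spec.map φ ≫ hU.fromSpec)
  obtain ⟨K, hK⟩ := htK i'.1 i'.2
  obtain ⟨ψ, hψ⟩ := exists_lift_basicOpen U hU i'.1 _
    (φ ≫ CommRingCat.ofHom (algebraMap C (Localization.Away (φ.hom i'.1))))
    (IsLocalization.Away.algebraMap_isUnit (S := Localization.Away (φ.hom i'.1)) (φ.hom i'.1))
  rw [← Spec.map_comp_assoc, fromSpec_basicOpen U hU i'.1 _ ψ hψ]
  refine (hK _ ψ).2 ?_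
  rw [← hK.idealOf_eq P, ← map_idealOf P hpre hrep U hU, Ideal.map_map, ← CommRingCat.hom_comp,
    hψ, CommRingCat.hom_comp, ← Ideal.map_map, h, Ideal.map_bot]

include hpre hrep hloc in
/-- The glued closed subscheme represents `P`. -/
theorem exists_lift_iff {T : Scheme.{u}} (g : T ⟶ S) :
    (∃ g' : T ⟶ (glued P hpre hrep).subscheme, g' ≫ (glued P hpre hrep).subschemeι = g) ↔
      P g := by
  constructor
  · rintro ⟨g', rfl⟩
    apply hpre
    refine hloc _ (glued P hpre hrep).subschemeCover.openCover ?_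
    intro U
    let U' : S.affineOpens := U
    change P ((glued P hpre hrep).subschemeCover.f U' ≫ (glued P hpre hrep).subschemeι)
    rw [Scheme.IdealSheafData.subschemeCover_map_subschemeι]
    exact P_of_map_idealOf_eq_bot P hpre hrep hloc U'.1 U'.2
      (CommRingCat.of (Γ(S, U'.1) ⧸ (glued P hpre hrep).ideal U'))
      (CommRingCat.ofHom (Ideal.Quotient.mk _)) (Ideal.map_quotient_self _)
  · intro hg
    have hle : (glued P hpre hrep) ≤ g.ker := by
      rw [Scheme.Hom.ker, Scheme.IdealSheafData.le_ofIdeals_iff]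
      intro U a ha
      rw [RingHom.mem_ker]
      refine T.IsSheaf.section_ext fun x hx => ?_
      obtain ⟨_, ⟨V, hV, rfl⟩, hxV, hVU : V ≤ g ⁻¹ᵁ U⟩ :=
        T.isBasis_affineOpens.exists_subset_of_mem_open hx (g ⁻¹ᵁ U).isOpen
      refine ⟨V, hVU, hxV, ?_⟩
      have h1 := ha Γ(T, V) (g.appLE U V hVU) (by
        rw [U.2.SpecMap_appLE_fromSpec g hV hVU]
        exact hpre _ _ hg)
      rw [map_zero]
      exact h1
    refine ⟨IsClosedImmersion.lift (glued P hpre hrep).subschemeι g ?_, ?_⟩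
    · rw [Scheme.IdealSheafData.ker_subschemeι]
      exact hle
    · exact IsClosedImmersion.lift_fac _ _ _

end Groth.Agent.Sga3C.CWGlue
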