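import Groth.Agent.Sga3C.CWSch
import Groth.Agent.Sga3C.CWGlue
import Mathlib.AlgebraicGeometry.Morphisms.UniversallyOpen

/-!
Closed Weil restriction of a closed subscheme of a smooth morphism with geometrically irreducible
fibres (SGA 3 VI_B 6.5.2).
-/

namespace Groth.Agent.Sga3C.CWMain

open CategoryTheory AlgebraicGeometry TopologicalSpace Opposite Limits TensorProduct
  Groth.Agent.Sga3C.CWGlue Groth.Agent.Sga3C.CWSch Groth.Agent.Sga3C.CWLocus

universe u

section Affine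

theorem fromSpec_appLE_top {X : Scheme.{u}} {U : X.Opens} (hU : IsAffineOpen U) (e) :
    hU.fromSpec.appLE U ⊤ e = (Scheme.ΓSpecIso Γ(X, U)).inv := by
  rw [Scheme.Hom.appLE, hU.fromSpec_app_self, Category.assoc, ← Functor.map_comp]
  exact Category.comp_id _

theorem appLE_top {X : Scheme.{u}} {U : X.Opens} (hU : IsAffineOpen U) {D : CommRingCat.{u}}
    (inr : Γ(X, U) ⟶ D) (e) : (Spec.map inr ≫ hU.fromSpec).appLE U ⊤ e =
      inr ≫ (Scheme.ΓSpecIso D).inv := by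
  have h1 : (⊤ : (Spec Γ(X, U)).Opens) ≤ hU.fromSpec ⁻¹ᵁ U := by
    rw [hU.fromSpec_preimage_self]
  rw [← Scheme.Hom.appLE_comp_appLE (Spec.map inr) hU.fromSpec U ⊤ ⊤ h1 le_rfl, fromSpec_appLE_top,
    Scheme.ΓSpecIso_inv_naturality]
  congr 1

theorem app_eq_zero {X : Scheme.{u}} {U : X.Opens} (hU : IsAffineOpen U) {D : CommRingCat.{u}}
    (inr : Γ(X, U) ⟶ D) (b : Γ(X, U)) (h : (Spec.map inr ≫ hU.fromSpec).app U b = 0) :
    inr.hom b = 0 := by
  have h1 : (⊤ : (Spec D).Opens) ≤ (Spec.map inr ≫ hU.fromSpec) ⁻¹ᵁ U := by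
    rw [Scheme.Hom.comp_preimage, hU.fromSpec_preimage_self]
    exact le_rfl
  have h2 := congrArg ((Spec D).presheaf.map (homOfLE h1).op) h
  rw [map_zero, ← ConcreteCategory.comp_apply] at h2
  change (Spec.map inr ≫ hU.fromSpec).appLE U ⊤ h1 b = 0 at h2
  rw [appLE_top] at h2
  have h4 := congrArg (Scheme.ΓSpecIso D).hom h2
  rw [← ConcreteCategory.comp_apply, Category.assoc, Iso.inv_hom_id, Category.comp_id,
    map_zero] at h4
  exact h4

/-- A map from an affine scheme into an affine open `U` factors through a closed immersion iff it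
kills the ideal of the closed immersion. -/
theorem factors_iff {X Y : Scheme.{u}} (j : Y ⟶ X) [IsClosedImmersion j] {U : X.Opens}
    (hU : IsAffineOpen U) {D : CommRingCat.{u}} (inr : Γ(X, U) ⟶ D) :
    (∃ a : Spec D ⟶ Y, a ≫ j = Spec.map inr ≫ hU.fromSpec) ↔
      ∀ b ∈ j.ker.ideal ⟨U, hU⟩, inr.hom b = 0 := by
  constructor
  · rintro ⟨a, ha⟩ b hb
    apply app_eq_zero hU inr b
    have h1 : j.ker ≤ (Spec.map inr ≫ hU.fromSpec).ker := by
      rw [← ha]
      exact Scheme.Hom.le_ker_comp a j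
    exact Scheme.Hom.ideal_ker_le _ ⟨U, hU⟩ (h1 ⟨U, hU⟩ hb)
  · intro h
    let I := j.ker
    let U' : X.affineOpens := ⟨U, hU⟩
    let q : CommRingCat.of (Γ(X, U) ⧸ I.ideal U') ⟶ D :=
      CommRingCat.ofHom (Ideal.Quotient.lift (I.ideal U') inr.hom h)
    have hlift : j.ker ≤ I.subschemeι.ker := by
      rw [Scheme.IdealSheafData.ker_subschemeι]
    refine ⟨Spec.map q ≫ I.subschemeCover.f U' ≫ IsClosedImmersion.lift j I.subschemeι hlift, ?_⟩
    rw [Category.assoc, Category.assoc, IsClosedImmersion.lift_fac]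
    have h2 : I.subschemeCover.f U' ≫ I.subschemeι =
        Spec.map (CommRingCat.ofHom (Ideal.Quotient.mk (I.ideal U'))) ≫ hU.fromSpec :=
      Scheme.IdealSheafData.subschemeCover_map_subschemeι I U'
    refine (congrArg (Spec.map q ≫ ·) h2).trans ?_
    change Spec.map q ≫ Spec.map (CommRingCat.ofHom (Ideal.Quotient.mk (I.ideal U'))) ≫
      hU.fromSpec = _
    rw [← Spec.map_comp_assoc]
    congr 2

end Affine

variable {S X Y : Scheme.{u}} (f : X ⟶ S) (j : Y ⟶ X)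

/-- The condition that `X_T` is contained in `Y`. -/
def Cond ⦃T : Scheme.{u}⦄ (g : T ⟶ S) : Prop :=
  ∃ a : pullback f g ⟶ Y, a ≫ j = pullback.fst f g

theorem cond_iff_isIso [Mono j] {T : Scheme.{u}} (g : T ⟶ S) :
    Cond f j g ↔ IsIso (pullback.snd j (pullback.fst f g)) := by
  constructor
  · rintro ⟨a, ha⟩
    let s : pullback f g ⟶ pullback j (pullback.fst f g) :=
      pullback.lift a (𝟙 _) (by rw [ha, Category.id_comp])
    have hs : s ≫ pullback.snd j (pullback.fst f g) = 𝟙 _ := pullback.lift_snd _ _ _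
    refine ⟨s, ?_, hs⟩
    rw [← cancel_mono (pullback.snd j (pullback.fst f g)), Category.assoc, hs, Category.comp_id,
      Category.id_comp]
  · intro h
    refine ⟨inv (pullback.snd j (pullback.fst f g)) ≫ pullback.fst _ _, ?_⟩
    rw [Category.assoc, pullback.condition, IsIso.inv_hom_id_assoc]

theorem cond_pre {T' T : Scheme.{u}} (h : T' ⟶ T) (g : T ⟶ S) (hg : Cond f j g) :
    Cond f j (h ≫ g) := by
  obtain ⟨a, ha⟩ := hg
  refine ⟨pullback.lift (pullback.fst _ _) (pullback.snd _ _ ≫ h)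
    (by rw [pullback.condition, Category.assoc]) ≫ a, ?_⟩
  rw [Category.assoc, ha, pullback.lift_fst]

theorem factor_of_cover [Mono j] {Z : Scheme.{u}} (𝒱 : Scheme.OpenCover.{u} Z) (h : Z ⟶ X)
    (a : ∀ i, 𝒱.X i ⟶ Y) (ha : ∀ i, a i ≫ j = 𝒱.f i ≫ h) : ∃ a : Z ⟶ Y, a ≫ j = h := by
  refine ⟨Scheme.Cover.glueMorphisms 𝒱 a ?_, ?_⟩
  · intro x y
    rw [← cancel_mono j, Category.assoc, Category.assoc, ha, ha, pullback.condition_assoc]
  · apply Scheme.Cover.hom_ext 𝒱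
    intro i
    rw [Scheme.Cover.ι_glueMorphisms_assoc, ha]

theorem app_eq_zero_congr {Z X : Scheme.{u}} {u v : Z ⟶ X} (h : u = v) {W : X.Opens} (c : Γ(X, W))
    (hc : u.app W c = 0) : v.app W c = 0 := by
  subst h
  exact hc

theorem restrict_section_eq_zero {Z : Scheme.{u}} (O W : Z.Opens) (y : Γ(Z, W))
    (h4 : O.ι.app W y = 0) :
    Z.presheaf.map (homOfLE (inf_le_left : W ⊓ O ≤ W)).op y = 0 := by
  rw [Scheme.Opens.ι_app] at h4
  have hle' : W ⊓ O ≤ O.ι ''ᵁ (O.ι ⁻¹ᵁ W) := by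
    rintro x ⟨hx1, hx2⟩
    exact ⟨⟨x, hx2⟩, hx1, rfl⟩
  have h0 : O.ι ''ᵁ (O.ι ⁻¹ᵁ W) ≤ W := by
    rintro _ ⟨x, hx, rfl⟩
    exact hx
  have h5 : Z.presheaf.map (homOfLE h0).op y = 0 := h4
  have h6 : Z.presheaf.map (homOfLE (inf_le_left : W ⊓ O ≤ W)).op y =
      Z.presheaf.map (homOfLE hle').op (Z.presheaf.map (homOfLE h0).op y) := by
    rw [← ConcreteCategory.comp_apply, ← Functor.map_comp]
    rfl
  rw [h6, h5, map_zero]

theorem restrict_eq_zero {Z X : Scheme.{u}} (O : Z.Opens) (h : Z ⟶ X) (W : X.Opens) (c : Γ(X, W))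
    (hc : (O.ι ≫ h).app W c = 0) :
    Z.presheaf.map (homOfLE (inf_le_left : h ⁻¹ᵁ W ⊓ O ≤ h ⁻¹ᵁ W)).op (h.app W c) = 0 :=
  restrict_section_eq_zero O (h ⁻¹ᵁ W) (h.app W c) hc

theorem cond_loc [Mono j] {T : Scheme.{u}} (g : T ⟶ S) (𝒰 : Scheme.OpenCover.{u} T)
    (h : ∀ i, Cond f j (𝒰.f i ≫ g)) : Cond f j g := by
  choose a ha using h
  let b : ∀ i, pullback (pullback.snd f g) (𝒰.f i) ⟶ pullback f (𝒰.f i ≫ g) := fun i =>
    pullback.lift (pullback.fst _ _ ≫ pullback.fst _ _) (pullback.snd _ _) (by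
      rw [Category.assoc, pullback.condition, pullback.condition_assoc])
  have hb : ∀ i : 𝒰.I₀, (b i ≫ a i) ≫ j =
      pullback.fst (pullback.snd f g) (𝒰.f i) ≫ pullback.fst f g := by
    intro i
    rw [Category.assoc, ha, pullback.lift_fst]
  exact factor_of_cover j (𝒰.pullback₁ (pullback.snd f g)) _ (fun i => b i ≫ a i) hb

/-- Charts. -/
theorem exists_chart (hf : IsOpenMap f) [Surjective f] (s : S) :
    ∃ (V : S.Opens) (_ : IsAffineOpen V) (U : X.Opens) (_ : IsAffineOpen U) (_ : U ≤ f ⁻¹ᵁ V),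
      s ∈ V ∧ ∀ y ∈ V, ∃ x ∈ U, f x = y := by
  obtain ⟨x, rfl⟩ := f.surjective s
  obtain ⟨_, ⟨V₀, hV₀, rfl⟩, hxV₀, -⟩ :=
    S.isBasis_affineOpens.exists_subset_of_mem_open (Set.mem_univ (f x)) isOpen_univ
  obtain ⟨_, ⟨U₀, hU₀, rfl⟩, hxU₀, hU₀V₀⟩ :=
    X.isBasis_affineOpens.exists_subset_of_mem_open (a := x)
      (u := ((f ⁻¹ᵁ V₀ : X.Opens) : Set X)) hxV₀ (f ⁻¹ᵁ V₀).isOpen
  have hle : U₀ ≤ f ⁻¹ᵁ V₀ := hU₀V₀
  let W : S.Opens := ⟨f '' U₀, hf _ U₀.isOpen⟩
  obtain ⟨r, hr, hxr⟩ := hV₀.exists_basicOpen_le (V := W) ⟨f x, ⟨x, hxU₀, rfl⟩⟩ hxV₀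
  have hU : X.basicOpen (f.appLE V₀ U₀ hle r) = U₀ ⊓ f ⁻¹ᵁ (S.basicOpen r) := by
    rw [Scheme.Hom.appLE, CommRingCat.comp_apply, Scheme.basicOpen_res, Scheme.preimage_basicOpen]
  refine ⟨S.basicOpen r, hV₀.basicOpen r, X.basicOpen (f.appLE V₀ U₀ hle r), hU₀.basicOpen _, ?_,
    hxr, ?_⟩
  · rw [hU]
    exact inf_le_right
  · intro y hy
    obtain ⟨z, hz, hzy⟩ := hr hy
    refine ⟨z, ?_, hzy⟩
    rw [hU]
    refine ⟨hz, ?_⟩
    change f z ∈ S.basicOpen r
    rw [hzy]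
    exact hy

theorem surjective_SpecMap {V : S.Opens} (hV : IsAffineOpen V) {U : X.Opens}
    (hU : IsAffineOpen U) (e : U ≤ f ⁻¹ᵁ V) (h : ∀ y ∈ V, ∃ x ∈ U, f x = y) :
    Surjective (Spec.map (f.appLE V U e)) := by
  refine ⟨fun y => ?_⟩
  have hy : hV.fromSpec y ∈ V := by
    rw [← SetLike.mem_coe, ← hV.range_fromSpec]
    exact ⟨y, rfl⟩
  obtain ⟨x, hx, hxy⟩ := h _ hy
  refine ⟨hU.primeIdealOf ⟨x, hx⟩, ?_⟩
  apply hV.fromSpec.isOpenEmbedding.injective
  rw [← hxy, ← Scheme.Hom.comp_apply, hV.SpecMap_appLE_fromSpec f hU e, Scheme.Hom.comp_apply,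
    hU.fromSpec_primeIdealOf ⟨x, hx⟩]

theorem geomInt_chart [GeometricallyIntegral f] {V : S.Opens} (hV : IsAffineOpen V) {U : X.Opens}
    (hU : IsAffineOpen U) (e : U ≤ f ⁻¹ᵁ V) (h : ∀ y ∈ V, ∃ x ∈ U, f x = y)
    [Algebra Γ(S, V) Γ(X, U)] (halg : algebraMap Γ(S, V) Γ(X, U) = (f.appLE V U e).hom) :
    GeomInt Γ(S, V) Γ(X, U) := by
  intro K _ _
  have hsurj := surjective_SpecMap f hV hU e h
  have h0 : CommRingCat.ofHom (algebraMap Γ(S, V) Γ(X, U)) = f.appLE V U e := by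
    ext x
    rw [CommRingCat.hom_ofHom, halg]
  have hpo := CommRingCat.isPushout_tensorProduct Γ(S, V) K Γ(X, U)
  rw [h0] at hpo
  have hpb := isPullback_SpecMap_of_isPushout _ _ _ _ hpo
  have hs2 : Surjective (Spec.map (CommRingCat.ofHom (S := K ⊗[Γ(S, V)] Γ(X, U))
      Algebra.TensorProduct.includeLeftRingHom)) :=
    MorphismProperty.of_isPullback (P := @Surjective) hpb.flip hsurj
  have hne : Nonempty (PrimeSpectrum (K ⊗[Γ(S, V)] Γ(X, U))) := by
    obtain ⟨x, -⟩ := hs2.surj (IsLocalRing.closedPoint K)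
    exact ⟨x⟩
  have hnt : Nontrivial (K ⊗[Γ(S, V)] Γ(X, U)) := PrimeSpectrum.nonempty_iff_nontrivial.1 hne
  exact isDomain_tensor f hV hU e halg K

/-- The condition over an affine chart. -/
theorem cond_iff_chart [Smooth f] [GeometricallyIrreducible f] [IsClosedImmersion j]
    {V : S.Opens} (hV : IsAffineOpen V) {U : X.Opens}
    (hU : IsAffineOpen U) (e : U ≤ f ⁻¹ᵁ V) (h : ∀ y ∈ V, ∃ x ∈ U, f x = y)
    {C D : CommRingCat.{u}} (ψ : Γ(S, V) ⟶ C) (inl : C ⟶ D) (inr : Γ(X, U) ⟶ D)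
    (hpo : IsPushout ψ (f.appLE V U e) inl inr) :
    Cond f j (Spec.map ψ ≫ hV.fromSpec) ↔ ∀ b ∈ j.ker.ideal ⟨U, hU⟩, inr.hom b = 0 := by
  rw [← factors_iff j hU inr]
  constructor
  · rintro ⟨a, ha⟩
    refine ⟨toPullback f hV hU e ψ inl inr hpo ≫ a, ?_⟩
    rw [Category.assoc, ha, toPullback_fst]
  · rintro ⟨a, ha⟩
    let g := Spec.map ψ ≫ hV.fromSpec
    let ι' := toPullback f hV hU e ψ inl inr hpo
    let O := ι'.opensRange
    -- `O → X` factors through `Y`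
    let a' : (O : Scheme.{u}) ⟶ Y := ι'.isoOpensRange.inv ≫ a
    have ha' : a' ≫ j = O.ι ≫ pullback.fst f g := by
      have h1 : ι' ≫ pullback.fst f g = a ≫ j := by
        rw [ha]
        exact toPullback_fst f hV hU e ψ inl inr hpo
      rw [Category.assoc, ← h1, Iso.inv_comp_eq, ← Category.assoc]
      congr 1
      exact (ι'.isoOpensRange_hom_ι).symm
    have hsurj := surjective_SpecMap f hV hU e h
    have hs2 : Surjective (Spec.map inl) :=
      MorphismProperty.of_isPullback (P := @Surjective)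
        (isPullback_SpecMap_of_isPushout _ _ _ _ hpo).flip hsurj
    have hO : ∀ t : Spec C, ∃ x ∈ O, (pullback.snd f g) x = t := by
      intro t
      obtain ⟨y, hy⟩ := hs2.surj t
      refine ⟨ι' y, ⟨y, rfl⟩, ?_⟩
      rw [← Scheme.Hom.comp_apply]
      have h2 : ι' ≫ pullback.snd f g = Spec.map inl := toPullback_snd f hV hU e ψ inl inr hpo
      rw [h2]
      exact hy
    have hle : j.ker ≤ (pullback.fst f g).ker := by
      refine Scheme.IdealSheafData.le_ofIdeals_iff.2 ?_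
      intro W c hc
      rw [RingHom.mem_ker]
      apply eq_zero_of_restrict_eq_zero (pullback.snd f g) O hO
      have hc' : j.app W c = 0 := Scheme.Hom.ideal_ker_le _ W hc
      have h3 : (a' ≫ j).app W c = 0 := by
        change a'.app (j ⁻¹ᵁ W.1) (j.app W.1 c) = 0
        rw [hc', map_zero]
      exact restrict_eq_zero O (pullback.fst f g) W.1 c (app_eq_zero_congr ha' c h3)
    exact ⟨IsClosedImmersion.lift j _ hle, IsClosedImmersion.lift_fac _ _ _⟩

/-- The ideal of a closed immersion of finite presentation is locally finitely generated. -/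
theorem fg_ker_ideal [IsClosedImmersion j] [LocallyOfFinitePresentation j] (U : X.affineOpens) :
    (j.ker.ideal U).FG := by
  have hUY : IsAffineOpen (j ⁻¹ᵁ U.1) := U.2.preimage j
  have h1 : (j.appLE U.1 (j ⁻¹ᵁ U.1) le_rfl).hom.FinitePresentation :=
    j.finitePresentation_appLE U.2 hUY le_rfl
  have h2 : j.appLE U.1 (j ⁻¹ᵁ U.1) le_rfl = j.app U.1 := j.app_eq_appLE.symm
  rw [h2] at h1
  let _ : Algebra Γ(X, U.1) Γ(Y, j ⁻¹ᵁ U.1) := (j.app U.1).hom.toAlgebra
  have hfp : Algebra.FinitePresentation Γ(X, U.1) Γ(Y, j ⁻¹ᵁ U.1) := h1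
  have h3 := Algebra.FinitePresentation.ker_fG_of_surjective
    (Algebra.ofId Γ(X, U.1) Γ(Y, j ⁻¹ᵁ U.1)) (j.app_surjective U.1 U.2)
  rw [Scheme.Hom.ker_apply]
  exact h3

/-- A closed subscheme with locally finitely generated ideal is of finite presentation. -/
theorem locallyOfFinitePresentation_subschemeι (I : S.IdealSheafData)
    (h : ∀ s : S, ∃ V : S.affineOpens, s ∈ V.1 ∧ (I.ideal V).FG) :
    LocallyOfFinitePresentation I.subschemeι := by
  let ι := {V : S.affineOpens // (I.ideal V).FG}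
  let 𝒰 : I.subscheme.OpenCover := Scheme.Cover.mkOfCovers ι
    (fun V => Spec (I.subschemeCover.X V.1)) (fun V => I.subschemeCover.f V.1) (by
      intro x
      obtain ⟨V, hsV, hV⟩ := h (I.subschemeι x)
      have h1 : x ∈ (I.subschemeCover.f V).opensRange := by
        rw [Scheme.IdealSheafData.opensRange_subschemeCover_map]
        exact hsV
      obtain ⟨y, hy⟩ := h1
      exact ⟨⟨V, hV⟩, y, hy⟩) (fun V => inferInstance)
  rw [IsZariskiLocalAtSource.iff_of_openCover (P := @LocallyOfFinitePresentation) 𝒰]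
  intro V
  let V' : ι := V
  change LocallyOfFinitePresentation (I.subschemeCover.f V'.1 ≫ I.subschemeι)
  have h2 : I.subschemeCover.f V'.1 ≫ I.subschemeι =
      Spec.map (CommRingCat.ofHom (Ideal.Quotient.mk (I.ideal V'.1))) ≫ V'.1.2.fromSpec :=
    Scheme.IdealSheafData.subschemeCover_map_subschemeι I V'.1
  rw [h2]
  have h3 : LocallyOfFinitePresentation
      (Spec.map (CommRingCat.ofHom (Ideal.Quotient.mk (I.ideal V'.1)))) := by
    rw [LocallyOfFinitePresentation.SpecMap_iff]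
    exact RingHom.FinitePresentation.of_surjective _ Ideal.Quotient.mk_surjective (by
      rw [CommRingCat.hom_ofHom, Ideal.mk_ker]
      exact V'.2)
  have h4 : LocallyOfFinitePresentation V'.1.2.fromSpec := inferInstance
  exact @locallyOfFinitePresentation_comp _ _ _ _ _ h3 h4

/-- Local representability of the condition. -/
theorem exists_repAt [Smooth f] [GeometricallyIrreducible f] [IsClosedImmersion j] (s : S) :
    ∃ (V : S.Opens) (hV : IsAffineOpen V) (K : Ideal Γ(S, V)), s ∈ V ∧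
      RepAt (Cond f j) V hV K ∧ (LocallyOfFinitePresentation j → K.FG) := by
  classical
  have hint : GeometricallyIntegral f :=
    Groth.Agent.Flat2B.SmoothGeom.geometricallyIntegral_of_smooth f
  obtain ⟨V, hV, U, hU, e, hs, h⟩ := exists_chart f f.isOpenMap s
  let _ : Algebra Γ(S, V) Γ(X, U) := (f.appLE V U e).hom.toAlgebra
  have hsm : Algebra.Smooth Γ(S, V) Γ(X, U) := f.smooth_appLE hV hU e
  have hB : GeomInt Γ(S, V) Γ(X, U) := geomInt_chart f hV hU e h rfl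
  choose K hKfg hK using exists_locus_ideal hB
  let J : Ideal Γ(X, U) := j.ker.ideal ⟨U, hU⟩
  -- the ideal attached to a subset of `B`
  let KS : Set Γ(X, U) → Ideal Γ(S, V) := fun t => ⨆ b : t, K b.1
  have hKS : ∀ (t : Set Γ(X, U)) (C : Type u) [CommRing C] [Algebra Γ(S, V) C],
      (KS t).map (algebraMap Γ(S, V) C) = ⊥ ↔ ∀ b ∈ t, (1 : C) ⊗ₜ[Γ(S, V)] b = 0 := by
    intro t C _ _
    rw [Ideal.map_iSup, iSup_eq_bot]
    constructor
    · intro h b hb
      exact (hK b C).1 (h ⟨b, hb⟩)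
    · intro h b
      exact (hK b.1 C).2 (h b.1 b.2)
  refine ⟨V, hV, KS J, hs, ?_, ?_⟩
  · intro C ψ
    let _ : Algebra Γ(S, V) C := ψ.hom.toAlgebra
    have hpo := CommRingCat.isPushout_tensorProduct Γ(S, V) C Γ(X, U)
    have h1 : Cond f j (Spec.map ψ ≫ hV.fromSpec) ↔ ∀ b ∈ J, (1 : C) ⊗ₜ[Γ(S, V)] b = 0 :=
      cond_iff_chart f j hV hU e h ψ _ _ hpo
    rw [h1]
    exact (hKS J C).symm
  · intro hj
    have hJ : J.FG := fg_ker_ideal j ⟨U, hU⟩
    obtain ⟨t, ht⟩ := hJ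
    have h2 : KS J = KS (t : Set Γ(X, U)) := by
      apply Groth.Agent.Sga3C.CWSection.eq_of_forall_map_eq_bot_iff
      intro C _ _
      rw [hKS, hKS]
      constructor
      · intro h b hb
        apply h b
        rw [← ht]
        exact Ideal.subset_span hb
      · intro h b hb
        let θ : Γ(X, U) →ₐ[Γ(S, V)] C ⊗[Γ(S, V)] Γ(X, U) := Algebra.TensorProduct.includeRight
        have h3 : J ≤ RingHom.ker θ := by
          rw [← ht, Submodule.span_le]
          intro b hb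
          exact h b hb
        exact h3 hb
    rw [h2]
    have h4 : KS (t : Set Γ(X, U)) = ⨆ b ∈ t, K b := by
      rw [iSup_subtype']
      rfl
    rw [h4]
    exact Submodule.fg_biSup t K (fun b _ => hKfg b)


/-- SGA 3 VI_B 6.5.2. -/
theorem exists_closed_weilRestriction [Smooth f] [GeometricallyIrreducible f]
    [IsClosedImmersion j] :
    ∃ (T : Scheme.{u}) (t : T ⟶ S), IsClosedImmersion t ∧
      (∀ (S' : Scheme.{u}) (g : S' ⟶ S),
        (∃ g' : S' ⟶ T, g' ≫ t = g) ↔ Cond f j g) ∧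
      (LocallyOfFinitePresentation j → LocallyOfFinitePresentation t) := by
  have hpre : ∀ {T' T : Scheme.{u}} (h : T' ⟶ T) (g : T ⟶ S), Cond f j g → Cond f j (h ≫ g) :=
    fun h g => cond_pre f j h g
  have hrep : ∀ s : S, ∃ (V : S.Opens) (hV : IsAffineOpen V) (K : Ideal Γ(S, V)),
      s ∈ V ∧ RepAt (Cond f j) V hV K := by
    intro s
    obtain ⟨V, hV, K, hs, h, -⟩ := exists_repAt f j s
    exact ⟨V, hV, K, hs, h⟩
  refine ⟨(glued (Cond f j) hpre hrep).subscheme, (glued (Cond f j) hpre hrep).subschemeι,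
    inferInstance, ?_, ?_⟩
  · intro S' g
    exact exists_lift_iff (Cond f j) hpre hrep (fun g 𝒰 h => cond_loc f j g 𝒰 h) g
  · intro hj
    apply locallyOfFinitePresentation_subschemeι
    intro s
    obtain ⟨V, hV, K, hs, h, hfg⟩ := exists_repAt f j s
    refine ⟨⟨V, hV⟩, hs, ?_⟩
    rw [glued_ideal (Cond f j) hpre hrep V hV K h]
    exact hfg hj

end Groth.Agent.Sga3C.CWMain
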