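import Mathlib.AlgebraicGeometry.Morphisms.FormallyUnramified
import Mathlib.AlgebraicGeometry.Fiber
import Mathlib.RingTheory.Kaehler.TensorProduct
import Mathlib.RingTheory.LocalRing.ResidueField.Fiber
import Mathlib.RingTheory.LocalRing.Module
import Mathlib.RingTheory.Unramified.Locus
import Mathlib.AlgebraicGeometry.Morphisms.FiniteType

/-!
# Unramifiedness can be checked on the fibres
-/

set_option autoImplicit false
universe u v
open CategoryTheory AlgebraicGeometry Limits TensorProduct

namespace Groth.Agent.Sga3C.UnramFiber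

attribute [local instance] Algebra.TensorProduct.rightAlgebra in
/-- A finite type algebra all of whose fibres are formally unramified is formally unramified. -/
theorem formallyUnramified_of_fiber (R S : Type u) [CommRing R] [CommRing S] [Algebra R S]
    [Algebra.FiniteType R S]
    (h : ∀ (p : Ideal R) [p.IsPrime], Algebra.FormallyUnramified p.ResidueField (p.Fiber S)) :
    Algebra.FormallyUnramified R S := by
  rw [Algebra.formallyUnramified_iff, ← Module.support_eq_empty_iff (R := S), Set.eq_empty_iff_forall_notMem]
  intro q hq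
  rw [Module.mem_support_iff_nontrivial_residueField_tensorProduct] at hq
  let p : Ideal R := q.asIdeal.comap (algebraMap R S)
  have hp : p.IsPrime := inferInstance
  have hs : Subsingleton (p.ResidueField ⊗[R] Ω[S⁄R]) := by
    have := h p
    have hsub : Subsingleton (Ω[p.Fiber S⁄p.ResidueField]) := by
      rwa [Algebra.formallyUnramified_iff] at this
    exact (KaehlerDifferential.tensorKaehlerEquivBase R p.ResidueField S (p.Fiber S)).toEquiv.subsingleton
  have : Subsingleton (q.asIdeal.ResidueField ⊗[S] Ω[S⁄R]) := by
    have key : ∀ ω : Ω[S⁄R], (1 : q.asIdeal.ResidueField) ⊗ₜ[S] ω = 0 := by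
      intro ω
      let f : p.ResidueField ⊗[R] Ω[S⁄R] →ₗ[R] q.asIdeal.ResidueField ⊗[R] Ω[S⁄R] :=
        LinearMap.rTensor _ (Ideal.ResidueField.mapₐ p q.asIdeal (Algebra.ofId R S) rfl).toLinearMap
      let g : q.asIdeal.ResidueField ⊗[R] Ω[S⁄R] →ₗ[R] q.asIdeal.ResidueField ⊗[S] Ω[S⁄R] :=
        TensorProduct.mapOfCompatibleSMul S R R _ _
      have h0 : (1 : p.ResidueField) ⊗ₜ[R] ω = 0 := Subsingleton.elim _ _
      have := congrArg (fun z => g (f z)) h0
      simpa [f, g] using this
    refine subsingleton_of_forall_eq 0 fun x => ?_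
    induction x using TensorProduct.induction_on with
    | zero => rfl
    | tmul a ω =>
      have : a ⊗ₜ[S] ω = a • ((1 : q.asIdeal.ResidueField) ⊗ₜ[S] ω) := by
        rw [TensorProduct.smul_tmul', smul_eq_mul, mul_one]
      rw [this, key, smul_zero]
    | add x y hx hy => rw [hx, hy, add_zero]
  exact not_nontrivial_iff_subsingleton.mpr this hq

/-- If `f : X ⟶ Y` is locally of finite type and has formally unramified fibers, then `f` is
formally unramified. -/
theorem of_formallyUnramified_fiberToSpecResidueField {X Y : Scheme.{u}} (f : X ⟶ Y) [LocallyOfFiniteType f]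
    (hf : ∀ y, FormallyUnramified (f.fiberToSpecResidueField y)) :
    FormallyUnramified f := by
  wlog h : ∃ R, Y = Spec R with this'
  · rw [IsZariskiLocalAtTarget.iff_of_openCover (P := @FormallyUnramified) Y.affineCover]
    intro i
    have hi : LocallyOfFiniteType (Y.affineCover.pullbackHom f i) :=
      MorphismProperty.pullback_snd (P := @LocallyOfFiniteType) _ _ ‹_›
    refine this' _ (fun y ↦ ?_) ⟨_, rfl⟩
    apply MorphismProperty.of_isPullback
    · exact isPullback_fiberToSpecResidueField_of_isPullback (IsPullback.of_hasPullback _ _) _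
    · exact hf _
  obtain ⟨R, rfl⟩ := h
  wlog h : ∃ S, X = Spec S generalizing f X
  · rw [IsZariskiLocalAtSource.iff_of_openCover (P := @FormallyUnramified) X.affineCover]
    intro i
    have hh (y) : FormallyUnramified (pullback.snd f ((Spec R).fromSpecResidueField y)) :=
      hf y
    refine this _ (fun y ↦ ?_) ⟨_, rfl⟩
    rw [Scheme.Hom.fiberToSpecResidueField, ← pullbackRightPullbackFstIso_inv_snd_snd]
    have h1 : IsOpenImmersion (pullback.snd (X.affineCover.f i) (pullback.fst f ((Spec R).fromSpecResidueField y))) :=
      MorphismProperty.pullback_snd (P := @IsOpenImmersion) _ _ inferInstance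
    exact MorphismProperty.comp_mem _ _ _ inferInstance (MorphismProperty.comp_mem _ _ _ inferInstance (hh y))
  obtain ⟨S, rfl⟩ := h
  obtain ⟨φ, rfl⟩ := Spec.map_surjective f
  simp only [HasRingHomProperty.Spec_iff] at *
  algebraize [φ.hom]
  refine formallyUnramified_of_fiber R S fun p hp ↦ ?_
  rw [← RingHom.formallyUnramified_algebraMap]
  rw [← CommRingCat.hom_ofHom (algebraMap p.ResidueField (p.Fiber ↑S)),
    ← HasRingHomProperty.Spec_iff (P := @FormallyUnramified),
    ← MorphismProperty.arrow_mk_iso_iff (P := @FormallyUnramified)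
    (Spec.fiberToSpecResidueFieldIso R S ⟨p, hp⟩)]
  exact hf ⟨p, hp⟩

end Groth.Agent.Sga3C.UnramFiber
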