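import Mathlib.RingTheory.HopfAlgebra.Convolution
import Mathlib.RingTheory.Coalgebra.Convolution
import Mathlib.Algebra.CharP.Lemmas
import Mathlib.Algebra.CharP.Algebra
import Mathlib.RingTheory.Ideal.Operations

set_option autoImplicit false
open WithConv Coalgebra TensorProduct

namespace Groth.Agent.Sga3C.HopfPow

variable {k A R : Type*} [Field k] [CommRing A] [Bialgebra k A] [CommRing R] [Algebra k R]

theorem convMul_mem (I J : Ideal R) (f g : WithConv (A →ₗ[k] R)) (hf : ∀ a, f a ∈ I)
    (hg : ∀ a, g a ∈ J) (a : A) : (f * g) a ∈ I * J := by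
  rw [LinearMap.convMul_apply]
  induction comul (R := k) a with
  | zero => simp
  | tmul x y =>
    simp only [TensorProduct.map_tmul, LinearMap.mul'_apply]
    exact Ideal.mul_mem_mul (hf x) (hg y)
  | add x y hx hy =>
    rw [map_add, map_add]
    exact add_mem hx hy

theorem convPow_mem (J : Ideal R) (f : WithConv (A →ₗ[k] R)) (hf : ∀ a, f a ∈ J)
    (n : ℕ) (a : A) : (f ^ n) a ∈ J ^ n := by
  induction n generalizing a with
  | zero => simp
  | succ n ih =>
    rw [pow_succ, pow_succ]
    exact convMul_mem _ _ _ _ ih hf a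

theorem pow_char_pow_eq_one (p s : ℕ) [hp : Fact p.Prime] [CharP k p] (J : Ideal R)
    (hJ : J ^ (p ^ s) = ⊥) (φ : WithConv (A →ₐ[k] R))
    (hφ : ∀ a, φ a - algebraMap k R (counit a) ∈ J) : φ ^ (p ^ s) = 1 := by
  rcases subsingleton_or_nontrivial R with hR | hR
  · apply WithConv.ofConv_injective
    ext a
    exact Subsingleton.elim _ _
  apply WithConv.ofConv_injective
  apply AlgHom.toLinearMap_injective
  apply WithConv.toConv_injective
  rw [AlgHom.toLinearMap_convPow, AlgHom.toLinearMap_convOne]
  set F : WithConv (A →ₗ[k] R) := toConv φ.ofConv.toLinearMap with hF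
  have hF1 : F = 1 + (F - 1) := by abel
  have : CharP (WithConv (A →ₗ[k] R)) p := by
    have hnt : Nontrivial (WithConv (A →ₗ[k] R)) := by
      refine ⟨1, 0, fun h => ?_⟩
      have := congrArg (fun (f : WithConv (A →ₗ[k] R)) => f (1 : A)) h
      simp at this
    exact charP_of_injective_algebraMap (algebraMap k (WithConv (A →ₗ[k] R))).injective p
  rw [hF1, add_pow_char_pow_of_commute (p := p)]
  · rw [one_pow]
    have : (F - 1) ^ p ^ s = 0 := by
      ext a
      have := convPow_mem J (F - 1) (fun a => hφ a) (p ^ s) a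
      rw [hJ] at this
      simpa using this
    rw [this, add_zero]
  · exact Commute.one_left _

end Groth.Agent.Sga3C.HopfPow
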