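import Groth.Agent.Sga3C.HopfPowIdeal
import Mathlib.RingTheory.HopfAlgebra.Convolution
import Mathlib.RingTheory.Coalgebra.Convolution
import Mathlib.RingTheory.Artinian.Module
import Mathlib.RingTheory.Ideal.Operations
import Mathlib.FieldTheory.IsAlgClosed.Basic
import Mathlib.LinearAlgebra.FiniteDimensional.Lemmas
import Mathlib.LinearAlgebra.Dimension.Constructions

set_option autoImplicit false
open WithConv Coalgebra TensorProduct

namespace Groth.Agent.Sga3C.HopfPow

section nilp
variable {K C : Type*} [Field K] [CommRing C] [Algebra K C] [Module.Finite K C]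

/-- A nilpotent ideal in a finite-dimensional algebra C has vanishing (dim C)-th power. -/
theorem ideal_pow_finrank_eq_bot (I : Ideal C) (h : IsNilpotent I) :
    I ^ (Module.finrank K C) = ⊥ := by
  obtain ⟨n, hn⟩ := h
  have key : ∀ j : ℕ, I ^ j = ⊥ ∨
      j + Module.finrank K ((I ^ j).restrictScalars K) ≤ Module.finrank K C := by
    intro j
    induction j with
    | zero =>
      right
      simpa using Submodule.finrank_le _
    | succ j ih =>
      rcases ih with ih | ih
      · left
        rw [pow_succ, ih]; simp
      · by_cases h0 : I ^ (j + 1) = ⊥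
        · left; exact h0
        · right
          have hlt : (I ^ (j + 1)).restrictScalars K < (I ^ j).restrictScalars K := by
            refine lt_of_le_of_ne ?_ ?_
            · intro x hx
              exact Ideal.pow_le_pow_right (Nat.le_succ j) hx
            · intro heq
              have heq' : I ^ (j + 1) = I ^ j := by
                apply Submodule.restrictScalars_injective K
                exact heq
              apply h0
              have : ∀ m, I ^ (j + m) = I ^ j := by
                intro m
                induction m with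
                | zero => rfl
                | succ m ih2 => rw [← add_assoc, pow_succ, ih2, ← pow_succ, heq']
              rw [heq', ← this n, pow_add, hn]
              simp
          have := Submodule.finrank_lt_finrank_of_lt hlt
          omega
  rcases key (Module.finrank K C) with h | h
  · exact h
  · have : Module.finrank K ((I ^ (Module.finrank K C)).restrictScalars K) = 0 := by omega
    rw [Submodule.finrank_eq_zero] at this
    exact (Submodule.restrictScalars_eq_bot_iff _ _ _).1 this

theorem pow_finrank_quotient_le (I : Ideal C) (N : ℕ) :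
    I ^ (Module.finrank K (C ⧸ I ^ N)) ≤ I ^ N := by
  have h1 : IsNilpotent (I.map (Ideal.Quotient.mk (I ^ N))) := by
    refine ⟨N, ?_⟩
    rw [← Ideal.map_pow, Ideal.map_quotient_self]
    rfl
  have h2 := ideal_pow_finrank_eq_bot (K := K) _ h1
  rw [← Ideal.map_pow, Ideal.map_eq_bot_iff_le_ker, Ideal.mk_ker] at h2
  exact h2

end nilp

section transl

variable {K A : Type*} [Field K] [CommRing A] [HopfAlgebra K A]

/-- Translation by a rational point g, as an algebra endomorphism of A. -/
noncomputable def transl (g : WithConv (A →ₐ[K] K)) : A →ₐ[K] A :=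
  (toConv ((Algebra.ofId K A).comp g.ofConv) * toConv (AlgHom.id K A)).ofConv

theorem transl_one : transl (1 : WithConv (A →ₐ[K] K)) = AlgHom.id K A := by
  have : (toConv ((Algebra.ofId K A).comp (1 : WithConv (A →ₐ[K] K)).ofConv)) = 1 := by
    apply WithConv.ofConv_injective
    ext a
    simp [AlgHom.convOne_def]
  rw [transl, this, one_mul]

theorem transl_comp (g h : WithConv (A →ₐ[K] K)) :
    (transl h).comp (transl g) = transl (g * h) := by
  have h1 : (Algebra.ofId K A).comp (g * h).ofConv =
    (toConv ((Algebra.ofId K A).comp g.ofConv) * toConv ((Algebra.ofId K A).comp h.ofConv)).ofConv :=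
    AlgHom.comp_convMul_distrib _ _ _
  have h2 : (transl h).comp ((Algebra.ofId K A).comp g.ofConv) = (Algebra.ofId K A).comp g.ofConv := by
    ext a
    simp [Algebra.ofId_apply]
  have h3 : (transl h).comp (transl g) =
      (toConv ((transl h).comp ((Algebra.ofId K A).comp g.ofConv)) *
        toConv ((transl h).comp (AlgHom.id K A))).ofConv := AlgHom.comp_convMul_distrib _ _ _
  rw [h3, h2]
  conv_rhs => rw [transl, h1]
  rw [toConv_ofConv, mul_assoc]
  rfl

/-- Translation by a rational point g, as an algebra automorphism of A. -/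
noncomputable def translEquiv (g : WithConv (A →ₐ[K] K)) : A ≃ₐ[K] A :=
  AlgEquiv.ofAlgHom (transl g) (transl g⁻¹)
    (by rw [transl_comp, inv_mul_cancel, transl_one])
    (by rw [transl_comp, mul_inv_cancel, transl_one])

theorem counit_comp_transl (g : WithConv (A →ₐ[K] K)) :
    (Bialgebra.counitAlgHom K A).comp (transl g) = g.ofConv := by
  rw [transl, AlgHom.comp_convMul_distrib]
  have h1 : toConv ((Bialgebra.counitAlgHom K A).comp (AlgHom.id K A)) =
      (1 : WithConv (A →ₐ[K] K)) := by
    apply WithConv.ofConv_injective
    ext a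
    simp [AlgHom.convOne_def]
  have h2 : (Bialgebra.counitAlgHom K A).comp ((Algebra.ofId K A).comp g.ofConv) = g.ofConv := by
    ext a
    simp [Algebra.ofId_apply]
  rw [ofConv_toConv, ofConv_toConv, h1, h2]
  simp

theorem finrank_quotient_ker_pow (g : WithConv (A →ₐ[K] K)) (N : ℕ) :
    Module.finrank K (A ⧸ (RingHom.ker g.ofConv) ^ N) =
      Module.finrank K (A ⧸ (augIdeal K A) ^ N) := by
  refine LinearEquiv.finrank_eq (Ideal.quotientEquivAlg _ _ (translEquiv g) ?_).toLinearEquiv
  rw [Ideal.map_pow]
  congr 1
  rw [augIdeal]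
  have h := counit_comp_transl g
  ext x
  rw [RingHom.mem_ker]
  constructor
  · intro hx
    have : x = translEquiv g ((translEquiv g).symm x) := by simp
    rw [this]
    apply Ideal.mem_map_of_mem
    rw [RingHom.mem_ker, ← h]
    change (Bialgebra.counitAlgHom K A) (translEquiv g ((translEquiv g).symm x)) = 0
    rw [← this]; exact hx
  · intro hx
    have h3 : Ideal.map (translEquiv g) (RingHom.ker g.ofConv) ≤
      RingHom.ker (Bialgebra.counitAlgHom K A) := by
      rw [Ideal.map_le_iff_le_comap]
      intro y hy
      rw [Ideal.mem_comap, RingHom.mem_ker]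
      rw [RingHom.mem_ker, ← h] at hy
      exact hy
    exact h3 hx

end transl

section decomp

variable {K A : Type*} [Field K] [IsAlgClosed K] [CommRing A] [HopfAlgebra K A] [Module.Finite K A]

omit [HopfAlgebra K A] in
variable (K A) in
theorem bijective_ker [Algebra K A] [Module.Finite K A] : Function.Bijective
    (fun g : A →ₐ[K] K => (⟨RingHom.ker g, RingHom.ker_isMaximal_of_surjective _
      (fun x => ⟨algebraMap K A x, by simp⟩)⟩ : MaximalSpectrum A)) := by
  constructor
  · intro g h hgh
    have hker : RingHom.ker g = RingHom.ker h := congrArg MaximalSpectrum.asIdeal hgh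
    ext a
    have h1 : a - algebraMap K A (g a) ∈ RingHom.ker g := by simp [RingHom.mem_ker]
    rw [hker, RingHom.mem_ker, map_sub, sub_eq_zero] at h1
    rw [h1]; simp
  · intro M
    have : M.asIdeal.IsMaximal := M.isMaximal
    let _ : Field (A ⧸ M.asIdeal) := Ideal.Quotient.field _
    have hbij : Function.Bijective (algebraMap K (A ⧸ M.asIdeal)) :=
      IsAlgClosed.algebraMap_bijective_of_isIntegral
    let e : K ≃ₐ[K] (A ⧸ M.asIdeal) := AlgEquiv.ofBijective (Algebra.ofId K _) hbij
    refine ⟨(e.symm : (A ⧸ M.asIdeal) →ₐ[K] K).comp (Ideal.Quotient.mkₐ K M.asIdeal), ?_⟩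
    ext x
    simp only [RingHom.mem_ker]
    change e.symm (Ideal.Quotient.mk M.asIdeal x) = 0 ↔ _
    rw [map_eq_zero_iff _ e.symm.injective, Ideal.Quotient.eq_zero_iff_mem]


theorem finrank_eq_card_mul (N : ℕ) (hN : nilradical A ^ N = ⊥) :
    Module.finrank K A = Nat.card (WithConv (A →ₐ[K] K)) *
      Module.finrank K (A ⧸ (augIdeal K A) ^ N) := by
  have : IsArtinianRing A := isArtinian_of_tower K inferInstance
  have : Fintype (MaximalSpectrum A) := Fintype.ofFinite _
  have e1 : Module.finrank K A = Module.finrank K (A ⧸ nilradical A ^ N) := by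
    rw [hN]
    exact (LinearEquiv.finrank_eq (AlgEquiv.quotientBot K A).toLinearEquiv).symm
  have e2 : Module.finrank K (A ⧸ nilradical A ^ N) =
      Module.finrank K (∀ I : MaximalSpectrum A, A ⧸ I.asIdeal ^ N) :=
    LinearEquiv.finrank_eq
      ((IsArtinianRing.quotNilradicalPowEquivPi A N).toLinearEquiv.restrictScalars K)
  have e3 : ∀ I : MaximalSpectrum A, Module.finrank K (A ⧸ I.asIdeal ^ N) =
      Module.finrank K (A ⧸ (augIdeal K A) ^ N) := by
    intro I
    obtain ⟨g, hg⟩ := (bijective_ker K A).2 I
    rw [← hg]
    exact finrank_quotient_ker_pow (toConv g) N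
  rw [e1, e2, Module.finrank_pi_fintype, Finset.sum_congr rfl (fun I _ => e3 I), Finset.sum_const,
    smul_eq_mul, Finset.card_univ, Fintype.card_eq_nat_card]
  congr 1
  exact (Nat.card_congr ((WithConv.equiv _).trans (Equiv.ofBijective _ (bijective_ker K A)))).symm

/-- with m the common dimension of the local rings, the m-th power of the nilradical vanishes. -/
theorem nilradical_pow_eq_bot (N : ℕ) (hN : nilradical A ^ N = ⊥) :
    nilradical A ^ (Module.finrank K (A ⧸ (augIdeal K A) ^ N)) = ⊥ := by
  have : IsArtinianRing A := isArtinian_of_tower K inferInstance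
  rw [eq_bot_iff, ← hN, IsArtinianRing.nilradical_pow_eq_iInf, IsArtinianRing.nilradical_pow_eq_iInf]
  refine iInf_mono fun I => ?_
  have e3 : Module.finrank K (A ⧸ I.asIdeal ^ N) =
      Module.finrank K (A ⧸ (augIdeal K A) ^ N) := by
    obtain ⟨g, hg⟩ := (bijective_ker K A).2 I
    rw [← hg]
    exact finrank_quotient_ker_pow (toConv g) N
  rw [← e3]
  exact pow_finrank_quotient_le _ _

end decomp

end Groth.Agent.Sga3C.HopfPow
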