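import Groth.Agent.Sga3C.HopfPowRank
import Groth.Agent.Sga3C.HopfPowConv
import Groth.Agent.Sga3C.HopfPowTransl
import Mathlib.FieldTheory.IsAlgClosed.AlgebraicClosure
import Mathlib.RingTheory.Artinian.Ring
import Mathlib.RingTheory.HopfAlgebra.TensorProduct

set_option autoImplicit false
open WithConv Coalgebra TensorProduct

namespace Groth.Agent.Sga3C.HopfPow

universe u v

section

theorem comp_convPow {k A R R' : Type*} [CommRing k] [CommRing A] [Bialgebra k A] [CommRing R]
    [Algebra k R] [CommRing R'] [Algebra k R'] (h : R →ₐ[k] R') (f : WithConv (A →ₐ[k] R)) (n : ℕ) :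
    h.comp (f ^ n).ofConv = ((toConv (h.comp f.ofConv)) ^ n).ofConv := by
  induction n with
  | zero =>
    rw [pow_zero, pow_zero]
    ext a
    simp [AlgHom.convOne_def]
  | succ n ih =>
    rw [pow_succ, pow_succ, AlgHom.comp_convMul_distrib, ih]

theorem id_pow_finrank_of_isAlgClosed (K : Type u) [Field K] [IsAlgClosed K]
    (A : Type v) [CommRing A] [HopfAlgebra K A] [Module.Finite K A] :
    (toConv (AlgHom.id K A)) ^ (Module.finrank K A) = 1 := by
  have : IsArtinianRing A := isArtinian_of_tower K inferInstance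
  obtain ⟨N₁, hN₁⟩ := IsArtinianRing.isNilpotent_nilradical (R := A)
  obtain ⟨N₂, hN₂⟩ := IsArtinian.monotone_stabilizes
    ⟨(fun n => OrderDual.toDual (augIdeal K A ^ n)), fun a b h => Ideal.pow_le_pow_right h⟩
  let N := N₁ + N₂ + 1
  have hN : nilradical A ^ N = ⊥ := by
    have : N = N₁ + (N₂ + 1) := by omega
    rw [this, pow_add, hN₁]; simp
  have hstab : augIdeal K A ^ N = augIdeal K A ^ (N + N) := by
    have h1 : augIdeal K A ^ N₂ = augIdeal K A ^ N := hN₂ N (by omega)
    have h2 : augIdeal K A ^ N₂ = augIdeal K A ^ (N + N) := hN₂ (N + N) (by omega)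
    rw [← h1, h2]
  have : (augIdeal K A ^ N).IsHopfIdeal K := isHopfIdeal_pow N (by omega) hstab
  have hnil : IsNilpotent (augIdeal K (A ⧸ augIdeal K A ^ N)) := by
    refine ⟨N, ?_⟩
    rw [Ideal.zero_eq_bot, eq_bot_iff]
    refine (Ideal.pow_right_mono (augIdeal_quot_le _) N).trans ?_
    rw [← Ideal.map_pow, Ideal.map_quotient_self]
  have hrank := finrank_eq_card_mul (K := K) (A := A) N hN
  have hrad := nilradical_pow_eq_bot (K := K) (A := A) N hN
  have hfin : Finite (WithConv (A →ₐ[K] K)) := by
    have : Finite (A →ₐ[K] K) := Finite.of_injective _ (bijective_ker K A).1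
    exact Finite.of_equiv _ (WithConv.equiv _).symm
  set r := Nat.card (WithConv (A →ₐ[K] K)) with hr
  set m := Module.finrank K (A ⧸ augIdeal K A ^ N) with hm
  rw [hrank, pow_mul]
  set φ := (toConv (AlgHom.id K A)) ^ r with hφ
  have hφ1 : ∀ a, φ a - algebraMap K A (counit a) ∈ nilradical A := by
    intro a
    rw [IsArtinianRing.nilradical_eq_iInf, Ideal.mem_iInf]
    intro I
    obtain ⟨g, hg⟩ := (bijective_ker K A).2 I
    rw [← hg]
    change _ ∈ RingHom.ker g
    rw [RingHom.mem_ker, map_sub]
    have h1 : g.comp φ.ofConv = ((toConv g) ^ r).ofConv := by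
      rw [hφ, comp_convPow]
      rfl
    rw [hr, pow_card_eq_one'] at h1
    have h2 := AlgHom.congr_fun h1 a
    have h3 : g (φ a) = counit (R := K) a := h2
    rw [h3]
    simp
  rcases CharP.exists' K with hchar | ⟨p, hp, hchar⟩
  · have h1 : augIdeal K (A ⧸ augIdeal K A ^ N) = ⊥ := augIdeal_eq_bot_of_charZero _ hnil
    have h2 : m = 1 := finrank_eq_one_of_augIdeal h1
    rw [h2, pow_one] at hrad
    rw [h2, pow_one]
    apply WithConv.ofConv_injective
    ext a
    have h3 := hφ1 a
    rw [hrad] at h3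
    have h4 : φ a - algebraMap K A (counit a) = 0 := by simpa using h3
    rw [sub_eq_zero] at h4
    exact h4
  · obtain ⟨s, hs⟩ := exists_finrank_eq_pow p m (A ⧸ augIdeal K A ^ N) hnil rfl
    rw [hs]
    rw [hs] at hrad
    exact pow_char_pow_eq_one p s (nilradical A) hrad φ hφ1

end

section basechange

variable {k : Type u} [Field k] {K : Type v} [Field K] [Algebra k K]
variable {A : Type v} [CommRing A] [HopfAlgebra k A]
variable {R : Type v} [CommRing R] [Algebra k R] [Algebra K R] [IsScalarTower k K R]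

/-- Restriction of points of the base change. -/
noncomputable def resPt (f : WithConv (K ⊗[k] A →ₐ[K] R)) : WithConv (A →ₐ[k] R) :=
  toConv ((f.ofConv.restrictScalars k).comp Algebra.TensorProduct.includeRight)

theorem resPt_mul (f g : WithConv (K ⊗[k] A →ₐ[K] R)) : resPt (f * g) = resPt f * resPt g := by
  apply WithConv.ofConv_injective
  ext a
  change (f * g) (1 ⊗ₜ a) = (resPt f * resPt g) a
  rw [AlgHom.convMul_apply, AlgHom.convMul_apply, TensorProduct.comul_tmul, ← (ℛ k a).eq]
  simp [tmul_sum, Algebra.TensorProduct.one_def, resPt]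

theorem resPt_one : resPt (1 : WithConv (K ⊗[k] A →ₐ[K] R)) = 1 := by
  apply WithConv.ofConv_injective
  ext a
  change (1 : WithConv (K ⊗[k] A →ₐ[K] R)) (1 ⊗ₜ a) = (1 : WithConv (A →ₐ[k] R)) a
  rw [AlgHom.convOne_apply, AlgHom.convOne_apply, TensorProduct.counit_tmul]
  simp [Algebra.smul_def, ← IsScalarTower.algebraMap_apply]

theorem resPt_pow (f : WithConv (K ⊗[k] A →ₐ[K] R)) (n : ℕ) : resPt (f ^ n) = resPt f ^ n := by
  induction n with
  | zero => rw [pow_zero, pow_zero, resPt_one]
  | succ n ih => rw [pow_succ, pow_succ, resPt_mul, ih]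

end basechange

theorem id_pow_finrank (k : Type u) [Field k]
    (A : Type u) [CommRing A] [HopfAlgebra k A] [Module.Finite k A] :
    (toConv (AlgHom.id k A)) ^ (Module.finrank k A) = 1 := by
  let K := AlgebraicClosure k
  have h1 := id_pow_finrank_of_isAlgClosed K (K ⊗[k] A)
  rw [Module.finrank_baseChange] at h1
  have h2 := congrArg resPt h1
  rw [resPt_pow, resPt_one] at h2
  have h3 := comp_convPow (Algebra.TensorProduct.includeRight (R := k) (A := K) (B := A))
    (toConv (AlgHom.id k A)) (Module.finrank k A)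
  apply WithConv.ofConv_injective
  have hinj : Function.Injective (Algebra.TensorProduct.includeRight (R := k) (A := K) (B := A)) :=
    Algebra.TensorProduct.includeRight_injective (algebraMap k K).injective
  ext a
  apply hinj
  have h4 := AlgHom.congr_fun h3 a
  have h5 : resPt (toConv (AlgHom.id K (K ⊗[k] A))) = toConv
    ((Algebra.TensorProduct.includeRight (R := k) (A := K) (B := A)).comp (AlgHom.id k A)) := rfl
  rw [h5] at h2
  have h6 := h4.trans (congrArg (fun f : WithConv (A →ₐ[k] K ⊗[k] A) => f a) h2)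
  refine Eq.trans h6 ?_
  change (1 : WithConv (A →ₐ[k] K ⊗[k] A)) a = _
  rw [AlgHom.convOne_apply]
  change _ = (Algebra.TensorProduct.includeRight (R := k) (A := K) (B := A))
    ((1 : WithConv (A →ₐ[k] A)) a)
  rw [AlgHom.convOne_apply, AlgHom.commutes]

end Groth.Agent.Sga3C.HopfPow
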