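import Mathlib.RingTheory.Flat.EquationalCriterion
import Mathlib.RingTheory.Flat.FaithfullyFlat.Algebra
import Mathlib.RingTheory.Flat.Localization
import Mathlib.RingTheory.HopkinsLevitzki
import Mathlib.RingTheory.TensorProduct.IsBaseChangePi
import Mathlib.RingTheory.KrullDimension.Zero
import Mathlib.RingTheory.Localization.Submodule
import Mathlib.RingTheory.Localization.BaseChange
import Mathlib.LinearAlgebra.Matrix.NonsingularInverse

/-!
# Descent of flatness along an injective map, over a local ring with nilpotent maximal ideal

`R → B` injective, `R` local with nilpotent maximal ideal, `B ⊗[R] B` flat over `B` (left factor).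
Then `B` is free over `R`.
-/

set_option autoImplicit false

open TensorProduct IsLocalRing

namespace Groth.Agent.Sga3C.FlatImageRing

/-- Nakayama for a nilpotent ideal and an arbitrary module. -/
theorem eq_top_of_sup_smul_top {R M : Type*} [CommRing R] [AddCommGroup M] [Module R M] (I : Ideal R)
    (hI : IsNilpotent I) (N : Submodule R M) (h : N ⊔ I • (⊤ : Submodule R M) = ⊤) : N = ⊤ := by
  obtain ⟨n, hn⟩ := hI
  have key : ∀ k : ℕ, N ⊔ I ^ k • (⊤ : Submodule R M) = ⊤ := by
    intro k
    induction k with
    | zero => simp
    | succ k ih =>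
      apply top_le_iff.mp
      calc (⊤ : Submodule R M) = N ⊔ I • (⊤ : Submodule R M) := h.symm
        _ = N ⊔ I • (N ⊔ I ^ k • (⊤ : Submodule R M)) := by rw [ih]
        _ = N ⊔ (I • N ⊔ I • I ^ k • (⊤ : Submodule R M)) := by rw [Submodule.smul_sup]
        _ ≤ N ⊔ I ^ (k + 1) • (⊤ : Submodule R M) := by
            rw [← Submodule.mul_smul, ← pow_succ', ← sup_assoc]
            exact sup_le_sup_right (sup_le le_rfl Submodule.smul_le_right) _
  have := key n
  rw [hn] at this
  simpa using this

/-- The key descent lemma: `R` local with nilpotent maximal ideal, `R → B` injective and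
`B ⊗[R] B` flat over the left factor `B`. Then `B` is free over `R`. -/
theorem free_of_injective_of_flat_tensor {R B : Type*} [CommRing R] [IsLocalRing R] [CommRing B]
    [Algebra R B] (hm : IsNilpotent (maximalIdeal R))
    (hinj : Function.Injective (algebraMap R B)) [hflat : Module.Flat B (B ⊗[R] B)] :
    Module.Free R B := by
  classical
  let J : Ideal B := (maximalIdeal R).map (algebraMap R B)
  have hJ : IsNilpotent J := by
    obtain ⟨n, hn⟩ := hm
    exact ⟨n, by rw [← Ideal.map_pow, hn]; simp⟩
  -- the quotient, a vector space over the residue field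
  let Q := B ⧸ J
  let φ : ResidueField R →+* Q := Ideal.quotientMap J (algebraMap R B) Ideal.le_comap_map
  let _ : Algebra (ResidueField R) Q := φ.toAlgebra
  have hφ : ∀ r : R, φ (residue R r) = Ideal.Quotient.mk J (algebraMap R B r) := fun r => by
    exact Ideal.quotientMap_mk
  let b := Module.Free.chooseBasis (ResidueField R) Q
  choose v hv using fun i => Ideal.Quotient.mk_surjective (I := J) (b i)
  have hsmul : ∀ (r : R) (x : B), Ideal.Quotient.mk J (r • x) = residue R r • Ideal.Quotient.mk J x := by
    intro r x
    rw [Algebra.smul_def, map_mul, Algebra.smul_def]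
    congr 1
  -- the coordinates
  let l : Module.Free.ChooseBasisIndex (ResidueField R) Q → (B →ₗ[R] Q) := fun i =>
    { toFun := fun x => φ (b.coord i (Ideal.Quotient.mk J x))
      map_add' := fun x y => by simp only [map_add]
      map_smul' := fun r x => by
        rw [hsmul, map_smul, smul_eq_mul, map_mul, hφ, RingHom.id_apply, Algebra.smul_def]
        rfl }
  have hl : ∀ i j, l i (v j) = if j = i then 1 else 0 := by
    intro i j
    show φ (b.coord i (Ideal.Quotient.mk J (v j))) = _
    rw [hv, Module.Basis.coord_apply, Module.Basis.repr_self, Finsupp.single_apply]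
    split_ifs <;> simp
  -- linear independence
  have hli : LinearIndependent R v := by
    rw [linearIndependent_iff']
    intro s g hg
    let f : s → B := fun i => algebraMap R B (g i)
    let x : s → B ⊗[R] B := fun i => 1 ⊗ₜ v i
    have hfx : ∑ i, f i • x i = 0 := by
      have h1 : ∀ i : s, f i • x i = (1 : B) ⊗ₜ[R] (g i • v i) := by
        intro i
        simp only [f, x, TensorProduct.smul_tmul', smul_eq_mul, mul_one, TensorProduct.tmul_smul,
          Algebra.algebraMap_eq_smul_one]
      rw [Finset.sum_congr rfl (fun i _ => h1 i), ← TensorProduct.tmul_sum,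
        Finset.sum_coe_sort s (fun i => g i • v i), hg, TensorProduct.tmul_zero]
    obtain ⟨n, a, y, hay, hfa⟩ := Module.Flat.isTrivialRelation_of_sum_smul_eq_zero hfx
    -- lifts of coordinates of `y`
    choose c hc using fun (i : s) j => Ideal.Quotient.mk_surjective (I := J) ((l i).liftBaseChange B (y j))
    let D : Matrix s s B := fun i' i => ∑ j, a i' j * c i j
    have hD : ∀ i' i, Ideal.Quotient.mk J (D i' i) = if i' = i then 1 else 0 := by
      intro i' i
      have h2 : (l i).liftBaseChange B (x i') = if i' = i then 1 else 0 := by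
        simp only [x, LinearMap.liftBaseChange_tmul, one_smul, hl, Subtype.ext_iff]
      rw [hay i', map_sum] at h2
      rw [← h2, map_sum]
      refine Finset.sum_congr rfl fun j _ => ?_
      rw [map_mul, hc, map_smul, Algebra.smul_def]
      rfl
    have hDunit : IsUnit D.det := by
      have h3 : Ideal.Quotient.mk J D.det = 1 := by
        rw [RingHom.map_det]
        have : (Ideal.Quotient.mk J).mapMatrix D = 1 := by
          ext i' i
          rw [RingHom.mapMatrix_apply, Matrix.map_apply, hD, Matrix.one_apply]
        rw [this, Matrix.det_one]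
      have h4 : D.det - 1 ∈ J := by
        rw [← Ideal.Quotient.mk_eq_mk_iff_sub_mem, h3, map_one]
      have h5 : IsNilpotent (D.det - 1) := by
        obtain ⟨n, hn⟩ := hJ
        exact ⟨n, by simpa [hn] using Ideal.pow_mem_pow h4 n⟩
      have := h5.isUnit_add_one
      simpa using this
    have hfD : Matrix.vecMul f D = 0 := by
      ext i
      simp only [Matrix.vecMul, dotProduct, D, Finset.mul_sum, Pi.zero_apply]
      rw [Finset.sum_comm]
      refine Finset.sum_eq_zero fun j _ => ?_
      have : ∑ i', f i' * (a i' j * c i j) = (∑ i', f i' * a i' j) * c i j := by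
        rw [Finset.sum_mul]
        exact Finset.sum_congr rfl fun _ _ => by ring
      rw [this, hfa j, zero_mul]
    have hf0 : f = 0 := by
      have h6 : Matrix.vecMul (Matrix.vecMul f D) D⁻¹ = f := by
        rw [Matrix.vecMul_vecMul, Matrix.mul_nonsing_inv _ hDunit, Matrix.vecMul_one]
      rw [← h6, hfD, Matrix.zero_vecMul]
    intro i hi
    have := congrFun hf0 ⟨i, hi⟩
    exact hinj (by simpa [f] using this)
  have hspan : ⊤ ≤ Submodule.span R (Set.range v) := by
    rw [top_le_iff]
    apply eq_top_of_sup_smul_top (maximalIdeal R) hm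
    rw [eq_top_iff]
    rintro x -
    -- write the class of x in the basis
    have hx := b.linearCombination_repr (Ideal.Quotient.mk J x)
    choose r hr using fun i => residue_surjective (R := R) (b.repr (Ideal.Quotient.mk J x) i)
    let z : B := ∑ i ∈ (b.repr (Ideal.Quotient.mk J x)).support, r i • v i
    have hz : Ideal.Quotient.mk J z = Ideal.Quotient.mk J x := by
      rw [← hx, Finsupp.linearCombination_apply, Finsupp.sum, map_sum]
      refine Finset.sum_congr rfl fun i _ => ?_
      rw [hsmul, hv, hr]
    have hzx : x - z ∈ J := by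
      rw [← Ideal.Quotient.mk_eq_mk_iff_sub_mem, hz]
    have hJle : (J : Set B) ⊆ (maximalIdeal R • (⊤ : Submodule R B) : Submodule R B) := by
      intro w hw
      have : J.restrictScalars R = maximalIdeal R • (⊤ : Submodule R B) := by
        rw [Ideal.smul_top_eq_map]
      rw [← this]; exact hw
    rw [← sub_add_cancel x z]
    refine Submodule.add_mem _ (Submodule.mem_sup_right (hJle hzx)) (Submodule.mem_sup_left ?_)
    exact Submodule.sum_mem _ fun i _ => Submodule.smul_mem _ _ (Submodule.subset_span ⟨i, rfl⟩)
  exact Module.Free.of_basis (Module.Basis.mk hli hspan)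

attribute [local instance] Algebra.TensorProduct.rightAlgebra in
/-- If `R → B` is injective and `B ⊗[R] B` is flat over (the left factor) `B`, then `B` is flat
over `R` at all primes of `B` lying over a minimal prime of the noetherian ring `R`. -/
theorem flat_localization_of_minimalPrimes {R B : Type*} [CommRing R] [IsNoetherianRing R] [CommRing B]
    [Algebra R B] (hinj : Function.Injective (algebraMap R B)) [hflat : Module.Flat B (B ⊗[R] B)]
    (P : Ideal B) [P.IsPrime] (hP : P.comap (algebraMap R B) ∈ minimalPrimes R)
    (BP : Type*) [CommRing BP] [Algebra B BP] [Algebra R BP] [IsScalarTower R B BP]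
    [IsLocalization.AtPrime BP P] :
    Module.Flat R BP := by
  let q : Ideal R := P.comap (algebraMap R B)
  have hq : q ∈ minimalPrimes R := hP
  have : q.IsPrime := Ideal.comap_isPrime _ _
  let R' := Localization.AtPrime q
  let B' := R' ⊗[R] B
  have : Module.Flat R R' := IsLocalization.flat R' q.primeCompl
  -- `R'` is artinian local
  have hdim : Ring.KrullDimLE 0 R' := Ring.KrullDimLE.of_isLocalization q hq R'
  have hnoeth : IsNoetherianRing R' := IsLocalization.isNoetherianRing q.primeCompl R' inferInstance
  have hart : IsArtinianRing R' := isArtinianRing_iff_krullDimLE_zero.mpr hdim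
  have hnil : IsNilpotent (maximalIdeal R') :=
    (isArtinianRing_iff_isNilpotent_maximalIdeal R').mp hart
  have hinj' : Function.Injective (algebraMap R' B') :=
    Algebra.TensorProduct.includeLeft_injective (S := R') hinj
  have e1 : B' ⊗[R'] (R' ⊗[R] B) ≃ₗ[B'] B' ⊗[R] B :=
    TensorProduct.AlgebraTensorModule.cancelBaseChange R R' B' B' B
  have e2 : B' ⊗[B] (B ⊗[R] B) ≃ₗ[B'] B' ⊗[R] B :=
    TensorProduct.AlgebraTensorModule.cancelBaseChange R B B' B' B
  have h1 : Module.Flat B' (B' ⊗[B] (B ⊗[R] B)) := inferInstance
  have h2 : Module.Flat B' (B' ⊗[R'] B') := Module.Flat.of_linearEquiv (e1.trans e2.symm)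
  have h3 : Module.Free R' B' := free_of_injective_of_flat_tensor hnil hinj'
  -- `B_P` is a `B'`-algebra
  have hunit : ∀ y : q.primeCompl, IsUnit (algebraMap R BP y) := by
    rintro ⟨y, hy⟩
    rw [IsScalarTower.algebraMap_apply R B BP]
    exact IsLocalization.map_units BP (⟨algebraMap R B y, hy⟩ : P.primeCompl)
  let f : R' →ₐ[R] BP := IsLocalization.liftAlgHom (M := q.primeCompl) (f := Algebra.ofId R BP) hunit
  let g : B' →ₐ[R] BP := Algebra.TensorProduct.lift f (IsScalarTower.toAlgHom R B BP)
    (fun _ _ => Commute.all _ _)
  let _ : Algebra B' BP := g.toRingHom.toAlgebra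
  have : IsScalarTower B B' BP := IsScalarTower.of_algebraMap_eq fun b => by
    have : g (1 ⊗ₜ b) = algebraMap B BP b :=
      DFunLike.congr_fun (Algebra.TensorProduct.lift_comp_includeRight f
        (IsScalarTower.toAlgHom R B BP) (fun _ _ => Commute.all _ _)) b
    exact this.symm
  have : IsScalarTower R B' BP := IsScalarTower.of_algebraMap_eq fun b => by
    exact (g.commutes b).symm
  have hloc : IsLocalization (Algebra.algebraMapSubmonoid B q.primeCompl) B' := inferInstance
  have h4 : Module.Flat B' BP :=
    (Module.flat_iff_of_isLocalization B' (Algebra.algebraMapSubmonoid B q.primeCompl) BP).mpr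
      (IsLocalization.flat BP P.primeCompl)
  have h5 : Module.Flat R B' := Module.Flat.trans R R' B'
  exact Module.Flat.trans R B' BP

end Groth.Agent.Sga3C.FlatImageRing
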