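import Mathlib.AlgebraicGeometry.Morphisms.SchemeTheoreticallyDominant
import Mathlib.AlgebraicGeometry.Morphisms.Descent
import Mathlib.AlgebraicGeometry.Noetherian
import Groth.Agent.Sga3C.FlatPt
import Groth.Agent.Sga3C.FlatImageRing

/-!
# Flatness over the maximal points of the scheme theoretic image

Let `p : X ⟶ Y` be quasi-compact and scheme theoretically dominant, `Y` locally noetherian and
`X ×_Y X ⟶ X` flat. Then `p` is flat at all points lying over maximal points of `Y`.
-/

set_option autoImplicit false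
universe u
open CategoryTheory AlgebraicGeometry Limits TensorProduct

namespace Groth.Agent.Sga3C.FlatGeneric

open Groth.Agent.Sga3C.FlatPt

variable {X Y Z T P : Scheme.{u}}

theorem stalkMap_injective_of_flat (f : X ⟶ Y) [Flat f] (x : X) :
    Function.Injective (f.stalkMap x) := by
  algebraize [(f.stalkMap x).hom]
  have : Module.FaithfullyFlat (Y.presheaf.stalk (f x)) (X.presheaf.stalk x) :=
    @Module.FaithfullyFlat.of_flat_of_isLocalHom _ _ _ _ _ _ _
      (Flat.stalkMap f x) (f.toLRSHom.prop x)
  exact ‹RingHom.FaithfullyFlat _›.injective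

theorem app_injective_of_flat_surjective (f : X ⟶ Y) [Flat f] [Surjective f] (U : Y.Opens) :
    Function.Injective (f.app U) := by
  rw [injective_iff_map_eq_zero]
  intro s hs
  refine Y.IsSheaf.section_ext fun y hy ↦ ?_
  obtain ⟨x, rfl⟩ := f.surjective y
  have h1 : f.stalkMap x (Y.presheaf.germ U (f x) hy s) = 0 := by
    have := Scheme.Hom.germ_stalkMap_apply f U x hy s
    rw [this, hs, map_zero]
  have h2 : Y.presheaf.germ U (f x) hy s = 0 :=
    stalkMap_injective_of_flat f x (by rw [h1, map_zero])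
  have h3 : Y.presheaf.germ U (f x) hy s = Y.presheaf.germ U (f x) hy 0 := by rw [h2, map_zero]
  obtain ⟨W, hW, iU, iV, e⟩ := Y.presheaf.germ_eq (f x) hy hy _ _ h3
  exact ⟨W, leOfHom iU, hW, e⟩

/-- flat and surjective morphisms are scheme theoretically dominant -/
theorem isSchemeTheoreticallyDominant_of_flat_surjective (f : X ⟶ Y) [Flat f] [Surjective f] :
    IsSchemeTheoreticallyDominant f := by
  rw [isSchemeTheoreticallyDominant_iff, eq_bot_iff]
  intro U
  refine (f.ideal_ker_le U).trans ?_
  rw [(RingHom.injective_iff_ker_eq_bot _).mp (app_injective_of_flat_surjective f U.1)]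
  exact bot_le

/-- if the base change of `p` along itself is flat, so is its base change along any `t ≫ p`. -/
theorem flat_of_isPullback_comp {p : X ⟶ Y} (hp : Flat (pullback.snd p p)) {t : T ⟶ X}
    {a : P ⟶ X} {b : P ⟶ T} (h : IsPullback a b p (t ≫ p)) : Flat b := by
  have h2 : IsPullback (pullback.lift a (b ≫ t) (by rw [h.w, Category.assoc])) b
      (pullback.snd p p) t := by
    refine IsPullback.of_right (h₁₂ := pullback.fst p p) (v₁₃ := p) (h₂₂ := p) ?_ ?_
      (IsPullback.of_hasPullback p p)
    · rw [pullback.lift_fst]; exact h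
    · exact pullback.lift_snd _ _ _
  exact MorphismProperty.of_isPullback (P := @Flat) h2 hp

/-- The affine case. -/
theorem isFlatAt_SpecMap {R B : CommRingCat.{u}} (φ : R ⟶ B) [IsNoetherianRing R]
    (hinj : Function.Injective φ) (hflat : Flat (pullback.snd (Spec.map φ) (Spec.map φ)))
    (x : Spec B) (hx : (x.asIdeal.comap φ.hom) ∈ minimalPrimes R) : IsFlatAt (Spec.map φ) x := by
  algebraize [φ.hom]
  have h1 : IsPushout φ φ (CommRingCat.ofHom (Algebra.TensorProduct.includeLeftRingHom : B →+* B ⊗[R] B))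
      (CommRingCat.ofHom (Algebra.TensorProduct.includeRight : B →ₐ[R] B ⊗[R] B).toRingHom) :=
    CommRingCat.isPushout_tensorProduct R B B
  have h2 := isPullback_SpecMap_of_isPushout _ _ _ _ h1
  have h3 := flat_of_isPullback_comp hflat (t := 𝟙 _) (by simpa using h2.flip)
  rw [Flat.SpecMap_iff] at h3
  have h4 : Module.Flat B (B ⊗[R] B) := RingHom.flat_algebraMap_iff.mp h3
  have h5 : (Spec B).fromSpecStalk x ≫ Spec.map φ = Spec.map (φ ≫ StructureSheaf.toStalk B x) := by
    rw [Spec.fromSpecStalk_eq']; exact (Spec.map_comp _ _).symm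
  unfold IsFlatAt
  rw [h5]
  refine Flat.SpecMap_iff.mpr ?_
  let _ : Algebra B ((Spec B).presheaf.stalk x) := (StructureSheaf.toStalk B x).hom.toAlgebra
  have : IsLocalization.AtPrime ((Spec B).presheaf.stalk x) x.asIdeal :=
    StructureSheaf.IsLocalization.to_stalk B x
  let _ : Algebra R ((Spec B).presheaf.stalk x) :=
    (φ ≫ StructureSheaf.toStalk B x).hom.toAlgebra
  have : IsScalarTower R B ((Spec B).presheaf.stalk x) := IsScalarTower.of_algebraMap_eq' rfl
  exact Groth.Agent.Sga3C.FlatImageRing.flat_localization_of_minimalPrimes (R := R) (B := B) hinj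
    x.asIdeal hx ((Spec B).presheaf.stalk x)

/-- if `p` becomes flat after base change along itself, then it is flat at all points lying over
maximal points of the target. -/
theorem isFlatAt_of_maximal (p : X ⟶ Y) [QuasiCompact p] [IsSchemeTheoreticallyDominant p]
    [IsLocallyNoetherian Y] (hp : Flat (pullback.snd p p)) (x : X)
    (hx : ∀ y : Y, y ⤳ p x → y = p x) : IsFlatAt p x := by
  obtain ⟨_, ⟨U, hU, rfl⟩, hxU, -⟩ :=
    Y.isBasis_affineOpens.exists_subset_of_mem_open (Set.mem_univ (p x)) isOpen_univ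
  have hnoeth : IsNoetherianRing Γ(Y, U) := IsLocallyNoetherian.component_noetherian ⟨U, hU⟩
  let j : Spec Γ(Y, U) ⟶ Y := hU.fromSpec
  have : IsOpenImmersion j := hU.isOpenImmersion_fromSpec
  have hj : Set.range j = U := hU.range_fromSpec
  let X' := pullback p j
  let p' : X' ⟶ Spec Γ(Y, U) := pullback.snd p j
  have : CompactSpace X' := QuasiCompact.compactSpace_of_compactSpace p'
  obtain ⟨W, π, hπ, hπf, hW⟩ := Scheme.exists_hom_isAffine_of_isZariskiLocalAtSource @Flat X'
  -- reduce to `W = Spec B`
  let B := Γ(W, ⊤)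
  let q : Spec B ⟶ X' := W.isoSpec.inv ≫ π
  have hq1 : Flat q := inferInstance
  have hq2 : Surjective q := inferInstance
  let f : Spec B ⟶ Spec Γ(Y, U) := q ≫ p'
  obtain ⟨φ, hφ⟩ : ∃ φ : Γ(Y, U) ⟶ B, Spec.map φ = f := ⟨Spec.preimage f, Spec.map_preimage f⟩
  -- injectivity
  have hinj : Function.Injective φ := by
    have h1 : IsSchemeTheoreticallyDominant q := isSchemeTheoreticallyDominant_of_flat_surjective q
    have h2 : IsSchemeTheoreticallyDominant (Spec.map φ) := by rw [hφ]; infer_instance
    have h3 : Function.Injective (Spec.map φ).appTop := Scheme.Hom.app_injective (Spec.map φ) ⊤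
    have h4 : φ = (Scheme.ΓSpecIso _).inv ≫ (Spec.map φ).appTop ≫ (Scheme.ΓSpecIso _).hom := by
      rw [Scheme.ΓSpecIso_naturality, Iso.inv_hom_id_assoc]
    rw [h4]
    exact ((Scheme.ΓSpecIso _).commRingCatIsoToRingEquiv.injective.comp h3).comp
      (Scheme.ΓSpecIso _).symm.commRingCatIsoToRingEquiv.injective
  -- flatness
  have hflat : Flat (pullback.snd (Spec.map φ) (Spec.map φ)) := by
    rw [hφ]
    let t : Spec B ⟶ X := q ≫ pullback.fst p j
    have ht : t ≫ p = f ≫ j := by simp only [t, f, p', Category.assoc, pullback.condition]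
    have e1 : IsPullback (pullback.fst p' f ≫ pullback.fst p j) (pullback.snd p' f) p (f ≫ j) :=
      (IsPullback.of_hasPullback p' f).paste_horiz (IsPullback.of_hasPullback p j)
    rw [← ht] at e1
    have e2 : Flat (pullback.snd p' f) := flat_of_isPullback_comp hp e1
    have e3 : IsPullback (pullback.fst q (pullback.fst p' f))
        (pullback.snd q (pullback.fst p' f) ≫ pullback.snd p' f) (q ≫ p') f :=
      (IsPullback.of_hasPullback q (pullback.fst p' f)).paste_vert (IsPullback.of_hasPullback p' f)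
    have e4 : Flat (pullback.snd q (pullback.fst p' f) ≫ pullback.snd p' f) := inferInstance
    rw [← e3.isoPullback_inv_snd]
    infer_instance
  -- a point above `x`
  obtain ⟨s, hs⟩ : ∃ s, j s = p x := by
    have : p x ∈ Set.range j := by rw [hj]; exact hxU
    exact this
  obtain ⟨x', hx'1, hx'2⟩ := Scheme.Pullback.exists_preimage_pullback x s hs.symm
  obtain ⟨w, hw⟩ := hq2.surj x'
  have hmin : (w.asIdeal.comap φ.hom) ∈ minimalPrimes Γ(Y, U) := by
    have h1 : (Spec.map φ) w = s := by
      rw [hφ, Scheme.Hom.comp_apply, hw, hx'2]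
    have h2 : w.asIdeal.comap φ.hom = s.asIdeal := by rw [← h1]; rfl
    rw [h2, minimalPrimes_eq_minimals]
    refine ⟨s.isPrime, fun I hI hle => ?_⟩
    let z : Spec Γ(Y, U) := ⟨I, hI⟩
    have hz : z ⤳ s := (PrimeSpectrum.le_iff_specializes z s).mp hle
    have h3 : j z = p x := hx _ (by rw [← hs]; exact hz.map j.continuous)
    have h4 : z = s := j.isOpenEmbedding.injective (by rw [h3, hs])
    rw [← h4]
  have h1 : IsFlatAt (Spec.map φ) w := isFlatAt_SpecMap φ hinj hflat w hmin
  have h2 : IsFlatAt (Spec.map φ ≫ j) w := h1.comp (isFlatAt_of_flat j _)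
  have h3 : Spec.map φ ≫ j = (q ≫ pullback.fst p j) ≫ p := by
    rw [hφ]
    simp only [f, p', Category.assoc, pullback.condition]
  rw [h3] at h2
  have h4 := IsFlatAt.of_comp (isFlatAt_of_flat (q ≫ pullback.fst p j) w) h2
  have h5 : (q ≫ pullback.fst p j) w = x := by
    rw [Scheme.Hom.comp_apply, hw, hx'1]
  rwa [h5] at h4

end Groth.Agent.Sga3C.FlatGeneric
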