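import Groth.Agent.Sga3B.AdRep

/-!
# The representations of a group scheme on the infinitesimal neighbourhoods of the unit

Generalisation of `Groth.Agent.Sga3B.AdRep` to neighbourhoods `Spec (B / I ^ (n + 1))` of arbitrary order.
-/

set_option autoImplicit false

universe u

open CategoryTheory MonoidalCategory CartesianMonoidalCategory AlgebraicGeometry Limits MonObj

namespace Groth.Agent.Sga3C.AdRepN

open Sga3B.GLn Sga3B.FreeBC Sga3B.LinRep Sga3B.AdRep

section Nil

variable {R E : Type u} [CommRing R] [CommRing E] [Algebra R E]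

/-- The kernel of `Γ(T × D) → Γ(T)` is nilpotent. -/
lemma ker_sec_pow_eq_bot (eD : 𝟙_ (Over (Spec (CommRingCat.of R))) ⟶ DE R E) (n : ℕ)
    (hn : RingHom.ker (fn eD) ^ n = ⊥)
    (T : Over (Spec (CommRingCat.of R))) [CompactSpace T.left] [QuasiSeparatedSpace T.left]
    {m : Type u} [Fintype m] (b : Module.Basis m R E) :
    RingHom.ker (sec eD T).left.appTop.hom ^ n = ⊥ := by
  have h : RingHom.ker (sec eD T).left.appTop.hom ≤
      (RingHom.ker (fn eD)).map (fn (snd T (DE R E))) := by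
    intro x hx
    obtain ⟨c, hc⟩ := exists_expansion (E := E) T b x
    have h1 := sub_eq eD T b c x hc
    rw [RingHom.mem_ker] at hx
    rw [hx, map_zero, zero_add] at h1
    rw [h1]
    refine Ideal.sum_mem _ fun j _ => Ideal.mul_mem_left _ _ (Ideal.mem_map_of_mem _ ?_)
    exact fn_sub_aug eD (b j)
  refine le_bot_iff.mp ((Ideal.pow_right_mono h n).trans ?_)
  rw [← Ideal.map_pow, hn, Ideal.map_bot]

end Nil

section Nbhd

variable {R B : Type u} [CommRing R] [CommRing B] [Algebra R B]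

variable {G : Over (Spec (CommRingCat.of R))} [GrpObj G]

/-- Factorization of infinitesimal points through the infinitesimal neighbourhood of order `n - 1`. -/
lemma factor_pow (w : DE R B ⟶ G) [IsOpenImmersion w.left]
    (eW : 𝟙_ (Over (Spec (CommRingCat.of R))) ⟶ DE R B) (heW : eW ≫ w = η) (n : ℕ)
    {X X₀ : Over (Spec (CommRingCat.of R))} (i : X₀ ⟶ X) [Surjective i.left]
    (hJ : RingHom.ker i.left.appTop.hom ^ n = ⊥)
    (x : X ⟶ G) (hx : i ≫ x = 1) :
    ∃ y : X ⟶ DE R (B ⧸ (augIdeal eW) ^ n), y ≫ quotMap _ ≫ w = x := by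
  have hx' : i ≫ x = (toUnit X₀ ≫ eW) ≫ w := by
    rw [hx, Category.assoc, heW]
    rfl
  -- lift to W
  have hrange : Set.range x.left ⊆ Set.range w.left := by
    rintro _ ⟨p, rfl⟩
    obtain ⟨q, rfl⟩ := i.left.surjective p
    refine ⟨(toUnit X₀ ≫ eW).left q, ?_⟩
    have := congr(($hx').left q)
    simpa using this.symm
  let xW : X ⟶ DE R B := Over.homMk (IsOpenImmersion.lift w.left x.left hrange) (by
    rw [← Over.w w, IsOpenImmersion.lift_fac_assoc, Over.w])
  have hxW : xW ≫ w = x := by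
    ext1
    simp [xW, IsOpenImmersion.lift_fac]
  have : Mono w := by
    have : Mono w.left := inferInstance
    exact Over.mono_of_mono_left w
  have hi : i ≫ xW = toUnit X₀ ≫ eW := by
    rw [← cancel_mono w, Category.assoc, hxW, hx']
  -- the ring map kills the power of the augmentation ideal
  have h0 : (augIdeal eW).map (fn xW) ≤ RingHom.ker i.left.appTop.hom := by
    rw [Ideal.map_le_iff_le_comap]
    intro z hz
    rw [Ideal.mem_comap, RingHom.mem_ker]
    change i.left.appTop (fn xW z) = 0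
    rw [← fn_comp, hi, fn_comp, show fn eW z = 0 from hz, map_zero]
  have h1 : ∀ z ∈ (augIdeal eW) ^ n, fn xW z = 0 := by
    intro z hz
    have h2 : fn xW z ∈ ((augIdeal eW) ^ n).map (fn xW) := Ideal.mem_map_of_mem _ hz
    rw [Ideal.map_pow] at h2
    have h3 := Ideal.pow_right_mono h0 n h2
    rw [hJ] at h3
    exact h3
  obtain ⟨y, hy⟩ := factor_quot xW h1
  exact ⟨y, by rw [← Category.assoc, hy, hxW]⟩

/-- The unit section of the neighbourhood of order `n`. -/
lemma exists_eD_pow (eW : 𝟙_ (Over (Spec (CommRingCat.of R))) ⟶ DE R B) (n : ℕ) :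
    ∃ eD : 𝟙_ (Over (Spec (CommRingCat.of R))) ⟶ DE R (B ⧸ (augIdeal eW) ^ (n + 1)),
      eD ≫ quotMap _ = eW ∧ Surjective eD.left ∧ RingHom.ker (fn eD) ^ (n + 1) = ⊥ := by
  obtain ⟨eD, heD⟩ := factor_quot (J := (augIdeal eW) ^ (n + 1)) eW (by
    intro x hx
    exact Ideal.pow_le_self n.succ_ne_zero hx)
  have hfn : ∀ x, fn eD (Ideal.Quotient.mk _ x) = fn eW x := by
    intro x
    rw [← fn_quotMap, heD]
  have hker : RingHom.ker (fn eD) ^ (n + 1) = ⊥ := by
    have h1 : RingHom.ker (fn eD) ≤ (augIdeal eW).map (Ideal.Quotient.mk ((augIdeal eW) ^ (n + 1))) := by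
      intro x hx
      obtain ⟨x, rfl⟩ := Ideal.Quotient.mk_surjective x
      rw [RingHom.mem_ker, hfn] at hx
      exact Ideal.mem_map_of_mem _ hx
    refine le_bot_iff.mp ((Ideal.pow_right_mono h1 (n + 1)).trans ?_)
    rw [← Ideal.map_pow, Ideal.map_quotient_self]
  refine ⟨eD, heD, ?_, hker⟩
  let φ : CommRingCat.of (B ⧸ (augIdeal eW) ^ (n + 1)) ⟶ CommRingCat.of R := Spec.preimage eD.left
  have hφ : Spec.map φ = eD.left := Spec.map_preimage _
  have h1 : ∀ x, fn eD x = (Scheme.ΓSpecIso (CommRingCat.of R)).inv (φ x) := by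
    intro x
    have : (Scheme.ΓSpecIso (CommRingCat.of (B ⧸ (augIdeal eW) ^ (n + 1)))).inv ≫ eD.left.appTop =
        φ ≫ (Scheme.ΓSpecIso (CommRingCat.of R)).inv := by
      rw [← hφ]
      exact (Scheme.ΓSpecIso_inv_naturality _).symm
    exact congr($(this).hom x)
  have hinj : Function.Injective (Scheme.ΓSpecIso (CommRingCat.of R)).inv.hom :=
    (Scheme.ΓSpecIso (CommRingCat.of R)).symm.commRingCatIsoToRingEquiv.injective
  have hsurj : Function.Surjective φ.hom := by
    intro r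
    refine ⟨algebraMap R _ r, hinj ?_⟩
    have h2 := h1 (algebraMap R _ r)
    rw [fn_algebraMap] at h2
    refine h2.symm.trans ?_
    simp
  rw [← hφ]
  refine ⟨fun p => ?_⟩
  have hr := range_comap_of_surjective _ φ.hom hsurj
  have hk : PrimeSpectrum.zeroLocus
      ((RingHom.ker φ.hom : Ideal (B ⧸ (augIdeal eW) ^ (n + 1))) : Set (B ⧸ (augIdeal eW) ^ (n + 1))) =
        Set.univ := by
    rw [PrimeSpectrum.zeroLocus_eq_univ_iff]
    intro x hx
    have hx0 : x ∈ RingHom.ker (fn eD) := by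
      rw [RingHom.mem_ker, h1]
      have : φ x = 0 := hx
      rw [this, map_zero]
    refine ⟨n + 1, ?_⟩
    have := Ideal.pow_mem_pow hx0 (n + 1)
    rw [hker] at this
    exact this
  rw [hk] at hr
  have : p ∈ Set.range (PrimeSpectrum.comap φ.hom) := by
    rw [hr]; trivial
  exact this

/-- **The adjoint representation on the infinitesimal neighbourhood of the unit of order `n`.** -/
theorem exists_adRep_pow [CompactSpace G.left] [QuasiSeparatedSpace G.left]
    (w : DE R B ⟶ G) [IsOpenImmersion w.left]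
    (eW : 𝟙_ (Over (Spec (CommRingCat.of R))) ⟶ DE R B) (heW : eW ≫ w = η) (n : ℕ)
    {m : Type u} [Fintype m] [DecidableEq m] (b : Module.Basis m R (B ⧸ (augIdeal eW) ^ (n + 1))) :
    ∃ f : G ⟶ GLS m (Spec (CommRingCat.of R)), IsMonHom f ∧
      ∀ {T : Over (Spec (CommRingCat.of R))} (g : T ⟶ G),
        g ≫ f = 1 ↔ ∀ (X : Over (Spec (CommRingCat.of R))) (p : X ⟶ T)
          (d : X ⟶ DE R (B ⧸ (augIdeal eW) ^ (n + 1))),
          (p ≫ g) * (d ≫ quotMap _ ≫ w) * (p ≫ g)⁻¹ = d ≫ quotMap _ ≫ w := by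
  obtain ⟨eD, heD, hsurj, hsq⟩ := exists_eD_pow eW n
  set j : DE R (B ⧸ (augIdeal eW) ^ (n + 1)) ⟶ G := quotMap _ ≫ w with hj
  have hmono : Mono j := by
    have : Mono j.left := by
      rw [hj, Over.comp_left]
      infer_instance
    exact Over.mono_of_mono_left j
  have hej : eD ≫ j = η := by rw [hj, ← Category.assoc, heD, heW]
  -- the conjugation morphism
  let c : G ⊗ DE R (B ⧸ (augIdeal eW) ^ (n + 1)) ⟶ G := fst _ _ * (snd _ _ ≫ j) * (fst _ _)⁻¹
  have hc : ∀ {T : Over (Spec (CommRingCat.of R))} (g : T ⟶ G)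
      (d : T ⟶ DE R (B ⧸ (augIdeal eW) ^ (n + 1))), lift g d ≫ c = g * (d ≫ j) * g⁻¹ := by
    intro T g d
    simp only [c]
    rw [MonObj.comp_mul, MonObj.comp_mul, GrpObj.comp_inv, lift_fst, ← Category.assoc, lift_snd]
  have := surjective_sec eD G
  obtain ⟨a, ha⟩ := factor_pow w eW heW (n + 1) (sec eD G)
    (ker_sec_pow_eq_bot eD (n + 1) hsq G b) c (by
      rw [sec, hc, Category.assoc, hej]
      have : toUnit G ≫ η = (1 : G ⟶ G) := rfl
      rw [this, _root_.mul_one, mul_inv_cancel])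
  rw [← hj] at ha
  have hact : ∀ {T : Over (Spec (CommRingCat.of R))} (g : T ⟶ G)
      (d : T ⟶ DE R (B ⧸ (augIdeal eW) ^ (n + 1))), (lift g d ≫ a) ≫ j = g * (d ≫ j) * g⁻¹ := by
    intro T g d
    rw [Category.assoc, ha, hc]
  obtain ⟨f, hf, hker⟩ := exists_rep (G := G) a (by
    intro T d
    rw [← cancel_mono j, hact]
    simp) (by
    intro T g h d
    rw [← cancel_mono j, hact, hact, hact]
    group) b
  refine ⟨f, hf, fun {T} g => ?_⟩
  rw [hker]
  constructor
  · intro h X p d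
    have h2 := congr(lift p d ≫ $h)
    rw [lift_snd, ← Category.assoc] at h2
    have h3 : lift p d ≫ g ▷ DE R (B ⧸ (augIdeal eW) ^ (n + 1)) = lift (p ≫ g) d := by
      apply CartesianMonoidalCategory.hom_ext
      · simp
      · simp
    rw [h3] at h2
    rw [← hact, h2]
  · intro h
    have h3 : g ▷ DE R (B ⧸ (augIdeal eW) ^ (n + 1)) = lift (fst _ _ ≫ g) (snd _ _) := by
      apply CartesianMonoidalCategory.hom_ext
      · simp
      · simp
    rw [h3, ← cancel_mono j, hact]
    exact h _ (fst _ _) (snd _ _)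

end Nbhd

end Groth.Agent.Sga3C.AdRepN
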