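import Mathlib.RingTheory.Smooth.Flat
import Mathlib.RingTheory.MvPolynomial.Ideal
import Mathlib.RingTheory.Filtration

/-!
Coordinates on the infinitesimal neighbourhoods of a section of a formally smooth algebra of
finite type: `E / I ^ n` is a finite projective `A`-module (in dual basis form).
-/

namespace Groth.Agent.Sga3C.CWCoords

open TensorProduct MvPolynomial

universe u v

theorem mem_idealOfVars_iff {σ R : Type*} [CommRing R] (p : MvPolynomial σ R) :
    p ∈ idealOfVars σ R ↔ constantCoeff p = 0 := by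
  rw [← pow_one (idealOfVars σ R), mem_pow_idealOfVars_iff', constantCoeff_eq]
  constructor
  · intro h
    exact h 0 (by simp)
  · intro h x hx
    have hx0 : x = 0 := by
      have h0 : x.degree = 0 := by omega
      exact (Finsupp.degree_eq_zero_iff x).1 h0
    rw [hx0]
    exact h

variable {A : Type u} {E : Type v} [CommRing A] [CommRing E] [Algebra A E]

/-- Dual basis modulo `I ^ n`, where `I` is the kernel of a section of a formally smooth algebra
of finite type. -/
theorem exists_coords [Algebra.FormallySmooth A E] [Algebra.FiniteType A E] (ε : E →ₐ[A] A)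
    (n : ℕ) :
    ∃ (ι : Type) (_ : Fintype ι) (lam : ι → E →ₗ[A] A) (e : ι → E),
      (∀ i, ∀ x ∈ (RingHom.ker ε) ^ n, lam i x = 0) ∧
      ∀ f : E, f - ∑ i, lam i f • e i ∈ (RingHom.ker ε) ^ n := by
  classical
  rcases Nat.eq_zero_or_pos n with rfl | hn
  · exact ⟨Empty, inferInstance, fun i => i.elim, fun i => i.elim, fun i => i.elim,
      fun f => by simp⟩
  obtain ⟨N, φ, hφ⟩ :=
    (Algebra.FiniteType.iff_quotient_mvPolynomial'' (R := A) (S := E)).mp inferInstance
  let ψ : MvPolynomial (Fin N) A →ₐ[A] E :=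
    aeval (fun i => φ (X i) - algebraMap A E (ε (φ (X i))))
  have hψ : Function.Surjective ψ := by
    intro x
    obtain ⟨p, rfl⟩ := hφ x
    refine ⟨aeval (fun i => X i + C (ε (φ (X i)))) p, ?_⟩
    rw [← AlgHom.comp_apply]
    congr 1
    ext i
    simp [ψ]
  set J := idealOfVars (Fin N) A with hJ
  have hεψ : ∀ p, ε (ψ p) = constantCoeff p := by
    intro p
    have : (ε.comp ψ) = (aeval (fun _ => (0 : A)) : MvPolynomial (Fin N) A →ₐ[A] A) := by
      ext i
      simp [ψ]
    have h2 := congrArg (fun g => g p) this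
    simp only [AlgHom.comp_apply] at h2
    rw [h2]
    exact MvPolynomial.aeval_zero' (R := A) (S₁ := A) p
  have hmap : ∀ p, ψ p ∈ RingHom.ker ε ↔ p ∈ J := by
    intro p
    rw [RingHom.mem_ker, hJ, mem_idealOfVars_iff, ← hεψ]
  have hmapJ : J.map ψ = RingHom.ker ε := by
    apply le_antisymm
    · rw [Ideal.map_le_iff_le_comap]
      intro p hp
      exact (hmap p).2 hp
    · intro x hx
      obtain ⟨p, rfl⟩ := hψ x
      exact Ideal.mem_map_of_mem _ ((hmap p).1 hx)
  have hmapJn : (J ^ n).map ψ = RingHom.ker ε ^ n := by rw [Ideal.map_pow, hmapJ]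
  let T := MvPolynomial (Fin N) A ⧸ J ^ n
  let I := RingHom.ker ε
  let π : T →ₐ[A] E ⧸ I ^ n := Ideal.Quotient.liftₐ (J ^ n) ((Ideal.Quotient.mkₐ A (I ^ n)).comp ψ)
    (by
      intro a ha
      rw [AlgHom.comp_apply, Ideal.Quotient.mkₐ_eq_mk, Ideal.Quotient.eq_zero_iff_mem, ← hmapJn]
      exact Ideal.mem_map_of_mem _ ha)
  have hπmk : ∀ p, π (Ideal.Quotient.mk (J ^ n) p) = Ideal.Quotient.mk (I ^ n) (ψ p) := by
    intro p
    rfl
  have hπ : Function.Surjective π := by
    intro y
    obtain ⟨x, rfl⟩ := Ideal.Quotient.mk_surjective y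
    obtain ⟨p, rfl⟩ := hψ x
    exact ⟨Ideal.Quotient.mk _ p, hπmk p⟩
  have hker : RingHom.ker (π : T →+* E ⧸ I ^ n) ≤ J.map (Ideal.Quotient.mk (J ^ n)) := by
    intro t ht
    obtain ⟨p, rfl⟩ := Ideal.Quotient.mk_surjective t
    rw [RingHom.mem_ker] at ht
    have ht' : Ideal.Quotient.mk (I ^ n) (ψ p) = 0 := ht
    rw [Ideal.Quotient.eq_zero_iff_mem] at ht'
    exact Ideal.mem_map_of_mem _ ((hmap p).1 (Ideal.pow_le_self hn.ne' ht'))
  have hnil0 : (J.map (Ideal.Quotient.mk (J ^ n))) ^ n = ⊥ := by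
    rw [← Ideal.map_pow, Ideal.map_quotient_self]
  have hnil : IsNilpotent (RingHom.ker (π : T →+* E ⧸ I ^ n)) := by
    refine ⟨n, ?_⟩
    rw [Ideal.zero_eq_bot, eq_bot_iff, ← hnil0]
    exact Ideal.pow_right_mono hker n
  let σ : E →ₐ[A] T :=
    Algebra.FormallySmooth.liftOfSurjective (Ideal.Quotient.mkₐ A (I ^ n)) π hπ hnil
  have hσ : ∀ x, π (σ x) = Ideal.Quotient.mk (I ^ n) x := by
    intro x
    exact Algebra.FormallySmooth.liftOfSurjective_apply _ π hπ hnil x
  have hσI : ∀ x ∈ I, σ x ∈ J.map (Ideal.Quotient.mk (J ^ n)) := by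
    intro x hx
    obtain ⟨p, rfl⟩ := hψ x
    have hp : p ∈ J := (hmap p).1 hx
    have h1 : σ (ψ p) - Ideal.Quotient.mk (J ^ n) p ∈ RingHom.ker (π : T →+* E ⧸ I ^ n) := by
      rw [RingHom.mem_ker]
      change π (σ (ψ p) - Ideal.Quotient.mk (J ^ n) p) = 0
      rw [map_sub, hσ, hπmk, sub_self]
    have h2 := (J.map (Ideal.Quotient.mk (J ^ n))).add_mem (hker h1)
      (Ideal.mem_map_of_mem (Ideal.Quotient.mk (J ^ n)) hp)
    simpa using h2
  have hσIn : ∀ x ∈ I ^ n, σ x = 0 := by
    intro x hx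
    have h1 : (I ^ n).map (σ : E →+* T) ≤ (J.map (Ideal.Quotient.mk (J ^ n))) ^ n := by
      rw [Ideal.map_pow]
      apply Ideal.pow_right_mono
      rw [Ideal.map_le_iff_le_comap]
      exact hσI
    have h2 := h1 (Ideal.mem_map_of_mem (σ : E →+* T) hx)
    rw [hnil0] at h2
    exact h2
  have hcoeff : ∀ x : Fin N →₀ ℕ, x.degree < n →
      ((J ^ n).restrictScalars A) ≤ LinearMap.ker (lcoeff A x) := by
    intro x hx p hp
    exact (mem_pow_idealOfVars_iff' n p).1 hp x hx
  let ι := {x : Fin N →₀ ℕ // x.degree < n}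
  have hfin : Finite ι := by
    have : ({x : Fin N →₀ ℕ | x.degree < n}).Finite := by
      have hb : {x : Fin N →₀ ℕ | x.degree < n} ⊆
          Set.range (fun g : Fin N → Fin n => Finsupp.equivFunOnFinite.symm (fun i => (g i : ℕ))) := by
        intro x hx
        have hx' : ∀ i, x i < n := by
          intro i
          refine lt_of_le_of_lt ?_ hx
          exact Finsupp.le_degree i x
        refine ⟨fun i => ⟨x i, hx' i⟩, ?_⟩
        ext i
        simp
      exact (Set.finite_range _).subset hb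
    exact this.to_subtype
  let c : ι → T →ₗ[A] A := fun x =>
    (Submodule.liftQ ((J ^ n).restrictScalars A) (lcoeff A x.1) (hcoeff x.1 x.2)) ∘ₗ
      (Submodule.Quotient.restrictScalarsEquiv A (J ^ n)).symm.toLinearMap
  have hc : ∀ (x : ι) p, c x (Ideal.Quotient.mk (J ^ n) p) = p.coeff x.1 := by
    intro x p
    rfl
  let m := Nat.card ι
  let eqv : Fin m ≃ ι := (Finite.equivFin ι).symm
  refine ⟨Fin m, inferInstance, fun i => (c (eqv i)) ∘ₗ σ.toLinearMap,
    fun i => ψ (monomial (eqv i).1 1), ?_, ?_⟩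
  · intro i x hx
    change c (eqv i) (σ x) = 0
    rw [hσIn x hx, map_zero]
  · intro f
    obtain ⟨p, hp⟩ := Ideal.Quotient.mk_surjective (σ f)
    have h1 : f - ψ p ∈ I ^ n := by
      rw [← Ideal.Quotient.eq_zero_iff_mem, map_sub, ← hσ, ← hπmk, hp, sub_self]
    have h2 : p - ∑ i : Fin m, (p.coeff (eqv i).1) • monomial (eqv i).1 (1 : A) ∈ J ^ n := by
      rw [hJ, mem_pow_idealOfVars_iff']
      intro x hx
      rw [coeff_sub, coeff_sum]
      have h3 : ∀ i : Fin m, coeff x (coeff (eqv i).1 p • (monomial (eqv i).1) (1 : A)) =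
          if (eqv i).1 = x then coeff x p else 0 := by
        intro i
        rw [coeff_smul, coeff_monomial]
        split_ifs with h
        · rw [h]; simp
        · simp
      rw [Finset.sum_congr rfl (fun i _ => h3 i)]
      have h4 : ∀ i : Fin m, (if (eqv i).1 = x then coeff x p else 0) =
          if i = eqv.symm ⟨x, hx⟩ then coeff x p else 0 := by
        intro i
        congr 1
        rw [eq_iff_iff]
        constructor
        · intro h
          rw [Equiv.eq_symm_apply]
          exact Subtype.ext h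
        · intro h
          rw [h]
          simp
      rw [Finset.sum_congr rfl (fun i _ => h4 i)]
      simp
    have h5 := Ideal.mem_map_of_mem ψ h2
    rw [hmapJn] at h5
    have h6 := (I ^ n).add_mem h1 h5
    convert! h6 using 1
    rw [map_sub, map_sum]
    have h7 : ∀ i : Fin m, ((c (eqv i)) ∘ₗ σ.toLinearMap) f • ψ (monomial (eqv i).1 1) =
        ψ (coeff (eqv i).1 p • monomial (eqv i).1 (1 : A)) := by
      intro i
      rw [map_smul]
      congr 1
      change c (eqv i) (σ f) = _
      rw [← hp, hc]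
    rw [Finset.sum_congr rfl (fun i _ => h7 i)]
    ring

end Groth.Agent.Sga3C.CWCoords
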