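import Groth.Agent.Sga3C.CWCoords

/-!
The ideal of vanishing of a function along all infinitesimal neighbourhoods of a section.
-/

namespace Groth.Agent.Sga3C.CWVanish

open TensorProduct Groth.Agent.Sga3C.CWCoords

universe u v w

variable {A : Type u} {E : Type v} [CommRing A] [CommRing E] [Algebra A E]

/-- The ideal of `A` generated by the values at `f` of all `A`-linear forms on `E` vanishing on
some power of the kernel of the section. -/
def vanIdeal (ε : E →ₐ[A] A) (f : E) : Ideal A :=
  Ideal.span {a | ∃ (n : ℕ) (lam : E →ₗ[A] A), (∀ x ∈ (RingHom.ker ε) ^ n, lam x = 0) ∧ a = lam f}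

theorem lam_tensor_eq_zero {A' : Type w} [CommRing A'] [Algebra A A'] (lam : E →ₗ[A] A)
    (K : Ideal E) (hK : ∀ x ∈ K, lam x = 0) (y : A' ⊗[A] E)
    (hy : y ∈ K.map (Algebra.TensorProduct.includeRight : E →ₐ[A] A' ⊗[A] E)) :
    LinearMap.lTensor A' lam y = 0 := by
  have key : ∀ y ∈ K.map (Algebra.TensorProduct.includeRight : E →ₐ[A] A' ⊗[A] E),
      ∀ t : A' ⊗[A] E, LinearMap.lTensor A' lam (t * y) = 0 := by
    intro y hy
    refine Submodule.span_induction (p := fun y _ => ∀ t : A' ⊗[A] E,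
      LinearMap.lTensor A' lam (t * y) = 0) ?_ ?_ ?_ ?_ hy
    · rintro _ ⟨x, hx, rfl⟩ t
      induction t with
      | zero => simp
      | add a b ha hb => rw [add_mul, map_add, ha, hb, add_zero]
      | tmul a e =>
        change LinearMap.lTensor A' lam ((a ⊗ₜ e) * (1 ⊗ₜ x)) = 0
        rw [Algebra.TensorProduct.tmul_mul_tmul, LinearMap.lTensor_tmul, hK _ (K.mul_mem_left e hx),
          TensorProduct.tmul_zero]
    · intro t
      simp
    · intro a b _ _ ha hb t
      rw [mul_add, map_add, ha, hb, add_zero]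
    · intro s a _ ha t
      rw [smul_eq_mul, ← mul_assoc]
      exact ha _
  simpa using key y hy 1

theorem map_vanIdeal_eq_bot_iff [Algebra.FormallySmooth A E] [Algebra.FiniteType A E]
    (ε : E →ₐ[A] A) (f : E) {A' : Type w} [CommRing A'] [Algebra A A'] :
    (vanIdeal ε f).map (algebraMap A A') = ⊥ ↔
      ∀ n, ((1 : A') ⊗ₜ[A] f) ∈
        ((RingHom.ker ε).map (Algebra.TensorProduct.includeRight : E →ₐ[A] A' ⊗[A] E)) ^ n := by
  constructor
  · intro h n
    obtain ⟨ι, _, lam, e, h1, h2⟩ := exists_coords ε n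
    have h3 : ∀ i, algebraMap A A' (lam i f) = 0 := by
      intro i
      have : algebraMap A A' (lam i f) ∈ (vanIdeal ε f).map (algebraMap A A') :=
        Ideal.mem_map_of_mem _ (Ideal.subset_span ⟨n, lam i, h1 i, rfl⟩)
      rw [h] at this
      exact this
    have h4 : ((1 : A') ⊗ₜ[A] f) = (1 : A') ⊗ₜ[A] (f - ∑ i, lam i f • e i) := by
      rw [TensorProduct.tmul_sub, TensorProduct.tmul_sum]
      have : ∀ i, (1 : A') ⊗ₜ[A] (lam i f • e i) = 0 := by
        intro i
        rw [← TensorProduct.smul_tmul, Algebra.smul_def, h3, zero_mul, TensorProduct.zero_tmul]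
      simp [this]
    rw [h4, ← Ideal.map_pow]
    exact Ideal.mem_map_of_mem (Algebra.TensorProduct.includeRight : E →ₐ[A] A' ⊗[A] E) (h2 f)
  · intro h
    rw [vanIdeal, Ideal.map_span, Ideal.span_eq_bot]
    rintro _ ⟨a, ⟨n, lam, h1, rfl⟩, rfl⟩
    have h2 := h n
    rw [← Ideal.map_pow] at h2
    have h3 := lam_tensor_eq_zero lam _ h1 _ h2
    rw [LinearMap.lTensor_tmul] at h3
    have h4 := congrArg (TensorProduct.rid A A') h3
    rw [TensorProduct.rid_tmul, map_zero, Algebra.smul_def, mul_one] at h4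
    exact h4

/-- Noetherian case: a function in all the powers of the kernel of a section vanishes near the
section. -/
theorem exists_mul_eq_zero_of_forall_mem_pow [IsNoetherianRing E] (I : Ideal E) (f : E)
    (hf : ∀ n, f ∈ I ^ n) : ∃ a ∈ I, (1 - a) * f = 0 := by
  have h := (Ideal.mem_iInf_smul_pow_eq_bot_iff I f).1 (by
    rw [Submodule.mem_iInf]
    intro n
    simpa using hf n)
  obtain ⟨r, hr⟩ := h
  refine ⟨r, r.2, ?_⟩
  rw [sub_mul, one_mul, sub_eq_zero]
  exact hr.symm

end Groth.Agent.Sga3C.CWVanish
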