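import Groth.Agent.Sga3C.CWFibreCrit
import Groth.Agent.Sga3C.CWVanish
import Mathlib.RingTheory.LocalRing.ResidueField.Ideal

/-!
Density: for a smooth algebra `B` over `R`, an element `g` which is a nonzerodivisor on all the
fibres is a nonzerodivisor.
-/

namespace Groth.Agent.Sga3C.CWDensity

open TensorProduct Groth.Agent.Sga3C.CWVanish Groth.Agent.Sga3C.CWFibreCrit

universe u v w

theorem exists_notMem_mul_eq_zero {R B : Type u} [CommRing R] [IsNoetherianRing R] [CommRing B]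
    [Algebra R B] [Module.Flat R B] [Algebra.FiniteType R B] (p : Ideal R) [hp : p.IsPrime]
    (f g : B) (hgf : g * f = 0)
    (hg : ∀ x : p.ResidueField ⊗[R] B, (1 ⊗ₜ g) * x = 0 → x = 0)
    (q : Ideal B) [hq : q.IsPrime] (hqp : q.comap (algebraMap R B) = p) :
    ∃ s ∉ q, s * f = 0 := by
  let Rp := Localization.AtPrime p
  let m : Ideal Rp := IsLocalRing.maximalIdeal Rp
  let Bp := Rp ⊗[R] B
  have hnR : IsNoetherianRing Rp := IsLocalization.isNoetherianRing p.primeCompl _ inferInstance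
  have hnB : IsNoetherianRing Bp := Algebra.FiniteType.isNoetherianRing Rp _
  let G : Bp →ₗ[Rp] Bp := LinearMap.mulLeft Rp (1 ⊗ₜ g)
  have hG : Function.Injective (LinearMap.lTensor (Rp ⧸ m) G) := by
    rw [injective_iff_map_eq_zero]
    intro x hx
    let e : (Rp ⧸ m) ⊗[Rp] (Rp ⊗[R] B) ≃ₗ[Rp ⧸ m] (Rp ⧸ m) ⊗[R] B :=
      TensorProduct.AlgebraTensorModule.cancelBaseChange R Rp (Rp ⧸ m) (Rp ⧸ m) B
    have h1 : ∀ x, e (LinearMap.lTensor (Rp ⧸ m) G x) = (1 ⊗ₜ g) * e x := by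
      intro x
      induction x with
      | zero => simp
      | add a b ha hb => rw [map_add, map_add, ha, hb, map_add, mul_add]
      | tmul a b =>
        induction b using TensorProduct.induction_on with
        | zero => simp
        | add b c hb hc =>
          rw [TensorProduct.tmul_add, map_add, map_add, hb, hc, map_add, mul_add]
        | tmul b c =>
          rw [LinearMap.lTensor_tmul]
          change e (a ⊗ₜ ((1 ⊗ₜ g) * (b ⊗ₜ c))) = _
          rw [Algebra.TensorProduct.tmul_mul_tmul, one_mul,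
            TensorProduct.AlgebraTensorModule.cancelBaseChange_tmul,
            TensorProduct.AlgebraTensorModule.cancelBaseChange_tmul,
            Algebra.TensorProduct.tmul_mul_tmul, one_mul]
    have h2 := h1 x
    rw [hx, map_zero] at h2
    have h3 := hg (e x) h2.symm
    exact e.injective (by rw [map_zero]; exact h3)
  have hc : G (1 ⊗ₜ f) = 0 := by
    change ((1 : Rp) ⊗ₜ[R] g) * (1 ⊗ₜ f) = 0
    rw [Algebra.TensorProduct.tmul_mul_tmul, hgf, TensorProduct.tmul_zero]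
  have h1 : ∀ n, ((1 : Rp) ⊗ₜ[R] f) ∈ (m.map (algebraMap Rp Bp)) ^ n := by
    intro n
    have h2 := mem_pow_smul_of_map_eq_zero m G hG _ hc n
    rw [Ideal.smul_top_eq_map, Submodule.restrictScalars_mem, Ideal.map_pow] at h2
    exact h2
  obtain ⟨a, ha, ha2⟩ := exists_mul_eq_zero_of_forall_mem_pow _ _ h1
  -- map to the localization at q
  let Bq := Localization.AtPrime q
  have hunit : ∀ y : p.primeCompl, IsUnit ((Algebra.ofId R Bq) (y : R)) := by
    intro y
    have : (Algebra.ofId R Bq) (y : R) = algebraMap B Bq (algebraMap R B y) := by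
      rw [← IsScalarTower.algebraMap_apply]
      rfl
    rw [this]
    have hy : algebraMap R B y ∉ q := by
      intro h
      exact y.2 (hqp.le h)
    exact IsLocalization.map_units (M := q.primeCompl) Bq ⟨_, hy⟩
  let θ₁ : Rp →ₐ[R] Bq := IsLocalization.liftAlgHom (M := p.primeCompl) (f := Algebra.ofId R Bq)
    hunit
  let θ : Bp →ₐ[R] Bq := Algebra.TensorProduct.lift θ₁ (IsScalarTower.toAlgHom R B Bq)
    (fun _ _ => Commute.all _ _)
  have hθf : θ (1 ⊗ₜ f) = algebraMap B Bq f := by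
    change θ₁ 1 * algebraMap B Bq f = _
    rw [map_one, one_mul]
  have hm : m.map (algebraMap Rp Bp) = p.map (algebraMap R Bp) := by
    change (IsLocalRing.maximalIdeal (Localization.AtPrime p)).map _ = _
    rw [← Localization.AtPrime.map_eq_maximalIdeal, Ideal.map_map, ← IsScalarTower.algebraMap_eq]
  have hθa : θ a ∈ IsLocalRing.maximalIdeal Bq := by
    have h3 : (m.map (algebraMap Rp Bp)).map θ ≤ IsLocalRing.maximalIdeal Bq := by
      rw [hm, Ideal.map_le_iff_le_comap, Ideal.map_le_iff_le_comap]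
      intro x hx
      rw [Ideal.mem_comap, Ideal.mem_comap, AlgHom.commutes,
        IsScalarTower.algebraMap_apply R B Bq, ← Localization.AtPrime.map_eq_maximalIdeal]
      apply Ideal.mem_map_of_mem
      rw [← hqp] at hx
      exact hx
    exact h3 (Ideal.mem_map_of_mem θ ha)
  have hu : IsUnit (1 - θ a) := by
    by_contra hnu
    have h4 : (1 - θ a) ∈ IsLocalRing.maximalIdeal Bq := (IsLocalRing.mem_maximalIdeal _).2 hnu
    have h5 := Ideal.add_mem _ h4 hθa
    rw [sub_add_cancel] at h5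
    exact (Ideal.ne_top_iff_one _).1 (IsLocalRing.maximalIdeal.isMaximal Bq).ne_top h5
  have h6 := congrArg θ ha2
  rw [map_mul, map_sub, map_one, map_zero, hθf] at h6
  have h7 : algebraMap B Bq f = 0 := (hu.mul_right_eq_zero).1 h6
  obtain ⟨s, hs⟩ := (IsLocalization.map_eq_zero_iff q.primeCompl Bq f).1 h7
  exact ⟨s, s.2, hs⟩

/-- Noetherian models, version without a section. -/
theorem exists_noetherian_model' (A E : Type u) [CommRing A] [CommRing E] [Algebra A E]
    [Algebra.Smooth A E] {κ : Type} [Finite κ] (f : κ → E) :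
    ∃ (A₀ : Type u) (_ : CommRing A₀) (_ : Algebra A₀ A) (E₀ : Type u) (_ : CommRing E₀)
      (_ : Algebra A₀ E₀) (f₀ : κ → E₀) (e : A ⊗[A₀] E₀ ≃ₐ[A] E),
      IsNoetherianRing A₀ ∧ Algebra.Smooth A₀ E₀ ∧ Function.Injective (algebraMap A₀ A) ∧
      (∀ k, e (1 ⊗ₜ f₀ k) = f k) := by
  classical
  obtain ⟨A₀, B₀, _, _, hA₀, hsm, ⟨e₀⟩⟩ := Algebra.Smooth.exists_subalgebra_fg ℤ A E
  have hft : Algebra.FiniteType ℤ A₀ := (Subalgebra.fg_iff_finiteType A₀).mp hA₀
  have hnoeth : IsNoetherianRing A₀ := Algebra.FiniteType.isNoetherianRing ℤ _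
  have hcoef : ∀ k, ∃ (t : Finset (A × B₀)), e₀ (f k) = ∑ p ∈ t, p.1 ⊗ₜ[A₀] p.2 := by
    intro k
    obtain ⟨t, ht⟩ := TensorProduct.exists_finset (e₀ (f k))
    exact ⟨t, ht⟩
  choose t ht using hcoef
  let S : Set A := ⋃ k, (Prod.fst '' (t k : Set (A × B₀)))
  have hSfin : S.Finite := by
    refine Set.finite_iUnion fun k => ?_
    exact (t k).finite_toSet.image _
  let A₁ : Subalgebra A₀ A := Algebra.adjoin A₀ S
  have hA₁ft : Algebra.FiniteType A₀ A₁ := by
    rw [← Subalgebra.fg_iff_finiteType]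
    exact Subalgebra.fg_def.mpr ⟨S, hSfin, rfl⟩
  have hA₁noeth : IsNoetherianRing A₁ := Algebra.FiniteType.isNoetherianRing A₀ _
  have htA₁ : ∀ k, ∀ p ∈ t k, p.1 ∈ A₁ := by
    intro k p hp
    apply Algebra.subset_adjoin
    rw [Set.mem_iUnion]
    exact ⟨k, p, hp, rfl⟩
  let f₁ : κ → A₁ ⊗[A₀] B₀ := fun k => ∑ p : {p // p ∈ t k}, (⟨p.1.1, htA₁ k p.1 p.2⟩ : A₁) ⊗ₜ p.1.2
  let c : A ⊗[A₁] (A₁ ⊗[A₀] B₀) ≃ₐ[A] A ⊗[A₀] B₀ :=
    Algebra.TensorProduct.cancelBaseChange A₀ A₁ A A B₀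
  refine ⟨A₁, inferInstance, inferInstance, A₁ ⊗[A₀] B₀, inferInstance, inferInstance, f₁,
    c.trans e₀.symm, hA₁noeth, inferInstance, Subtype.val_injective, ?_⟩
  intro k
  rw [AlgEquiv.trans_apply, AlgEquiv.symm_apply_eq, ht k]
  change c (1 ⊗ₜ ∑ p : {p // p ∈ t k}, (⟨p.1.1, htA₁ k p.1 p.2⟩ : A₁) ⊗ₜ p.1.2) = _
  rw [TensorProduct.tmul_sum, map_sum, ← Finset.sum_coe_sort (t k)]
  refine Finset.sum_congr rfl fun p _ => ?_
  rw [Algebra.TensorProduct.cancelBaseChange_tmul]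
  rw [Algebra.smul_def, mul_one]
  rfl

/-- Pointwise form: if `g * f = 0` and `g` is a nonzerodivisor on the fibre through `q`, then `f`
vanishes near `q`. -/
theorem exists_notMem_mul_eq_zero_of_smooth {R B : Type u} [CommRing R] [CommRing B]
    [Algebra R B] [Algebra.Smooth R B] (f g : B) (hgf : g * f = 0) (q : Ideal B) [hq : q.IsPrime]
    (p : Ideal R) [hp : p.IsPrime] (hqp : q.comap (algebraMap R B) = p)
    (hg : ∀ x : p.ResidueField ⊗[R] B, (1 ⊗ₜ g) * x = 0 → x = 0) :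
    ∃ s ∉ q, s * f = 0 := by
  obtain ⟨R₀, _, _, B₀, _, _, f₀, e, hn, hsm, hinj, hef⟩ :=
    exists_noetherian_model' R B (fun i : Bool => if i then f else g)
  have hf₀ : e (1 ⊗ₜ f₀ true) = f := by simpa using hef true
  have hg₀ : e (1 ⊗ₜ f₀ false) = g := by simpa using hef false
  have hincl : Function.Injective (Algebra.TensorProduct.includeRight : B₀ →ₐ[R₀] R ⊗[R₀] B₀) :=
    Algebra.TensorProduct.includeRight_injective hinj
  have hgf₀ : f₀ false * f₀ true = 0 := by
    apply hincl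
    apply e.injective
    rw [map_mul, map_mul, Algebra.TensorProduct.includeRight_apply,
      Algebra.TensorProduct.includeRight_apply, hf₀, hg₀, hgf]
    simp
  let j : B₀ →+* B := (e : R ⊗[R₀] B₀ →+* B).comp
    (Algebra.TensorProduct.includeRight : B₀ →ₐ[R₀] R ⊗[R₀] B₀).toRingHom
  have hj : ∀ x, j x = e (1 ⊗ₜ x) := fun _ => rfl
  have hcomm : j.comp (algebraMap R₀ B₀) = (algebraMap R B).comp (algebraMap R₀ R) := by
    ext x
    change e (1 ⊗ₜ algebraMap R₀ B₀ x) = algebraMap R B (algebraMap R₀ R x)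
    have : (1 : R) ⊗ₜ[R₀] algebraMap R₀ B₀ x = algebraMap R (R ⊗[R₀] B₀) (algebraMap R₀ R x) := by
      rw [← IsScalarTower.algebraMap_apply]
      exact (Algebra.TensorProduct.includeRight : B₀ →ₐ[R₀] R ⊗[R₀] B₀).commutes x
    rw [this, AlgEquiv.commutes]
  let q₀ : Ideal B₀ := q.comap j
  have hq₀ : q₀.IsPrime := Ideal.comap_isPrime j q
  let p₀ : Ideal R₀ := p.comap (algebraMap R₀ R)
  have hp₀ : p₀.IsPrime := Ideal.comap_isPrime _ p
  have hq₀p₀ : q₀.comap (algebraMap R₀ B₀) = p₀ := by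
    rw [Ideal.comap_comap, hcomm, ← Ideal.comap_comap, hqp]
  have hnB : IsNoetherianRing B₀ := Algebra.FiniteType.isNoetherianRing R₀ _
  obtain ⟨s, hs, hsf⟩ := exists_notMem_mul_eq_zero p₀ (f₀ true) (f₀ false) hgf₀ (by
    intro x hx
    -- compare the fibres
    let k₀ := p₀.ResidueField
    let k := p.ResidueField
    let ι : k₀ →+* k := Ideal.ResidueField.map p₀ p (algebraMap R₀ R) rfl
    have hι : ∀ x : R₀, ι (algebraMap R₀ k₀ x) = algebraMap R k (algebraMap R₀ R x) := by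
      intro x
      simp [ι, k₀, k]
    let ι' : k₀ →ₐ[R₀] k := { ι with commutes' := hι }
    have hι'inj : Function.Injective ι' := ι.injective
    let c₁ : k₀ ⊗[R₀] B₀ →ₐ[R₀] k ⊗[R₀] B₀ := Algebra.TensorProduct.map ι' (AlgHom.id R₀ B₀)
    have hc₁ : Function.Injective c₁ :=
      Module.Flat.rTensor_preserves_injective_linearMap (M := B₀) ι'.toLinearMap hι'inj
    let c₂ : k ⊗[R₀] B₀ ≃ₐ[k] k ⊗[R] B :=
      (Algebra.TensorProduct.cancelBaseChange R₀ R k k B₀).symm.trans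
        (Algebra.TensorProduct.congr AlgEquiv.refl e)
    have hc₂ : ∀ x, c₂ (1 ⊗ₜ x) = 1 ⊗ₜ e (1 ⊗ₜ x) := fun _ => rfl
    apply hc₁
    apply c₂.injective
    rw [map_zero, map_zero]
    apply hg
    have h1 := congrArg (fun z => c₂ (c₁ z)) hx
    simp only [map_mul, map_zero] at h1
    rw [← hg₀, ← hc₂, ← h1]
    congr 2
    change _ = ι' 1 ⊗ₜ[R₀] (f₀ false)
    rw [map_one]) q₀ hq₀p₀
  refine ⟨j s, hs, ?_⟩
  rw [hj, ← hf₀, ← map_mul, Algebra.TensorProduct.tmul_mul_tmul, hsf,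
    TensorProduct.tmul_zero, map_zero]

/-- A nonzerodivisor on all the fibres of a smooth algebra is a nonzerodivisor. -/
theorem eq_zero_of_mul_eq_zero {R B : Type u} [CommRing R] [CommRing B]
    [Algebra R B] [Algebra.Smooth R B] (f g : B) (hgf : g * f = 0)
    (hg : ∀ (p : Ideal R) [p.IsPrime], ∀ x : p.ResidueField ⊗[R] B, (1 ⊗ₜ g) * x = 0 → x = 0) :
    f = 0 := by
  by_contra hne
  have hAnn : ∀ x, x ∈ LinearMap.ker (LinearMap.toSpanSingleton B B f) ↔ x * f = 0 := by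
    intro x
    rw [LinearMap.mem_ker, LinearMap.toSpanSingleton_apply, smul_eq_mul]
  obtain ⟨q, hqmax, hle⟩ := Ideal.exists_le_maximal
    (LinearMap.ker (LinearMap.toSpanSingleton B B f)) (by
      rw [Ideal.ne_top_iff_one, hAnn, one_mul]
      exact hne)
  have hqprime : q.IsPrime := hqmax.isPrime
  have hp : (q.comap (algebraMap R B)).IsPrime := Ideal.comap_isPrime _ q
  obtain ⟨s, hs, hsf⟩ := exists_notMem_mul_eq_zero_of_smooth f g hgf q
    (q.comap (algebraMap R B)) rfl (hg _)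
  exact hs (hle ((hAnn s).2 hsf))

end Groth.Agent.Sga3C.CWDensity
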