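import Groth.Agent.Sga3C.CWVanish

/-!
Noetherian models of a smooth algebra with a section and an element.
-/

namespace Groth.Agent.Sga3C.CWDescent

open TensorProduct Groth.Agent.Sga3C.CWCoords Groth.Agent.Sga3C.CWVanish

universe u v w

/-- A smooth algebra with a section and a finite family of elements comes from a Noetherian
subring of the base. -/
theorem exists_noetherian_model (A E : Type u) [CommRing A] [CommRing E] [Algebra A E]
    [Algebra.Smooth A E] (ε : E →ₐ[A] A) {κ : Type} [Finite κ] (f : κ → E) :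
    ∃ (A₀ : Type u) (_ : CommRing A₀) (_ : Algebra A₀ A) (E₀ : Type u) (_ : CommRing E₀)
      (_ : Algebra A₀ E₀) (ε₀ : E₀ →ₐ[A₀] A₀) (f₀ : κ → E₀) (e : A ⊗[A₀] E₀ ≃ₐ[A] E),
      IsNoetherianRing A₀ ∧ Algebra.Smooth A₀ E₀ ∧ Function.Injective (algebraMap A₀ A) ∧
      (∀ k, e (1 ⊗ₜ f₀ k) = f k) ∧ ∀ x, ε (e (1 ⊗ₜ x)) = algebraMap A₀ A (ε₀ x) := by
  classical
  obtain ⟨A₀, B₀, _, _, hA₀, hsm, ⟨e₀⟩⟩ := Algebra.Smooth.exists_subalgebra_fg ℤ A E
  have hft : Algebra.FiniteType ℤ A₀ := (Subalgebra.fg_iff_finiteType A₀).mp hA₀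
  have hnoeth : IsNoetherianRing A₀ := Algebra.FiniteType.isNoetherianRing ℤ _
  -- the section on B₀
  let δ : B₀ →ₐ[A₀] A := (ε.restrictScalars A₀).comp
    ((e₀.symm.toAlgHom.restrictScalars A₀).comp Algebra.TensorProduct.includeRight)
  obtain ⟨s, hs⟩ := (inferInstance : Algebra.FiniteType A₀ B₀).out
  -- the coefficients of f
  have hcoef : ∀ k, ∃ (t : Finset (A × B₀)), e₀ (f k) = ∑ p ∈ t, p.1 ⊗ₜ[A₀] p.2 := by
    intro k
    obtain ⟨t, ht⟩ := TensorProduct.exists_finset (e₀ (f k))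
    exact ⟨t, ht⟩
  choose t ht using hcoef
  let S : Set A := (δ '' (s : Set B₀)) ∪ ⋃ k, (Prod.fst '' (t k : Set (A × B₀)))
  have hSfin : S.Finite := by
    refine (s.finite_toSet.image _).union (Set.finite_iUnion fun k => ?_)
    exact (t k).finite_toSet.image _
  let A₁ : Subalgebra A₀ A := Algebra.adjoin A₀ S
  have hA₁ft : Algebra.FiniteType A₀ A₁ := by
    rw [← Subalgebra.fg_iff_finiteType]
    exact Subalgebra.fg_def.mpr ⟨S, hSfin, rfl⟩
  have hA₁noeth : IsNoetherianRing A₁ := Algebra.FiniteType.isNoetherianRing A₀ _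
  have hδ : ∀ x, δ x ∈ A₁ := by
    intro x
    have h1 : (⊤ : Subalgebra A₀ B₀).map δ ≤ A₁ := by
      rw [← hs, AlgHom.map_adjoin]
      exact Algebra.adjoin_mono (Set.subset_union_left)
    exact h1 ⟨x, trivial, rfl⟩
  let δ₁ : B₀ →ₐ[A₀] A₁ := δ.codRestrict A₁ hδ
  let ε₁ : A₁ ⊗[A₀] B₀ →ₐ[A₁] A₁ :=
    Algebra.TensorProduct.lift (AlgHom.id A₁ A₁) δ₁ (fun _ _ => Commute.all _ _)
  have htA₁ : ∀ k, ∀ p ∈ t k, p.1 ∈ A₁ := by
    intro k p hp
    apply Algebra.subset_adjoin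
    right
    rw [Set.mem_iUnion]
    exact ⟨k, p, hp, rfl⟩
  let f₁ : κ → A₁ ⊗[A₀] B₀ := fun k => ∑ p : {p // p ∈ t k}, (⟨p.1.1, htA₁ k p.1 p.2⟩ : A₁) ⊗ₜ p.1.2
  let c : A ⊗[A₁] (A₁ ⊗[A₀] B₀) ≃ₐ[A] A ⊗[A₀] B₀ :=
    Algebra.TensorProduct.cancelBaseChange A₀ A₁ A A B₀
  refine ⟨A₁, inferInstance, inferInstance, A₁ ⊗[A₀] B₀, inferInstance, inferInstance, ε₁, f₁,
    c.trans e₀.symm, hA₁noeth, inferInstance, Subtype.val_injective, ?_, ?_⟩
  · intro k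
    rw [AlgEquiv.trans_apply, AlgEquiv.symm_apply_eq, ht k]
    change c (1 ⊗ₜ ∑ p : {p // p ∈ t k}, (⟨p.1.1, htA₁ k p.1 p.2⟩ : A₁) ⊗ₜ p.1.2) = _
    rw [TensorProduct.tmul_sum, map_sum, ← Finset.sum_coe_sort (t k)]
    refine Finset.sum_congr rfl fun p _ => ?_
    rw [Algebra.TensorProduct.cancelBaseChange_tmul]
    rw [Algebra.smul_def, mul_one]
    rfl
  · intro x
    induction x with
    | zero => simp
    | add a b ha hb => rw [TensorProduct.tmul_add, map_add, map_add, ha, hb, map_add, map_add]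
    | tmul a b =>
      rw [AlgEquiv.trans_apply]
      change ε (e₀.symm (c (1 ⊗ₜ[A₁] (a ⊗ₜ[A₀] b)))) = algebraMap A₁ A (a * δ₁ b)
      rw [Algebra.TensorProduct.cancelBaseChange_tmul]
      have h1 : (a • (1 : A)) ⊗ₜ[A₀] b = (a : A) • ((1 : A) ⊗ₜ[A₀] b) := by
        rw [TensorProduct.smul_tmul']
        rfl
      rw [h1, map_smul, map_smul, map_mul]
      rfl

end Groth.Agent.Sga3C.CWDescent
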