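import Mathlib.RingTheory.Flat.Stability
import Mathlib.RingTheory.Filtration
import Mathlib.RingTheory.Flat.Basic
import Mathlib.LinearAlgebra.TensorProduct.Quotient
import Mathlib.LinearAlgebra.TensorProduct.RightExactness
import Mathlib.Algebra.Module.Torsion.Basic
import Mathlib.LinearAlgebra.Basis.VectorSpace
import Mathlib.RingTheory.Flat.Tensor

/-!
Fibre criterion for nonzerodivisors: if `C` is flat over `R`, `m` is a maximal ideal of `R` and
multiplication by `g` is injective on the fibre of `C` at `m`, then the annihilator of `g` is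
contained in `⋂ n, m ^ n C`.
-/

namespace Groth.Agent.Sga3C.CWFibreCrit

open TensorProduct

universe u v w

variable {R : Type u} [CommRing R] (m : Ideal R) [hm : m.IsMaximal]
  {C : Type v} [AddCommGroup C] [Module R C]

theorem inj_of_torsion (G : C →ₗ[R] C)
    (hG : Function.Injective (LinearMap.lTensor (R ⧸ m) G))
    (V : Type w) [AddCommGroup V] [Module R V] (hV : ∀ a ∈ m, ∀ v : V, a • v = 0) :
    Function.Injective (LinearMap.lTensor V G) := by
  have htor : Module.IsTorsionBySet R V (m : Set R) := fun v a => hV a.1 a.2 v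
  let _ : Module (R ⧸ m) V := htor.module
  have _ : IsScalarTower R (R ⧸ m) V := htor.isScalarTower
  have hflat : Module.Flat (R ⧸ m) V := by
    let _ : Field (R ⧸ m) := Ideal.Quotient.field m
    infer_instance
  let Gk : (R ⧸ m) ⊗[R] C →ₗ[R ⧸ m] (R ⧸ m) ⊗[R] C := LinearMap.baseChange (R ⧸ m) G
  have hGk : Function.Injective Gk := by
    intro x y hxy
    exact hG hxy
  have h1 : Function.Injective (LinearMap.lTensor V Gk) :=
    Module.Flat.lTensor_preserves_injective_linearMap _ hGk
  let e : V ⊗[R ⧸ m] ((R ⧸ m) ⊗[R] C) ≃ₗ[R ⧸ m] V ⊗[R] C :=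
    TensorProduct.AlgebraTensorModule.cancelBaseChange R (R ⧸ m) (R ⧸ m) V C
  have h2 : ∀ x, LinearMap.lTensor V G (e x) = e (LinearMap.lTensor V Gk x) := by
    intro x
    induction x with
    | zero => simp
    | add a b ha hb => rw [map_add, map_add, ha, hb, map_add, map_add]
    | tmul a b =>
      induction b with
      | zero => simp
      | add b c hb hc =>
        rw [TensorProduct.tmul_add, map_add, map_add, hb, hc, map_add, map_add]
      | tmul b c =>
        rw [LinearMap.lTensor_tmul, TensorProduct.AlgebraTensorModule.cancelBaseChange_tmul,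
          LinearMap.lTensor_tmul, LinearMap.baseChange_tmul,
          TensorProduct.AlgebraTensorModule.cancelBaseChange_tmul]
  intro x y hxy
  obtain ⟨x, rfl⟩ := e.surjective x
  obtain ⟨y, rfl⟩ := e.surjective y
  rw [h2, h2] at hxy
  rw [h1 (e.injective hxy)]

theorem inj_of_pow [Module.Flat R C] (G : C →ₗ[R] C)
    (hG : Function.Injective (LinearMap.lTensor (R ⧸ m) G)) (n : ℕ) :
    ∀ (N : Type w) [AddCommGroup N] [Module R N], (m ^ n • (⊤ : Submodule R N) = ⊥) →
    Function.Injective (LinearMap.lTensor N G) := by
  induction n with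
  | zero =>
    intro N _ _ hN
    have : Subsingleton N := by
      rw [pow_zero, Ideal.one_eq_top, Submodule.top_smul] at hN
      exact (Submodule.subsingleton_iff R).1 (subsingleton_of_bot_eq_top hN.symm)
    intro x y _
    exact Subsingleton.elim _ _
  | succ n ih =>
    intro N _ _ hN
    let N' : Submodule R N := m • ⊤
    have hN' : m ^ n • (⊤ : Submodule R N') = ⊥ := by
      apply (Submodule.map_injective_of_injective (f := N'.subtype) Subtype.val_injective)
      rw [Submodule.map_smul'', Submodule.map_top, Submodule.range_subtype, Submodule.map_bot,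
        ← hN, pow_succ, Submodule.mul_smul]
    have h1 := ih N' hN'
    have h2 : Function.Injective (LinearMap.lTensor (N ⧸ N') G) := by
      apply inj_of_torsion m G hG
      intro a ha v
      obtain ⟨v, rfl⟩ := Submodule.Quotient.mk_surjective _ v
      rw [← Submodule.Quotient.mk_smul, Submodule.Quotient.mk_eq_zero]
      exact Submodule.smul_mem_smul ha trivial
    rw [injective_iff_map_eq_zero]
    intro x hx
    have h3 : (N'.mkQ.rTensor C) x = 0 := by
      apply h2
      rw [map_zero, ← LinearMap.comp_apply, LinearMap.lTensor_comp_rTensor,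
        ← LinearMap.rTensor_comp_lTensor, LinearMap.comp_apply, hx, map_zero]
    have hex : Function.Exact (N'.subtype.rTensor C) (N'.mkQ.rTensor C) :=
      rTensor_exact C (LinearMap.exact_subtype_mkQ N') N'.mkQ_surjective
    obtain ⟨y, rfl⟩ := (hex x).1 h3
    have hinj : Function.Injective (N'.subtype.rTensor C) :=
      Module.Flat.rTensor_preserves_injective_linearMap _ N'.subtype_injective
    have h4 : LinearMap.lTensor N' G y = 0 := by
      apply hinj
      rw [map_zero, ← LinearMap.comp_apply, LinearMap.rTensor_comp_lTensor,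
        ← LinearMap.lTensor_comp_rTensor, LinearMap.comp_apply]
      exact hx
    have h5 : y = 0 := by
      apply h1
      rw [h4, map_zero]
    rw [h5, map_zero]

theorem mem_pow_smul_of_map_eq_zero [Module.Flat R C] (G : C →ₗ[R] C)
    (hG : Function.Injective (LinearMap.lTensor (R ⧸ m) G)) (c : C) (hc : G c = 0) (n : ℕ) :
    c ∈ (m ^ n • ⊤ : Submodule R C) := by
  have h1 := inj_of_pow m G hG n (R ⧸ m ^ n) (by
    rw [eq_bot_iff]
    intro x hx
    refine Submodule.smul_induction_on hx ?_ ?_
    · intro a ha b _
      obtain ⟨b, rfl⟩ := Ideal.Quotient.mk_surjective b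
      rw [Submodule.mem_bot, ← Ideal.Quotient.mk_eq_mk, ← Submodule.Quotient.mk_smul,
        Submodule.Quotient.mk_eq_zero]
      exact Ideal.mul_mem_right _ _ ha
    · intro x y hx hy
      exact Submodule.add_mem _ hx hy)
  have h2 : (Ideal.Quotient.mk (m ^ n) 1) ⊗ₜ[R] c = 0 := by
    apply h1
    rw [LinearMap.lTensor_tmul, hc, TensorProduct.tmul_zero, map_zero]
  have h3 := congrArg (TensorProduct.quotTensorEquivQuotSMul C (m ^ n)) h2
  rw [map_zero, TensorProduct.quotTensorEquivQuotSMul_mk_tmul, one_smul,
    Submodule.Quotient.mk_eq_zero] at h3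
  exact h3

end Groth.Agent.Sga3C.CWFibreCrit
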