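import Groth.Agent.Sga3C.CWGroup

/-!
# Lifting a family of homomorphisms through a monomorphism, `H` flat and locally of finite
presentation
-/

set_option autoImplicit false

open CategoryTheory Limits MonoidalCategory CartesianMonoidalCategory MonObj GrpObj AlgebraicGeometry

universe u

namespace Groth.Agent.Sga3C.CWGroup

section Family

variable {S : Scheme.{u}} {T H W : Over S} [GrpObj H] (w : W ⟶ T ⊗ H)

theorem flat_m' [Flat w.left] [LocallyOfFinitePresentation w.left] 
    [Flat H.hom] [LocallyOfFinitePresentation H.hom] :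
    Flat (m w).left ∧ LocallyOfFinitePresentation (m w).left := by
  have h1 := isPullback_left (isPullback_a w)
  have h2 := isPullback_left (isPullback_whisker (H := H) w)
  have f1 : Flat (a w).left := MorphismProperty.of_isPullback (P := @Flat) h1 inferInstance
  have f2 : Flat (w ▷ H).left := MorphismProperty.of_isPullback (P := @Flat) h2 inferInstance
  have f3 : Flat (fst (T ⊗ H) H).left := by
    change Flat (pullback.fst _ _)
    infer_instance
  have g1 : LocallyOfFinitePresentation (a w).left :=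
    MorphismProperty.of_isPullback (P := @LocallyOfFinitePresentation) h1 inferInstance
  have g2 : LocallyOfFinitePresentation (w ▷ H).left :=
    MorphismProperty.of_isPullback (P := @LocallyOfFinitePresentation) h2 inferInstance
  have g3 : LocallyOfFinitePresentation (fst (T ⊗ H) H).left := by
    change LocallyOfFinitePresentation (pullback.fst _ _)
    infer_instance
  have e1 : (m w).left = (a w).left ≫ (w ▷ H).left ≫ (e T H).hom.left ≫ (fst (T ⊗ H) H).left := by
    rw [m_eq]
    rfl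
  rw [e1]
  exact ⟨inferInstance, inferInstance⟩

theorem surjective_m' [Flat w.left] [LocallyOfFinitePresentation w.left] 
    [UniversallyOpen H.hom]
    [GeometricallyIrreducible H.hom]
    (hw : ∀ t : T.left, ∃ z : W.left, (w ≫ fst T H).left z = t) : Surjective (m w).left := by
  constructor
  intro x
  let q : (T ⊗ H) ⊗ H ⟶ T ⊗ H := fst _ _
  have hqL : q.left = pullback.fst (T ⊗ H).hom H.hom := rfl
  have : UniversallyOpen q.left := by rw [hqL]; infer_instance
  have : GeometricallyIrreducible q.left := by rw [hqL]; infer_instance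
  let O : Set (T ⊗ H).left := Set.range w.left
  have hO : IsOpen O := w.left.isOpenMap.isOpen_range
  obtain ⟨z, hz⟩ := hw ((fst T H).left x)
  obtain ⟨kA, hkA1, hkA2⟩ := Scheme.exists_preimage_of_isPullback
    (isPullback_left (isPullback_A (T := T) (H := H))) x (w.left z) hz.symm
  have h1 : ∃ k : ((T ⊗ H) ⊗ H).left, q.left k = x ∧ (Afun T H).left k ∈ O :=
    ⟨kA, hkA1, z, hkA2.symm⟩
  have h2 : ∃ k : ((T ⊗ H) ⊗ H).left, q.left k = x ∧ (Bfun T H).left k ∈ O := by
    refine ⟨(τ T H).left kA, ?_, ?_⟩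
    · rw [← comp_left_apply, lift_fst]
      exact hkA1
    · rw [← comp_left_apply, τ_B]
      exact ⟨z, hkA2.symm⟩
  obtain ⟨k, hkq, hkA, hkB⟩ : ∃ k : ((T ⊗ H) ⊗ H).left, q.left k = x ∧
      (Afun T H).left k ∈ O ∧ (Bfun T H).left k ∈ O := by
    have hirr := q.left.isIrreducible_preimage q.left.isOpenMap (isIrreducible_singleton (x := x))
    obtain ⟨a, ha1, ha2⟩ := h1
    obtain ⟨b, hb1, hb2⟩ := h2
    obtain ⟨w, hw1, hw2, hw3⟩ := hirr.isPreirreducible ((Afun T H).left ⁻¹' O)
      ((Bfun T H).left ⁻¹' O)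
      (hO.preimage (Afun T H).left.continuous) (hO.preimage (Bfun T H).left.continuous)
      ⟨a, ha1, ha2⟩ ⟨b, hb1, hb2⟩
    exact ⟨w, hw1, hw2, hw3⟩
  obtain ⟨w1, hw1⟩ := hkB
  rw [comp_left_apply] at hw1
  obtain ⟨k1, -, hk1⟩ := Scheme.exists_preimage_of_isPullback
    (isPullback_left (isPullback_whisker (H := H) w)) w1 ((e T H).inv.left k) hw1
  obtain ⟨w2, hw2⟩ := hkA
  have hA : ((w ≫ fst T H) ▷ H).left k1 = w.left w2 := by
    have e1 : (w ≫ fst T H) ▷ H = w ▷ H ≫ Afun T H := by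
      rw [comp_whiskerRight]
    rw [e1, comp_left_apply, hk1, ← comp_left_apply, e_inv_A, hw2]
  obtain ⟨z0, -, hz0⟩ := Scheme.exists_preimage_of_isPullback
    (isPullback_left (isPullback_a w)) w2 k1 hA.symm
  refine ⟨z0, ?_⟩
  rw [m_eq, comp_left_apply, hz0, comp_left_apply, hk1, ← comp_left_apply,
    Iso.inv_hom_id_assoc]
  exact hkq

end Family

/-- `exists_lift_of_flat` for `H` flat and locally of finite presentation. -/
theorem exists_lift_of_flat' {S : Scheme.{u}} {T H M N : Over S} [GrpObj H] [GrpObj M] [GrpObj N]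
    [Flat H.hom] [LocallyOfFinitePresentation H.hom] [GeometricallyIrreducible H.hom] (i : N ⟶ M) [IsMonHom i] [Mono i]
    (γ : T ⊗ H ⟶ M)
    (hγ : ∀ {U : Over S} (t : U ⟶ T) (a b : U ⟶ H),
      lift t (a * b) ≫ γ = (lift t a ≫ γ) * (lift t b ≫ γ))
    {W : Over S} (w : W ⟶ T ⊗ H) [Flat w.left] [LocallyOfFinitePresentation w.left]
    (hw : ∀ t : T.left, ∃ z : W.left, (w ≫ fst T H).left z = t)
    (c : W ⟶ N) (hc : c ≫ i = w ≫ γ) : ∃ b : T ⊗ H ⟶ N, b ≫ i = γ := by
  obtain ⟨f1, f2⟩ := flat_m' w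
  have f3 := surjective_m' w hw
  refine exists_lift_of_fppf i γ (m w) ((z1 w ≫ c) * (z2 w ≫ c)) ?_
  have e1 : lift (z1 w ≫ w ≫ fst T H) (z1 w ≫ w ≫ snd T H) = z1 w ≫ w := by
    ext1
    · rw [lift_fst, Category.assoc]
    · rw [lift_snd, Category.assoc]
  have e2 : lift (z1 w ≫ w ≫ fst T H) (z2 w ≫ w ≫ snd T H) = z2 w ≫ w := by
    ext1
    · rw [lift_fst, Category.assoc, z_cond]
    · rw [lift_snd, Category.assoc]
  rw [m, hγ, e1, e2, MonObj.mul_comp, Category.assoc, Category.assoc, Category.assoc,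
    Category.assoc, hc]


/-- Two families of homomorphisms `T × H ⟶ M` which agree after a flat morphism
`W ⟶ T × H` locally of finite presentation whose image meets every fibre over `T` agree. -/
theorem eq_of_flat {S : Scheme.{u}} {T H M : Over S} [GrpObj H] [GrpObj M]
    [Flat H.hom] [LocallyOfFinitePresentation H.hom] [GeometricallyIrreducible H.hom]
    (γ δ : T ⊗ H ⟶ M)
    (hγ : ∀ {U : Over S} (t : U ⟶ T) (a b : U ⟶ H),
      lift t (a * b) ≫ γ = (lift t a ≫ γ) * (lift t b ≫ γ))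
    (hδ : ∀ {U : Over S} (t : U ⟶ T) (a b : U ⟶ H),
      lift t (a * b) ≫ δ = (lift t a ≫ δ) * (lift t b ≫ δ))
    {W : Over S} (w : W ⟶ T ⊗ H) [Flat w.left] [LocallyOfFinitePresentation w.left]
    (hw : ∀ t : T.left, ∃ z : W.left, (w ≫ fst T H).left z = t)
    (hc : w ≫ γ = w ≫ δ) : γ = δ := by
  obtain ⟨f1, f2⟩ := flat_m' w
  have f3 := surjective_m' w hw
  have e1 : lift (z1 w ≫ w ≫ fst T H) (z1 w ≫ w ≫ snd T H) = z1 w ≫ w := by
    ext1
    · rw [lift_fst, Category.assoc]
    · rw [lift_snd, Category.assoc]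
  have e2 : lift (z1 w ≫ w ≫ fst T H) (z2 w ≫ w ≫ snd T H) = z2 w ≫ w := by
    ext1
    · rw [lift_fst, Category.assoc, z_cond]
    · rw [lift_snd, Category.assoc]
  have h : m w ≫ γ = m w ≫ δ := by
    rw [m, hγ, hδ, e1, e2, Category.assoc, Category.assoc, Category.assoc, Category.assoc, hc]
  have hi : IsSplitMono (lift (𝟙 M) (𝟙 M)) := ⟨⟨⟨fst _ _, lift_fst _ _⟩⟩⟩
  obtain ⟨b, hb⟩ := exists_lift_of_fppf (lift (𝟙 M) (𝟙 M)) (lift γ δ) (m w) (m w ≫ γ) (by
    rw [comp_lift, comp_lift, Category.comp_id, h])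
  rw [comp_lift, Category.comp_id] at hb
  have h1 := hb =≫ fst _ _
  have h2 := hb =≫ snd _ _
  rw [lift_fst, lift_fst] at h1
  rw [lift_snd, lift_snd] at h2
  exact h1.symm.trans h2

end Groth.Agent.Sga3C.CWGroup
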