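import Groth.Agent.Sga3C.CWSection
import Groth.Agent.Sga3C.CWDensity
import Mathlib.RingTheory.Flat.FaithfullyFlat.Algebra

/-!
For a smooth algebra `B` over `R` with geometrically integral fibres and `f` in `B`, the condition
`f ⊗ 1 = 0` in `B ⊗ C` is represented by a finitely generated ideal of `R`.
-/

namespace Groth.Agent.Sga3C.CWLocus

open TensorProduct Groth.Agent.Sga3C.CWVanish Groth.Agent.Sga3C.CWSection
  Groth.Agent.Sga3C.CWDensity

universe u v w

section Descent

variable {R : Type u} {B : Type v} [CommRing R] [CommRing B] [Algebra R B]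

/-- Faithfully flat descent of ideals. -/
theorem map_comap_eq_of_faithfullyFlat [Module.FaithfullyFlat R B] (K' : Ideal B)
    (h : K'.map (Algebra.TensorProduct.includeLeft : B →ₐ[R] B ⊗[R] B) ≤
      K'.map (Algebra.TensorProduct.includeRight : B →ₐ[R] B ⊗[R] B)) :
    (K'.comap (algebraMap R B)).map (algebraMap R B) = K' := by
  apply le_antisymm Ideal.map_comap_le
  intro b hb
  let K : Ideal R := K'.comap (algebraMap R B)
  let π : B →ₐ[R] B ⧸ K' := Ideal.Quotient.mkₐ R K'
  let Φ : B ⊗[R] B →ₐ[R] B ⊗[R] (B ⧸ K') := Algebra.TensorProduct.map (AlgHom.id R B) π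
  have h1 : K'.map (Algebra.TensorProduct.includeRight : B →ₐ[R] B ⊗[R] B) ≤ RingHom.ker Φ := by
    rw [Ideal.map_le_iff_le_comap]
    intro x hx
    rw [Ideal.mem_comap, RingHom.mem_ker, Algebra.TensorProduct.includeRight_apply]
    change (AlgHom.id R B) 1 ⊗ₜ[R] π x = 0
    have : π x = 0 := by
      change Ideal.Quotient.mk K' x = 0
      exact Ideal.Quotient.eq_zero_iff_mem.2 hx
    rw [this, TensorProduct.tmul_zero]
  have h2 : Φ (b ⊗ₜ 1) = 0 := h1 (h (Ideal.mem_map_of_mem _ hb))
  have h3 : b ⊗ₜ[R] (1 : B ⧸ K') = 0 := by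
    have h4 : Φ (b ⊗ₜ 1) = b ⊗ₜ[R] (1 : B ⧸ K') := by
      change (AlgHom.id R B) b ⊗ₜ[R] π 1 = _
      rw [map_one]
      rfl
    rw [← h4]
    exact h2
  let lin : R →ₗ[R] B ⧸ K' := Algebra.linearMap R (B ⧸ K')
  have hex : Function.Exact K.subtype lin := by
    intro x
    constructor
    · intro hx
      refine ⟨⟨x, ?_⟩, rfl⟩
      change algebraMap R B x ∈ K'
      rw [← Ideal.Quotient.eq_zero_iff_mem]
      exact hx
    · rintro ⟨y, rfl⟩
      have hy : algebraMap R B y ∈ K' := y.2
      rw [← Ideal.Quotient.eq_zero_iff_mem] at hy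
      exact hy
  have hex2 : Function.Exact (LinearMap.lTensor B K.subtype) (LinearMap.lTensor B lin) :=
    Module.Flat.lTensor_exact B hex
  have h5 : LinearMap.lTensor B lin (b ⊗ₜ (1 : R)) = 0 := by
    rw [LinearMap.lTensor_tmul]
    change b ⊗ₜ[R] (algebraMap R (B ⧸ K') 1) = 0
    rw [map_one]
    exact h3
  obtain ⟨y, hy⟩ := (hex2 _).1 h5
  have h6 : ∀ y : B ⊗[R] K, TensorProduct.rid R B (LinearMap.lTensor B K.subtype y) ∈
      K.map (algebraMap R B) := by
    intro y
    induction y with
    | zero => simp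
    | add a b ha hb =>
      rw [map_add, map_add]
      exact Ideal.add_mem _ ha hb
    | tmul a k =>
      rw [LinearMap.lTensor_tmul, TensorProduct.rid_tmul, Algebra.smul_def]
      exact Ideal.mul_mem_right _ _ (Ideal.mem_map_of_mem _ k.2)
  have h7 := h6 y
  rw [hy, TensorProduct.rid_tmul, one_smul] at h7
  exact h7

theorem fg_of_map_fg_of_faithfullyFlat [Module.FaithfullyFlat R B] (K : Ideal R)
    (h : (K.map (algebraMap R B)).FG) : K.FG := by
  classical
  obtain ⟨s, hs, hs2⟩ := Submodule.fg_span_iff_fg_span_finset_subset _ |>.1 h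
  have h1 : ∀ x : s, ∃ k ∈ K, algebraMap R B k = x := by
    intro x
    obtain ⟨k, hk, hk2⟩ := hs x.2
    exact ⟨k, hk, hk2⟩
  choose k hk hk2 using h1
  refine ⟨Finset.univ.image k, ?_⟩
  have h2 : (Ideal.span (Set.range k)).map (algebraMap R B) = K.map (algebraMap R B) := by
    rw [Ideal.map_span]
    have h0 : K.map (algebraMap R B) = Submodule.span B (s : Set B) := hs2
    rw [h0]
    apply le_antisymm
    · rw [Ideal.span_le]
      rintro _ ⟨_, ⟨x, rfl⟩, rfl⟩
      rw [hk2]
      exact Ideal.subset_span x.2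
    · rw [Submodule.span_le]
      intro x hx
      exact Ideal.subset_span ⟨k ⟨x, hx⟩, ⟨⟨x, hx⟩, rfl⟩, hk2 ⟨x, hx⟩⟩
  have h3 := congrArg (Ideal.comap (algebraMap R B)) h2
  rw [Ideal.comap_map_eq_self_of_faithfullyFlat, Ideal.comap_map_eq_self_of_faithfullyFlat] at h3
  rw [← h3, Finset.coe_image, Finset.coe_univ, Set.image_univ]

end Descent

variable {R B : Type u} [CommRing R] [CommRing B] [Algebra R B]

/-- The fibres of `B` over `R` are geometrically integral. -/
def GeomInt (R B : Type u) [CommRing R] [CommRing B] [Algebra R B] : Prop :=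
  ∀ (K : Type u) [Field K] [Algebra R K], IsDomain (K ⊗[R] B)

theorem faithfullyFlat_of_geomInt [Algebra.Smooth R B] (hB : GeomInt R B) :
    Module.FaithfullyFlat R B := by
  apply Module.FaithfullyFlat.of_comap_surjective
  intro p
  have := hB p.asIdeal.ResidueField
  have hnt : Nontrivial (p.asIdeal.ResidueField ⊗[R] B) := inferInstance
  obtain ⟨q⟩ : Nonempty (PrimeSpectrum (p.asIdeal.ResidueField ⊗[R] B)) := inferInstance
  refine ⟨q.comap (Algebra.TensorProduct.includeRight : B →ₐ[R] _).toRingHom, ?_⟩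
  have h1 : ((Algebra.TensorProduct.includeRight : B →ₐ[R] p.asIdeal.ResidueField ⊗[R] B).toRingHom).comp
      (algebraMap R B) = (algebraMap p.asIdeal.ResidueField (p.asIdeal.ResidueField ⊗[R] B)).comp
        (algebraMap R p.asIdeal.ResidueField) := by
    rw [← IsScalarTower.algebraMap_eq]
    exact AlgHom.comp_algebraMap
      (Algebra.TensorProduct.includeRight : B →ₐ[R] p.asIdeal.ResidueField ⊗[R] B)
  rw [← PrimeSpectrum.comap_comp_apply, h1, PrimeSpectrum.comap_comp_apply]
  ext1
  have h2 : PrimeSpectrum.comap (algebraMap p.asIdeal.ResidueField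
      (p.asIdeal.ResidueField ⊗[R] B)) q = ⊥ := Subsingleton.elim _ _
  rw [h2]
  change Ideal.comap _ (⊥ : Ideal p.asIdeal.ResidueField) = _
  exact Ideal.ker_algebraMap_residueField p.asIdeal

theorem exists_ideal_of_diagonal [Algebra.Smooth R B] (hB : GeomInt R B) (f : B) :
    ∃ K' : Ideal B, K'.FG ∧ ∀ (C : Type u) [CommRing C] [Algebra B C] [Algebra R C]
      [IsScalarTower R B C], K'.map (algebraMap B C) = ⊥ ↔ (1 : C) ⊗ₜ[R] f = 0 := by
  let ε : B ⊗[R] B →ₐ[B] B := Algebra.TensorProduct.lmul'' R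
  refine ⟨vanIdeal ε (1 ⊗ₜ f), vanIdeal_fg _ _, ?_⟩
  intro C _ _ _ _
  rw [map_vanIdeal_eq_bot_iff_exists]
  let c : C ⊗[B] (B ⊗[R] B) ≃ₐ[C] C ⊗[R] B := Algebra.TensorProduct.cancelBaseChange R B C C B
  have hc : c (1 ⊗ₜ (1 ⊗ₜ f)) = 1 ⊗ₜ f := by
    change Algebra.TensorProduct.cancelBaseChange R B C C B _ = _
    rw [Algebra.TensorProduct.cancelBaseChange_tmul, one_smul]
  constructor
  · rintro ⟨a, ha, h⟩
    have h1 : (1 : C) ⊗ₜ[B] ((1 : B) ⊗ₜ[R] f) = 0 := by
      refine eq_zero_of_mul_eq_zero (R := C) _ _ h ?_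
      intro p _ x hx
      let _ : Algebra R p.ResidueField := inferInstance
      have hdom : IsDomain (p.ResidueField ⊗[R] B) := hB p.ResidueField
      let c₁ : p.ResidueField ⊗[C] (C ⊗[B] (B ⊗[R] B)) ≃ₐ[p.ResidueField] p.ResidueField ⊗[R] B :=
        (Algebra.TensorProduct.congr AlgEquiv.refl c).trans
          (Algebra.TensorProduct.cancelBaseChange R C p.ResidueField p.ResidueField B)
      have hdom2 : IsDomain (p.ResidueField ⊗[C] (C ⊗[B] (B ⊗[R] B))) :=
        c₁.toMulEquiv.isDomain
      rcases mul_eq_zero.1 hx with h0 | h0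
      · exfalso
        have h2 := congrArg (bcSection (bcSection ε C) p.ResidueField) h0
        rw [bcSection_tmul, map_sub, map_one, (RingHom.mem_ker).1 ha, map_zero] at h2
        simp at h2
      · exact h0
    rw [← hc, h1, map_zero]
  · intro h
    refine ⟨0, Ideal.zero_mem _, ?_⟩
    rw [sub_zero, one_mul]
    apply c.injective
    rw [hc, h, map_zero]

/-- For `B` smooth over `R` with geometrically integral fibres, the vanishing of `f` in `B` is
represented by a finitely generated ideal of `R`. -/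
theorem exists_locus_ideal [Algebra.Smooth R B] (hB : GeomInt R B) (f : B) :
    ∃ K : Ideal R, K.FG ∧ ∀ (C : Type u) [CommRing C] [Algebra R C],
      K.map (algebraMap R C) = ⊥ ↔ (1 : C) ⊗ₜ[R] f = 0 := by
  obtain ⟨K', hK', h⟩ := exists_ideal_of_diagonal hB f
  have hff : Module.FaithfullyFlat R B := faithfullyFlat_of_geomInt hB
  have heq : K'.map (Algebra.TensorProduct.includeLeft : B →ₐ[R] B ⊗[R] B) =
      K'.map (Algebra.TensorProduct.includeRight : B →ₐ[R] B ⊗[R] B) := by
    apply eq_of_forall_map_eq_bot_iff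
    intro C _ _
    let _ : Algebra R C := ((algebraMap (B ⊗[R] B) C).comp (algebraMap R (B ⊗[R] B))).toAlgebra
    have hL : ((K'.map (Algebra.TensorProduct.includeLeft : B →ₐ[R] B ⊗[R] B)).map
        (algebraMap (B ⊗[R] B) C) = ⊥ ↔ (1 : C) ⊗ₜ[R] f = 0) := by
      let _ : Algebra B C := ((algebraMap (B ⊗[R] B) C).comp
        (Algebra.TensorProduct.includeLeft : B →ₐ[R] B ⊗[R] B).toRingHom).toAlgebra
      have _ : IsScalarTower R B C := IsScalarTower.of_algebraMap_eq (fun x => by
        change algebraMap (B ⊗[R] B) C (algebraMap R (B ⊗[R] B) x) =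
          algebraMap (B ⊗[R] B) C ((Algebra.TensorProduct.includeLeft : B →ₐ[R] B ⊗[R] B)
            (algebraMap R B x))
        rw [AlgHom.commutes])
      rw [← h C]
      have : K'.map (algebraMap B C) = (K'.map (Algebra.TensorProduct.includeLeft :
          B →ₐ[R] B ⊗[R] B)).map (algebraMap (B ⊗[R] B) C) := (Ideal.map_map _ _).symm
      rw [this]
    have hR : ((K'.map (Algebra.TensorProduct.includeRight : B →ₐ[R] B ⊗[R] B)).map
        (algebraMap (B ⊗[R] B) C) = ⊥ ↔ (1 : C) ⊗ₜ[R] f = 0) := by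
      let _ : Algebra B C := ((algebraMap (B ⊗[R] B) C).comp
        (Algebra.TensorProduct.includeRight : B →ₐ[R] B ⊗[R] B).toRingHom).toAlgebra
      have _ : IsScalarTower R B C := IsScalarTower.of_algebraMap_eq (fun x => by
        change algebraMap (B ⊗[R] B) C (algebraMap R (B ⊗[R] B) x) =
          algebraMap (B ⊗[R] B) C ((Algebra.TensorProduct.includeRight : B →ₐ[R] B ⊗[R] B)
            (algebraMap R B x))
        rw [AlgHom.commutes])
      rw [← h C]
      have : K'.map (algebraMap B C) = (K'.map (Algebra.TensorProduct.includeRight :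
          B →ₐ[R] B ⊗[R] B)).map (algebraMap (B ⊗[R] B) C) := (Ideal.map_map _ _).symm
      rw [this]
    rw [hL, hR]
  have hKK' := map_comap_eq_of_faithfullyFlat K' heq.le
  refine ⟨K'.comap (algebraMap R B), ?_, ?_⟩
  · apply fg_of_map_fg_of_faithfullyFlat (B := B)
    rw [hKK']
    exact hK'
  · intro C _ _
    -- C' = C ⊗ B is a B-algebra via the right factor
    let C' := C ⊗[R] B
    let _ : Algebra B C' := Algebra.TensorProduct.rightAlgebra
    have hinj : Function.Injective (algebraMap C C') :=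
      FaithfulSMul.algebraMap_injective C C'
    have h1 : (K'.comap (algebraMap R B)).map (algebraMap R C) = ⊥ ↔
        K'.map (algebraMap B C') = ⊥ := by
      rw [← Ideal.map_eq_bot_iff_of_injective hinj, Ideal.map_map, ← IsScalarTower.algebraMap_eq]
      have h2 : K'.map (algebraMap B C') =
          ((K'.comap (algebraMap R B)).map (algebraMap R B)).map (algebraMap B C') := by
        rw [hKK']
      rw [h2, Ideal.map_map, ← IsScalarTower.algebraMap_eq]
    rw [h1, h C']
    have hflat : Module.Flat R B := inferInstance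
    let ι : C →ₐ[R] C' := Algebra.TensorProduct.includeLeft
    have hι : Function.Injective ι := hinj
    have h3 := Module.Flat.rTensor_preserves_injective_linearMap (M := B) ι.toLinearMap hι
    constructor
    · intro h4
      apply h3
      rw [LinearMap.rTensor_tmul, map_zero]
      change ι 1 ⊗ₜ[R] f = 0
      rw [map_one]
      exact h4
    · intro h4
      have h5 := congrArg (LinearMap.rTensor B ι.toLinearMap) h4
      rw [LinearMap.rTensor_tmul, map_zero] at h5
      change ι 1 ⊗ₜ[R] f = 0 at h5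
      rw [map_one] at h5
      exact h5

end Groth.Agent.Sga3C.CWLocus
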