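import Groth.Agent.Sga3C.CWSection
import Mathlib.RingTheory.Unramified.LocalStructure
import Mathlib.RingTheory.Etale.StandardEtale

/-!
Ring level input for the representability of normalizers and centralizers: the locus where a
finitely generated ideal vanishes in a neighbourhood of a section; local structure of unramified
algebras.
-/

namespace Groth.Agent.Sga3C.CWUnram

open TensorProduct Groth.Agent.Sga3C.CWCoords Groth.Agent.Sga3C.CWVanish
  Groth.Agent.Sga3C.CWSection

universe u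

section Locus

variable {R E : Type u} [CommRing R] [CommRing E] [Algebra R E]

/-- An element vanishing near a section vanishes in all infinitesimal neighbourhoods. -/
theorem mem_pow_of_mul_eq_zero {E : Type*} [CommRing E] {I : Ideal E} {a x : E} (ha : a ∈ I)
    (h : (1 - a) * x = 0) (n : ℕ) : x ∈ I ^ n := by
  have h0 : x = a * x := by
    rw [sub_mul, one_mul, sub_eq_zero] at h
    exact h
  have h1 : x = a ^ n * x := by
    induction n with
    | zero => simp
    | succ n ih => rw [pow_succ, mul_assoc, ← h0, ← ih]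
  rw [h1]
  exact Ideal.mul_mem_right _ _ (Ideal.pow_mem_pow ha n)

theorem exists_locus [Algebra.Smooth R E] (ε : E →ₐ[R] R) (J : Ideal E) (hJ : J.FG) :
    ∃ K : Ideal R, K.FG ∧ ∀ (D : Type u) [CommRing D] [Algebra R D],
      (K.map (algebraMap R D) = ⊥ ↔ ∃ a ∈ RingHom.ker (bcSection ε D), ∀ x ∈ J,
        (1 - a) * ((1 : D) ⊗ₜ[R] x) = 0) ∧
      (K.map (algebraMap R D) = ⊥ ↔ ∀ n, ∀ x ∈ J,
        ((1 : D) ⊗ₜ[R] x) ∈ (RingHom.ker (bcSection ε D)) ^ n) := by
  classical
  obtain ⟨t, ht⟩ := hJ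
  refine ⟨⨆ x ∈ t, vanIdeal ε x, Submodule.fg_biSup t _ (fun x _ => vanIdeal_fg ε x), ?_⟩
  intro D _ _
  have h1 : (⨆ x ∈ t, vanIdeal ε x).map (algebraMap R D) = ⊥ ↔
      ∀ x ∈ t, (vanIdeal ε x).map (algebraMap R D) = ⊥ := by
    rw [Ideal.map_iSup, iSup_eq_bot]
    refine forall_congr' fun x => ?_
    rw [Ideal.map_iSup, iSup_eq_bot]
  -- from generators to the ideal
  have hgen : ∀ (a : D ⊗[R] E), (∀ x ∈ t, a * ((1 : D) ⊗ₜ[R] x) = 0) →
      ∀ x ∈ J, a * ((1 : D) ⊗ₜ[R] x) = 0 := by
    intro a ha x hx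
    rw [← ht] at hx
    refine Submodule.span_induction (p := fun x _ => a * ((1 : D) ⊗ₜ[R] x) = 0) ?_ ?_ ?_ ?_ hx
    · exact fun x hx => ha x hx
    · simp
    · intro x y _ _ hx hy
      rw [TensorProduct.tmul_add, mul_add, hx, hy, add_zero]
    · intro c x _ hx
      have : (1 : D) ⊗ₜ[R] (c • x) = ((1 : D) ⊗ₜ[R] x) * ((1 : D) ⊗ₜ[R] c) := by
        rw [Algebra.TensorProduct.tmul_mul_tmul, mul_one, smul_eq_mul, mul_comm]
      rw [this, ← mul_assoc, hx, zero_mul]
  have hA : (⨆ x ∈ t, vanIdeal ε x).map (algebraMap R D) = ⊥ →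
      ∃ a ∈ RingHom.ker (bcSection ε D), ∀ x ∈ J, (1 - a) * ((1 : D) ⊗ₜ[R] x) = 0 := by
    intro h
    rw [h1] at h
    have h2 : ∀ x ∈ t, ∃ a ∈ RingHom.ker (bcSection ε D), (1 - a) * ((1 : D) ⊗ₜ[R] x) = 0 :=
      fun x hx => (map_vanIdeal_eq_bot_iff_exists ε x D).1 (h x hx)
    choose! a ha hax using h2
    refine ⟨1 - ∏ x ∈ t, (1 - a x), ?_, ?_⟩
    · rw [RingHom.mem_ker, map_sub, map_one, map_prod, sub_eq_zero]
      symm
      apply Finset.prod_eq_one
      intro x hx
      have := ha x hx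
      rw [RingHom.mem_ker] at this
      rw [map_sub, map_one, this, sub_zero]
    · apply hgen
      intro x hx
      rw [sub_sub_cancel, ← Finset.prod_erase_mul t _ hx, mul_assoc, hax x hx, mul_zero]
  have hB : (∃ a ∈ RingHom.ker (bcSection ε D), ∀ x ∈ J, (1 - a) * ((1 : D) ⊗ₜ[R] x) = 0) →
      ∀ n, ∀ x ∈ J, ((1 : D) ⊗ₜ[R] x) ∈ (RingHom.ker (bcSection ε D)) ^ n := by
    rintro ⟨a, ha, hax⟩ n x hx
    exact mem_pow_of_mul_eq_zero ha (hax x hx) n
  have hC : (∀ n, ∀ x ∈ J, ((1 : D) ⊗ₜ[R] x) ∈ (RingHom.ker (bcSection ε D)) ^ n) →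
      (⨆ x ∈ t, vanIdeal ε x).map (algebraMap R D) = ⊥ := by
    intro h
    rw [h1]
    intro x hx
    rw [map_vanIdeal_eq_bot_iff, ← ker_bcSection]
    intro n
    apply h n x
    rw [← ht]
    exact Ideal.subset_span hx
  exact ⟨⟨hA, fun h => hC (hB h)⟩, ⟨fun h => hB (hA h), hC⟩⟩

end Locus

section Unramified

/-- Local structure of an unramified algebra of finite presentation. -/
theorem exists_etale_surjection {B C : Type u} [CommRing B] [CommRing C] [Algebra B C]
    [Algebra.FinitePresentation B C] [Algebra.FormallyUnramified B C] (q : Ideal C) [q.IsPrime] :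
    ∃ f ∉ q, ∃ (B' : Type u) (_ : CommRing B') (_ : Algebra B B')
      (φ : B' →ₐ[B] Localization.Away f), Algebra.Etale B B' ∧ Function.Surjective φ ∧
        (RingHom.ker φ).FG := by
  have hunr : Algebra.IsUnramifiedAt B q := inferInstance
  obtain ⟨f, hf, P, φ, hφ⟩ := Algebra.IsUnramifiedAt.exists_hasStandardEtaleSurjectionOn (R := B) q
  have h1 : Algebra.FinitePresentation C (Localization.Away f) :=
    IsLocalization.Away.finitePresentation f
  have h2 : Algebra.FinitePresentation B (Localization.Away f) :=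
    Algebra.FinitePresentation.trans B C _
  have h3 : Algebra.Etale B P.Ring := inferInstance
  exact ⟨f, hf, P.Ring, inferInstance, inferInstance, φ, h3, hφ,
    Algebra.FinitePresentation.ker_fG_of_surjective φ hφ⟩

/-- Two ring homomorphisms from an unramified algebra which agree modulo a nilpotent ideal agree. -/
theorem ringHom_eq_of_unramified {B B' Q D : Type u} [CommRing B] [CommRing B'] [CommRing Q]
    [CommRing D] [Algebra B B'] [Algebra.FormallyUnramified B B'] (β β' : B' →+* Q) (π : Q →+* D)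
    (hπ : IsNilpotent (RingHom.ker π))
    (h0 : β.comp (algebraMap B B') = β'.comp (algebraMap B B'))
    (h1 : π.comp β = π.comp β') : β = β' := by
  let _ : Algebra B Q := (β.comp (algebraMap B B')).toAlgebra
  let b₁ : B' →ₐ[B] Q := { β with commutes' := fun _ => rfl }
  let b₂ : B' →ₐ[B] Q := { β' with commutes' := fun x => (RingHom.congr_fun h0 x).symm }
  have h2 : b₁ = b₂ := Algebra.FormallyUnramified.ext' π hπ b₁ b₂
    (fun x => RingHom.congr_fun h1 x)
  exact congrArg (fun g : B' →ₐ[B] Q => (g : B' →+* Q)) h2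

/-- A ring homomorphism killing the kernel of a surjection factors. -/
theorem exists_factor {B' C L : Type u} [CommRing B'] [CommRing C] [CommRing L] (φ : B' →+* C)
    (hφ : Function.Surjective φ) (β : B' →+* L) (h : ∀ x ∈ RingHom.ker φ, β x = 0) :
    ∃ σ : C →+* L, σ.comp φ = β :=
  ⟨RingHom.liftOfSurjective φ hφ ⟨β, fun x hx => h x hx⟩,
    RingHom.liftOfRightInverse_comp _ _ _ _⟩

end Unramified

end Groth.Agent.Sga3C.CWUnram
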