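import Groth.Agent.Sga3C.CWMain
import Groth.Agent.Sga3C.CWUnram
import Mathlib.AlgebraicGeometry.Morphisms.Etale
import Mathlib.AlgebraicGeometry.Morphisms.FormallyUnramified

/-!
Representability of the condition `X_T ⊆ Y` for a monomorphism locally of finite presentation
`Y ⟶ X`, `X` smooth over `S` with a section contained in `Y`, provided `X_T ⊆ Y` can be tested on
flat neighbourhoods of the section.
-/

namespace Groth.Agent.Sga3C.CWMono

open CategoryTheory AlgebraicGeometry TopologicalSpace Opposite Limits TensorProduct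
  Groth.Agent.Sga3C.CWGlue Groth.Agent.Sga3C.CWSch Groth.Agent.Sga3C.CWMain
  Groth.Agent.Sga3C.CWUnram Groth.Agent.Sga3C.CWSection

universe u

variable {S X Y : Scheme.{u}} (f : X ⟶ S) (j : Y ⟶ X) (e' : S ⟶ Y)

/-- A chart. -/
structure Chart where
  V0 : S.Opens
  hV0 : IsAffineOpen V0
  U : X.Opens
  hU : IsAffineOpen U
  le : U ≤ f ⁻¹ᵁ V0
  B' : CommRingCat.{u}
  C1 : CommRingCat.{u}
  b : Γ(X, U) ⟶ B'
  φ : B' ⟶ C1
  ι1 : Spec C1 ⟶ Y
  w : ι1 ≫ j = Spec.map (b ≫ φ) ≫ hU.fromSpec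
  open1 : IsOpenImmersion ι1
  etale : b.hom.Etale
  surj : Function.Surjective φ.hom
  fg : (RingHom.ker φ.hom).FG
  V : S.Opens
  hV : IsAffineOpen V
  leV : V ≤ V0
  δ : C1 ⟶ Γ(S, V)
  hδ : Spec.map δ ≫ ι1 = hV.fromSpec ≫ e'

theorem exists_chart [Mono j] [LocallyOfFinitePresentation j] (hs : (e' ≫ j) ≫ f = 𝟙 S)
    (s : S) : ∃ c : Chart f j e', s ∈ c.V := by
  have hfs : f (j (e' s)) = s := by
    rw [← Scheme.Hom.comp_apply, ← Scheme.Hom.comp_apply, ← Category.assoc, hs]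
    rfl
  obtain ⟨_, ⟨V0, hV0, rfl⟩, hsV0, -⟩ :=
    S.isBasis_affineOpens.exists_subset_of_mem_open
      (Set.mem_univ (f (j (e' s)))) isOpen_univ
  obtain ⟨_, ⟨U, hU, rfl⟩, hsU, hUV⟩ :=
    X.isBasis_affineOpens.exists_subset_of_mem_open (a := j (e' s))
      (u := ((f ⁻¹ᵁ V0 : X.Opens) : Set X)) hsV0 (f ⁻¹ᵁ V0).isOpen
  obtain ⟨_, ⟨Y0, hY0, rfl⟩, hsY, hYU⟩ :=
    Y.isBasis_affineOpens.exists_subset_of_mem_open (a := e' s)
      (u := ((j ⁻¹ᵁ U : Y.Opens) : Set Y)) hsU (j ⁻¹ᵁ U).isOpen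
  have hle : U ≤ f ⁻¹ᵁ V0 := hUV
  have hYU' : Y0 ≤ j ⁻¹ᵁ U := hYU
  let c0 : Γ(X, U) ⟶ Γ(Y, Y0) := j.appLE U Y0 hYU'
  let _ : Algebra Γ(X, U) Γ(Y, Y0) := c0.hom.toAlgebra
  have hfp : Algebra.FinitePresentation Γ(X, U) Γ(Y, Y0) :=
    j.finitePresentation_appLE hU hY0 hYU'
  have hunr : Algebra.FormallyUnramified Γ(X, U) Γ(Y, Y0) :=
    j.formallyUnramified_appLE hU hY0 hYU'
  let q := hY0.primeIdealOf ⟨e' s, hsY⟩
  have hq : q.asIdeal.IsPrime := q.isPrime
  obtain ⟨r, hr, B', _, _, φ, het, hφ, hfg⟩ :=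
    exists_etale_surjection (B := Γ(X, U)) (C := Γ(Y, Y0)) q.asIdeal
  let C1 : CommRingCat.{u} := CommRingCat.of (Localization.Away r)
  let l : Γ(Y, Y0) ⟶ C1 := CommRingCat.ofHom (algebraMap _ (Localization.Away r))
  let b : Γ(X, U) ⟶ CommRingCat.of B' := CommRingCat.ofHom (algebraMap Γ(X, U) B')
  let φ' : CommRingCat.of B' ⟶ C1 := CommRingCat.ofHom φ.toRingHom
  let ι1 : Spec C1 ⟶ Y := Spec.map l ≫ hY0.fromSpec
  have hl : IsOpenImmersion (Spec.map l) :=
    IsOpenImmersion.of_isLocalization (R := Γ(Y, Y0)) (S := Localization.Away r) r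
  have hι1 : IsOpenImmersion ι1 := inferInstance
  have hbφ : b ≫ φ' = c0 ≫ l := by
    ext x
    exact φ.commutes x
  have hw : ι1 ≫ j = Spec.map (b ≫ φ') ≫ hU.fromSpec := by
    rw [hbφ, Spec.map_comp, Category.assoc, Category.assoc, hU.SpecMap_appLE_fromSpec j hY0]
  have hmem : e' s ∈ ι1.opensRange := by
    have h1 : q ∈ Set.range (Spec.map l) := by
      change q ∈ Set.range (PrimeSpectrum.comap (algebraMap Γ(Y, Y0) (Localization.Away r)))
      rw [PrimeSpectrum.localization_away_comap_range (Localization.Away r) r]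
      exact hr
    obtain ⟨z, hz⟩ := h1
    refine ⟨z, ?_⟩
    change (Spec.map l ≫ hY0.fromSpec) z = e' s
    rw [Scheme.Hom.comp_apply, hz]
    exact hY0.fromSpec_primeIdealOf ⟨e' s, hsY⟩
  have hsV0' : s ∈ V0 := by
    rw [← hfs]
    exact hsV0
  obtain ⟨_, ⟨V, hV, rfl⟩, hsV, hVle⟩ :=
    S.isBasis_affineOpens.exists_subset_of_mem_open (a := s)
      (u := ((V0 ⊓ e' ⁻¹ᵁ ι1.opensRange : S.Opens) : Set S)) ⟨hsV0', hmem⟩
      (V0 ⊓ e' ⁻¹ᵁ ι1.opensRange).isOpen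
  have hVV0 : V ≤ V0 := fun x hx => (hVle hx).1
  let u : Spec Γ(S, V) ⟶ Spec C1 := IsOpenImmersion.lift ι1 (hV.fromSpec ≫ e') (by
    rintro _ ⟨z, rfl⟩
    have h1 : hV.fromSpec z ∈ V := by
      rw [← SetLike.mem_coe, ← hV.range_fromSpec]
      exact ⟨z, rfl⟩
    exact (hVle h1).2)
  exact ⟨{ V0 := V0, hV0 := hV0, U := U, hU := hU, le := hle, B' := CommRingCat.of B', C1 := C1,
            b := b, φ := φ', ι1 := ι1, w := hw, open1 := hι1,
            etale := (RingHom.etale_algebraMap).2 het,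
            surj := hφ,
            fg := hfg,
            V := V, hV := hV, leV := hVV0, δ := Spec.preimage u,
            hδ := by
              rw [Spec.map_preimage]
              exact IsOpenImmersion.lift_fac _ _ _ }, hsV⟩

theorem mem_pow_zero {Q : Type*} [CommRing Q] (I : Ideal Q) (x : Q) : x ∈ I ^ 0 := by
  rw [pow_zero, Ideal.one_eq_top]
  exact Submodule.mem_top

theorem isNilpotent_ker_lift {Q D : Type*} [CommRing Q] [CommRing D] (ε : Q →+* D) (n : ℕ)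
    (h : ∀ y ∈ RingHom.ker ε ^ n, ε y = 0) :
    IsNilpotent (RingHom.ker (Ideal.Quotient.lift (RingHom.ker ε ^ n) ε h)) := by
  refine ⟨n, ?_⟩
  have h1 : RingHom.ker (Ideal.Quotient.lift (RingHom.ker ε ^ n) ε h) =
      (RingHom.ker ε).map (Ideal.Quotient.mk (RingHom.ker ε ^ n)) := by
    apply le_antisymm
    · intro y hy
      obtain ⟨y, rfl⟩ := Ideal.Quotient.mk_surjective y
      exact Ideal.mem_map_of_mem _ hy
    · rw [Ideal.map_le_iff_le_comap]
      intro y hy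
      exact hy
  rw [h1, ← Ideal.map_pow, Ideal.map_quotient_self]
  rfl

theorem surjective_comap {Q D : Type*} [CommRing Q] [CommRing D] (π : Q →+* D)
    (hπs : Function.Surjective π) (hπ : IsNilpotent (RingHom.ker π)) :
    Function.Surjective (PrimeSpectrum.comap π) := by
  intro z
  have h2 : z ∈ Set.range (PrimeSpectrum.comap π) := by
    rw [range_comap_of_surjective _ _ hπs, PrimeSpectrum.mem_zeroLocus]
    intro y hy
    obtain ⟨n, hn⟩ := hπ
    have h3 : y ^ n ∈ (RingHom.ker π) ^ n := Ideal.pow_mem_pow hy n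
    rw [hn] at h3
    have h4 : y ^ n = 0 := h3
    exact z.isPrime.mem_of_pow_mem n (by rw [h4]; exact z.asIdeal.zero_mem)
  exact h2

namespace Chart

variable {f j e'} (c : Chart f j e')

/-- Restriction from `V0` to `V`. -/
noncomputable def res : Γ(S, c.V0) ⟶ Γ(S, c.V) := S.presheaf.map (homOfLE c.leV).op

/-- The structure map of `B'`. -/
noncomputable def b0 : Γ(S, c.V0) ⟶ c.B' := f.appLE c.V0 c.U c.le ≫ c.b

theorem map_res_fromSpec : Spec.map c.res ≫ c.hV0.fromSpec = c.hV.fromSpec :=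
  c.hV0.map_fromSpec c.hV _

theorem map_b0_fromSpec {Q : CommRingCat.{u}} (β : c.B' ⟶ Q) :
    Spec.map (c.b0 ≫ β) ≫ c.hV0.fromSpec = (Spec.map (c.b ≫ β) ≫ c.hU.fromSpec) ≫ f := by
  rw [Category.assoc, ← c.hV0.SpecMap_appLE_fromSpec f c.hU c.le, ← Spec.map_comp_assoc,
    ← Category.assoc]
  rfl

theorem b0_comp (hs : (e' ≫ j) ≫ f = 𝟙 S) : c.b0 ≫ c.φ ≫ c.δ = c.res := by
  apply Spec.map_injective
  rw [← cancel_mono c.hV0.fromSpec, map_b0_fromSpec, map_res_fromSpec, ← Category.assoc,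
    Spec.map_comp, Category.assoc (Spec.map c.δ), ← c.w, ← Category.assoc (Spec.map c.δ), c.hδ,
    Category.assoc, Category.assoc, ← Category.assoc e' j f, hs, Category.comp_id]

theorem eq_zero_of_cond [Mono j] {D Q : CommRingCat.{u}} (ψ : Γ(S, c.V) ⟶ D)
    (hg : Cond f j (Spec.map ψ ≫ c.hV.fromSpec)) (β : c.B' ⟶ Q) (d : D ⟶ Q) (π : Q ⟶ D)
    (h0 : c.b0 ≫ β = c.res ≫ ψ ≫ d) (hπs : Function.Surjective π.hom)
    (hπ : IsNilpotent (RingHom.ker π.hom)) (h1 : β ≫ π = c.φ ≫ c.δ ≫ ψ) (x : c.B')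
    (hx : x ∈ RingHom.ker c.φ.hom) : β.hom x = 0 := by
  have := c.open1
  obtain ⟨a, ha⟩ := hg
  have hcompat : (Spec.map (c.b ≫ β) ≫ c.hU.fromSpec) ≫ f =
      Spec.map d ≫ Spec.map ψ ≫ c.hV.fromSpec := by
    rw [← map_b0_fromSpec, h0, ← map_res_fromSpec]
    simp only [Spec.map_comp, Category.assoc]
  obtain ⟨u, huj⟩ : ∃ u : Spec Q ⟶ Y, u ≫ j = Spec.map (c.b ≫ β) ≫ c.hU.fromSpec :=
    ⟨pullback.lift _ _ hcompat ≫ a, by rw [Category.assoc, ha, pullback.lift_fst]⟩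
  have hπu : Spec.map π ≫ u = Spec.map (c.δ ≫ ψ) ≫ c.ι1 := by
    rw [← cancel_mono j, Category.assoc, Category.assoc, huj, c.w, ← Spec.map_comp_assoc,
      ← Spec.map_comp_assoc, Category.assoc, Category.assoc, h1]
  -- `Spec π` is surjective
  have hsurj : Function.Surjective (Spec.map π) := surjective_comap π.hom hπs hπ
  have hrange : Set.range u ⊆ Set.range c.ι1 := by
    rintro _ ⟨z, rfl⟩
    obtain ⟨z', rfl⟩ := hsurj z
    rw [← Scheme.Hom.comp_apply, hπu, Scheme.Hom.comp_apply]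
    exact ⟨_, rfl⟩
  let v : Spec Q ⟶ Spec c.C1 := IsOpenImmersion.lift c.ι1 u hrange
  have hv : v ≫ c.ι1 = u := IsOpenImmersion.lift_fac _ _ _
  let σ : c.C1 ⟶ Q := Spec.preimage v
  have hσv : Spec.map σ = v := Spec.map_preimage v
  have hσπ : σ ≫ π = c.δ ≫ ψ := by
    apply Spec.map_injective
    rw [← cancel_mono c.ι1, Spec.map_comp, Category.assoc, hσv, hv, hπu]
  have hbσ : c.b ≫ c.φ ≫ σ = c.b ≫ β := by
    apply Spec.map_injective
    rw [← cancel_mono c.hU.fromSpec, ← huj, ← hv, Category.assoc, c.w, ← hσv,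
      ← Spec.map_comp_assoc, Category.assoc]
  let _ : Algebra Γ(X, c.U) c.B' := c.b.hom.toAlgebra
  have het : Algebra.Etale Γ(X, c.U) c.B' := c.etale
  have h5 : β.hom = (c.φ ≫ σ).hom := by
    refine ringHom_eq_of_unramified (B := Γ(X, c.U)) (B' := c.B') β.hom (c.φ ≫ σ).hom π.hom hπ ?_ ?_
    · have := congrArg CommRingCat.Hom.hom hbσ
      exact this.symm
    · have h6 : β ≫ π = (c.φ ≫ σ) ≫ π := by
        rw [Category.assoc, hσπ, h1]
      exact congrArg CommRingCat.Hom.hom h6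
  rw [h5]
  change σ.hom (c.φ.hom x) = 0
  rw [RingHom.mem_ker] at hx
  rw [hx, map_zero]

theorem exists_etale {D Q : CommRingCat.{u}} (ψ : Γ(S, c.V) ⟶ D) (β : c.B' ⟶ Q) (d : D ⟶ Q)
    (hpo : IsPushout (c.res ≫ ψ) c.b0 d β) :
    ∃ w : Spec Q ⟶ pullback f (Spec.map ψ ≫ c.hV.fromSpec),
      w ≫ pullback.fst _ _ = Spec.map (c.b ≫ β) ≫ c.hU.fromSpec ∧
      w ≫ pullback.snd _ _ = Spec.map d ∧ Etale w := by
  let ρ : Spec c.B' ⟶ X := Spec.map c.b ≫ c.hU.fromSpec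
  have hρ1 : Etale (Spec.map c.b) := by
    rw [HasRingHomProperty.Spec_iff (P := @Etale)]
    exact c.etale
  have hρ : Etale ρ := inferInstance
  have h1 : IsPullback (Spec.map d) (Spec.map β) (Spec.map (c.res ≫ ψ)) (Spec.map c.b0) :=
    isPullback_SpecMap_of_isPushout _ _ _ _ hpo
  have h2 : IsPullback (Spec.map d) (Spec.map β) (Spec.map (c.res ≫ ψ) ≫ c.hV0.fromSpec)
      (Spec.map c.b0 ≫ c.hV0.fromSpec) :=
    ⟨⟨by rw [← Category.assoc, h1.w, Category.assoc]⟩,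
      ⟨PullbackCone.isLimitOfCompMono _ _ c.hV0.fromSpec _ h1.isLimit⟩⟩
  have e1 : Spec.map (c.res ≫ ψ) ≫ c.hV0.fromSpec = Spec.map ψ ≫ c.hV.fromSpec := by
    rw [Spec.map_comp, Category.assoc, map_res_fromSpec]
  have e2 : Spec.map c.b0 ≫ c.hV0.fromSpec = ρ ≫ f := by
    have := c.map_b0_fromSpec (𝟙 _)
    rw [Category.comp_id, Category.comp_id] at this
    exact this
  rw [e1, e2] at h2
  have hcompat : (Spec.map (c.b ≫ β) ≫ c.hU.fromSpec) ≫ f =
      Spec.map d ≫ Spec.map ψ ≫ c.hV.fromSpec := by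
    rw [h2.w, Spec.map_comp]
    simp only [ρ, Category.assoc]
  refine ⟨pullback.lift _ _ hcompat, pullback.lift_fst _ _ _, pullback.lift_snd _ _ _, ?_⟩
  have h3 : IsPullback (pullback.lift _ _ hcompat) (Spec.map β)
      (pullback.fst f (Spec.map ψ ≫ c.hV.fromSpec)) ρ := by
    refine IsPullback.of_right (h₁₂ := pullback.snd _ _) (v₁₃ := Spec.map ψ ≫ c.hV.fromSpec)
      (h₂₂ := f) ?_ ?_ (IsPullback.of_hasPullback f _).flip
    · rw [pullback.lift_snd]
      exact h2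
    · rw [pullback.lift_fst, Spec.map_comp, Category.assoc]
  exact MorphismProperty.of_isPullback h3.flip hρ

theorem exists_repAt [Smooth f] [Mono j] (hs : (e' ≫ j) ≫ f = 𝟙 S)
    (hgrp : ∀ (T : Scheme.{u}) (g : T ⟶ S) (W : Scheme.{u}) (w : W ⟶ pullback f g),
      Flat w → LocallyOfFinitePresentation w → (∀ t : T, ∃ z, (w ≫ pullback.snd f g) z = t) →
      ∀ (c : W ⟶ Y), c ≫ j = w ≫ pullback.fst f g → Cond f j g) :
    ∃ K : Ideal Γ(S, c.V), K.FG ∧ RepAt (Cond f j) c.V c.hV K := by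
  let _ : Algebra Γ(S, c.V0) Γ(S, c.V) := c.res.hom.toAlgebra
  let _ : Algebra Γ(S, c.V0) c.B' := c.b0.hom.toAlgebra
  have hsm0 : c.b0.hom.Smooth := by
    have h1 : (f.appLE c.V0 c.U c.le).hom.Smooth := f.smooth_appLE c.hV0 c.hU c.le
    have h2 : c.b.hom.Smooth := by
      have := c.etale
      algebraize [c.b.hom]
      exact (inferInstance : Algebra.Smooth Γ(X, c.U) c.B')
    exact RingHom.Smooth.comp h1 h2
  have hsm : Algebra.Smooth Γ(S, c.V0) c.B' := hsm0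
  let E := Γ(S, c.V) ⊗[Γ(S, c.V0)] c.B'
  let δ' : c.B' →ₐ[Γ(S, c.V0)] Γ(S, c.V) :=
    { (c.φ ≫ c.δ).hom with
      commutes' := fun r => congrArg (fun h => h.hom r) (c.b0_comp hs) }
  let ε : E →ₐ[Γ(S, c.V)] Γ(S, c.V) :=
    Algebra.TensorProduct.lift (AlgHom.id _ _) δ' (fun _ _ => Commute.all _ _)
  let i1 : c.B' →+* E := (Algebra.TensorProduct.includeRight : c.B' →ₐ[Γ(S, c.V0)] E)
  obtain ⟨K, hKfg, hK⟩ := exists_locus ε ((RingHom.ker c.φ.hom).map i1) (c.fg.map i1)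
  refine ⟨K, hKfg, ?_⟩
  intro D ψ
  let _ : Algebra Γ(S, c.V) D := ψ.hom.toAlgebra
  obtain ⟨hK1, hK2⟩ := hK D
  let Q := D ⊗[Γ(S, c.V)] E
  let I' : Ideal Q := RingHom.ker (bcSection ε D)
  let r1 : E →+* Q := (Algebra.TensorProduct.includeRight : E →ₐ[Γ(S, c.V)] Q)
  let dQ : D ⟶ CommRingCat.of Q :=
    CommRingCat.ofHom (Algebra.TensorProduct.includeLeftRingHom : D →+* Q)
  let βQ : c.B' ⟶ CommRingCat.of Q := CommRingCat.ofHom (r1.comp i1)
  have hpo1 : IsPushout c.res c.b0 (CommRingCat.ofHom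
      (Algebra.TensorProduct.includeLeftRingHom : Γ(S, c.V) →+* E)) (CommRingCat.ofHom i1) :=
    CommRingCat.isPushout_tensorProduct Γ(S, c.V0) Γ(S, c.V) c.B'
  have hpo2 : IsPushout ψ (CommRingCat.ofHom
      (Algebra.TensorProduct.includeLeftRingHom : Γ(S, c.V) →+* E)) dQ (CommRingCat.ofHom r1) :=
    CommRingCat.isPushout_tensorProduct Γ(S, c.V) D E
  have hpo : IsPushout (c.res ≫ ψ) c.b0 dQ βQ := hpo1.paste_horiz hpo2
  have hβε : ∀ x : c.B', bcSection ε D (βQ.hom x) = ψ.hom (c.δ.hom (c.φ.hom x)) := by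
    intro x
    have h1 : βQ.hom x = (1 : D) ⊗ₜ[Γ(S, c.V)] ((1 : Γ(S, c.V)) ⊗ₜ[Γ(S, c.V0)] x) := rfl
    rw [h1, bcSection_tmul, one_mul]
    have h2 : ε ((1 : Γ(S, c.V)) ⊗ₜ[Γ(S, c.V0)] x) = c.δ.hom (c.φ.hom x) := by
      rw [Algebra.TensorProduct.lift_tmul, map_one, one_mul]
      rfl
    rw [h2]
    rfl
  have hdε : ∀ y : D, bcSection ε D (dQ.hom y) = y := by
    intro y
    have h1 : dQ.hom y = algebraMap D Q y := rfl
    rw [h1, AlgHom.commutes]
    rfl
  constructor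
  · intro hg
    refine hK2.2 ?_
    intro n
    -- it suffices to treat the generators
    have hmain : ∀ x ∈ RingHom.ker c.φ.hom, r1 (i1 x) ∈ I' ^ n := by
      intro x hx
      rcases Nat.eq_zero_or_pos n with rfl | hn
      · exact mem_pow_zero _ _
      · let mk : CommRingCat.of Q ⟶ CommRingCat.of (Q ⧸ I' ^ n) :=
          CommRingCat.ofHom (Ideal.Quotient.mk (I' ^ n))
        let π : CommRingCat.of (Q ⧸ I' ^ n) ⟶ D :=
          CommRingCat.ofHom (Ideal.Quotient.lift (I' ^ n) (bcSection ε D : Q →+* D)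
            (fun y hy => Ideal.pow_le_self hn.ne' hy))
        have h0 : c.b0 ≫ βQ ≫ mk = c.res ≫ ψ ≫ dQ ≫ mk := by
          have := hpo.w
          rw [← Category.assoc c.b0, ← this]
          simp only [Category.assoc]
        have hπs : Function.Surjective π.hom := by
          intro y
          refine ⟨(dQ ≫ mk).hom y, ?_⟩
          exact hdε y
        have hπn : IsNilpotent (RingHom.ker π.hom) :=
          isNilpotent_ker_lift (bcSection ε D : Q →+* D) n _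
        have h1 : (βQ ≫ mk) ≫ π = c.φ ≫ c.δ ≫ ψ := by
          ext y
          exact hβε y
        have h2 := c.eq_zero_of_cond ψ hg (βQ ≫ mk) (dQ ≫ mk) π h0 hπs hπn h1 x hx
        exact Ideal.Quotient.eq_zero_iff_mem.1 h2
    have hle : (RingHom.ker c.φ.hom).map i1 ≤ (I' ^ n).comap r1 := by
      rw [Ideal.map_le_iff_le_comap]
      exact hmain
    exact fun x hx => hle hx
  · intro hKD
    obtain ⟨a, ha, hax⟩ := hK1.1 hKD
    let L := Localization.Away (1 - a)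
    let lQ : CommRingCat.of Q ⟶ CommRingCat.of L := CommRingCat.ofHom (algebraMap Q L)
    have hker : ∀ x ∈ RingHom.ker c.φ.hom, (βQ ≫ lQ).hom x = 0 := by
      intro x hx
      have h1 := hax (i1 x) (Ideal.mem_map_of_mem i1 hx)
      have h2 : algebraMap Q L ((1 - a) * r1 (i1 x)) = 0 := by
        have h3 : (1 - a) * r1 (i1 x) = 0 := h1
        rw [h3, map_zero]
      rw [map_mul] at h2
      exact ((IsLocalization.Away.algebraMap_isUnit (S := L) (1 - a)).mul_right_eq_zero).1 h2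
    obtain ⟨σ, hσ⟩ := exists_factor c.φ.hom c.surj (βQ ≫ lQ).hom hker
    obtain ⟨wQ, hw1, hw2, hw3⟩ := c.exists_etale ψ βQ dQ hpo
    have hlQ : IsOpenImmersion (Spec.map lQ) :=
      IsOpenImmersion.of_isLocalization (R := Q) (S := L) (1 - a)
    let w : Spec (CommRingCat.of L) ⟶ pullback f (Spec.map ψ ≫ c.hV.fromSpec) := Spec.map lQ ≫ wQ
    have hwet : Etale w := inferInstance
    let σ' : c.C1 ⟶ CommRingCat.of L := CommRingCat.ofHom σ
    have hσ' : c.φ ≫ σ' = βQ ≫ lQ := by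
      ext x
      exact RingHom.congr_fun hσ x
    refine hgrp _ _ (Spec (CommRingCat.of L)) w inferInstance inferInstance ?_
      (Spec.map σ' ≫ c.ι1) ?_
    · intro t
      let εL : L →+* D := IsLocalization.Away.lift (S := L) (1 - a) (g := (bcSection ε D : Q →+* D))
        (by
          have h1 : bcSection ε D a = 0 := ha
          have h2 : (bcSection ε D : Q →+* D) (1 - a) = 1 := by
            change bcSection ε D (1 - a) = 1
            rw [map_sub, map_one, h1, sub_zero]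
          rw [h2]
          exact isUnit_one)
      let εL' : CommRingCat.of L ⟶ D := CommRingCat.ofHom εL
      have h1 : (dQ ≫ lQ) ≫ εL' = 𝟙 D := by
        ext y
        have h2 : εL (algebraMap Q L (dQ.hom y)) = bcSection ε D (dQ.hom y) :=
          IsLocalization.Away.lift_eq (S := L) (1 - a) _ _
        exact h2.trans (hdε y)
      have h3 : w ≫ pullback.snd f (Spec.map ψ ≫ c.hV.fromSpec) = Spec.map (dQ ≫ lQ) := by
        rw [Category.assoc, hw2, ← Spec.map_comp]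
      refine ⟨Spec.map εL' t, ?_⟩
      rw [h3, ← Scheme.Hom.comp_apply, ← Spec.map_comp, h1, Spec.map_id]
      rfl
    · rw [Category.assoc, c.w, ← Spec.map_comp_assoc, Category.assoc, hσ', Category.assoc, hw1,
        ← Spec.map_comp_assoc, Category.assoc]

end Chart

/-- Representability of the condition. -/
theorem exists_closed_representing [Smooth f] [Mono j] [LocallyOfFinitePresentation j]
    (hs : (e' ≫ j) ≫ f = 𝟙 S)
    (hgrp : ∀ (T : Scheme.{u}) (g : T ⟶ S) (W : Scheme.{u}) (w : W ⟶ pullback f g),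
      Flat w → LocallyOfFinitePresentation w → (∀ t : T, ∃ z, (w ≫ pullback.snd f g) z = t) →
      ∀ (c : W ⟶ Y), c ≫ j = w ≫ pullback.fst f g → Cond f j g) :
    ∃ (N : Scheme.{u}) (n : N ⟶ S), IsClosedImmersion n ∧ LocallyOfFinitePresentation n ∧
      ∀ (T : Scheme.{u}) (g : T ⟶ S), (∃ z : T ⟶ N, z ≫ n = g) ↔ Cond f j g := by
  have hpre : ∀ {T' T : Scheme.{u}} (h : T' ⟶ T) (g : T ⟶ S), Cond f j g → Cond f j (h ≫ g) :=
    fun h g => cond_pre f j h g
  have hrep' : ∀ s : S, ∃ (V : S.Opens) (hV : IsAffineOpen V) (K : Ideal Γ(S, V)),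
      s ∈ V ∧ K.FG ∧ RepAt (Cond f j) V hV K := by
    intro s
    obtain ⟨c, hsc⟩ := exists_chart f j e' hs s
    obtain ⟨K, hKfg, hK⟩ := c.exists_repAt hs hgrp
    exact ⟨c.V, c.hV, K, hsc, hKfg, hK⟩
  have hrep : ∀ s : S, ∃ (V : S.Opens) (hV : IsAffineOpen V) (K : Ideal Γ(S, V)),
      s ∈ V ∧ RepAt (Cond f j) V hV K := by
    intro s
    obtain ⟨V, hV, K, hs, -, h⟩ := hrep' s
    exact ⟨V, hV, K, hs, h⟩
  refine ⟨(glued (Cond f j) hpre hrep).subscheme, (glued (Cond f j) hpre hrep).subschemeι,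
    inferInstance, ?_, ?_⟩
  · apply locallyOfFinitePresentation_subschemeι
    intro s
    obtain ⟨V, hV, K, hs, hfg, h⟩ := hrep' s
    refine ⟨⟨V, hV⟩, hs, ?_⟩
    rw [glued_ideal (Cond f j) hpre hrep V hV K h]
    exact hfg
  · intro T g
    exact exists_lift_iff (Cond f j) hpre hrep (fun g 𝒰 h => cond_loc f j g 𝒰 h) g

end Groth.Agent.Sga3C.CWMono
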