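import Groth.Agent.Sga3C.CWFam

/-!
Normalizers and centralizers of smooth subgroups with geometrically irreducible fibres.
-/

set_option autoImplicit false

namespace Groth.Agent.Sga3C.CWNorm

open CategoryTheory MonoidalCategory CartesianMonoidalCategory MonObj GrpObj AlgebraicGeometry

universe u

theorem exists_normalizer_centralizer {S : Scheme.{u}} {G H : Over S} [GrpObj G] [GrpObj H]
    [LocallyOfFiniteType G.hom] [Smooth H.hom] [GeometricallyIrreducible H.hom] (i : H ⟶ G)
    [IsMonHom i] [Mono i] :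
    (∃ (N : Over S) (n : N ⟶ G), IsClosedImmersion n.left ∧ LocallyOfFinitePresentation n.left ∧
      ∀ (T : Over S) (g : T ⟶ G), (∃ z : T ⟶ N, z ≫ n = g) ↔
        ∀ (T' : Over S) (t : T' ⟶ T) (h : T' ⟶ H),
          (∃ h' : T' ⟶ H, (t ≫ g) * (h ≫ i) * (t ≫ g)⁻¹ = h' ≫ i) ∧
          (∃ h' : T' ⟶ H, (t ≫ g)⁻¹ * (h ≫ i) * (t ≫ g) = h' ≫ i)) ∧
    (∃ (Z : Over S) (z : Z ⟶ G), IsClosedImmersion z.left ∧ LocallyOfFinitePresentation z.left ∧
      ∀ (T : Over S) (g : T ⟶ G), (∃ w : T ⟶ Z, w ≫ z = g) ↔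
        ∀ (T' : Over S) (t : T' ⟶ T) (h : T' ⟶ H), (t ≫ g) * (h ≫ i) = (h ≫ i) * (t ≫ g)) := by
  let c1 : G ⊗ H ⟶ G := fst G H * (snd G H ≫ i) * (fst G H)⁻¹
  let c2 : G ⊗ H ⟶ G := (fst G H)⁻¹ * (snd G H ≫ i) * fst G H
  have hc1 : ∀ {U : Over S} (t : U ⟶ G) (a : U ⟶ H), lift t a ≫ c1 = t * (a ≫ i) * t⁻¹ := by
    intro U t a
    simp only [c1, comp_mul, GrpObj.comp_inv, lift_fst, lift_snd_assoc]
  have hc2 : ∀ {U : Over S} (t : U ⟶ G) (a : U ⟶ H), lift t a ≫ c2 = t⁻¹ * (a ≫ i) * t := by
    intro U t a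
    simp only [c2, comp_mul, GrpObj.comp_inv, lift_fst, lift_snd_assoc]
  have hw1 : ∀ {T : Over S} (g : T ⟶ G), (g ▷ H) ≫ c1 =
      (fst T H ≫ g) * (snd T H ≫ i) * (fst T H ≫ g)⁻¹ := by
    intro T g
    simp only [c1, comp_mul, GrpObj.comp_inv, whiskerRight_fst, whiskerRight_snd_assoc]
  have hw2 : ∀ {T : Over S} (g : T ⟶ G), (g ▷ H) ≫ c2 =
      (fst T H ≫ g)⁻¹ * (snd T H ≫ i) * (fst T H ≫ g) := by
    intro T g
    simp only [c2, comp_mul, GrpObj.comp_inv, whiskerRight_fst, whiskerRight_snd_assoc]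
  have hm1 : ∀ {U : Over S} (t : U ⟶ G) (a b : U ⟶ H),
      lift t (a * b) ≫ c1 = (lift t a ≫ c1) * (lift t b ≫ c1) := by
    intro U t a b
    rw [hc1, hc1, hc1, mul_comp]
    group
  have hm2 : ∀ {U : Over S} (t : U ⟶ G) (a b : U ⟶ H),
      lift t (a * b) ≫ c2 = (lift t a ≫ c2) * (lift t b ≫ c2) := by
    intro U t a b
    rw [hc2, hc2, hc2, mul_comp]
    group
  have hHlfp : LocallyOfFinitePresentation H.hom := inferInstance
  constructor
  · have hmono : Mono (i ⊗ₘ i) := by
      constructor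
      intro U a b hab
      have h1 := congrArg (· ≫ fst G G) hab
      have h2 := congrArg (· ≫ snd G G) hab
      simp only [Category.assoc, tensorHom_fst, tensorHom_snd] at h1 h2
      ext1
      · rwa [← cancel_mono i, Category.assoc, Category.assoc]
      · rwa [← cancel_mono i, Category.assoc, Category.assoc]
    have hlfp : LocallyOfFinitePresentation (H ⊗ H).hom := by
      rw [Over.tensorObj_hom]
      infer_instance
    have hlft : LocallyOfFiniteType (G ⊗ G).hom := by
      rw [Over.tensorObj_hom]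
      infer_instance
    have hmul : Groth.Agent.Sga3C.CWFam.IsMul (lift c1 c2) := by
      intro U t a b
      ext1
      · rw [mul_comp]
        simp only [Category.assoc, lift_fst]
        exact hm1 t a b
      · rw [mul_comp]
        simp only [Category.assoc, lift_snd]
        exact hm2 t a b
    obtain ⟨N, n, hn1, hn2, hn⟩ :=
      Groth.Agent.Sga3C.CWFam.exists_closed (i ⊗ₘ i) (lift c1 c2) hmul
    refine ⟨N, n, hn1, hn2, ?_⟩
    intro T g
    rw [hn]
    constructor
    · rintro ⟨a, ha⟩ T' t h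
      have ha1 : a ≫ fst H H ≫ i = (g ▷ H) ≫ c1 := by
        have := congrArg (· ≫ fst G G) ha
        simpa only [Category.assoc, tensorHom_fst, lift_fst] using this
      have ha2 : a ≫ snd H H ≫ i = (g ▷ H) ≫ c2 := by
        have := congrArg (· ≫ snd G G) ha
        simpa only [Category.assoc, tensorHom_snd, lift_snd] using this
      refine ⟨⟨lift t h ≫ a ≫ fst H H, ?_⟩, ⟨lift t h ≫ a ≫ snd H H, ?_⟩⟩
      · rw [Category.assoc, Category.assoc, ha1, lift_whiskerRight_assoc, hc1]
      · rw [Category.assoc, Category.assoc, ha2, lift_whiskerRight_assoc, hc2]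
    · intro h
      obtain ⟨⟨h1, hh1⟩, ⟨h2, hh2⟩⟩ := h (T ⊗ H) (fst T H) (snd T H)
      refine ⟨lift h1 h2, ?_⟩
      ext1
      · simp only [Category.assoc, tensorHom_fst, lift_fst, lift_fst_assoc]
        rw [← hh1, hw1]
      · simp only [Category.assoc, tensorHom_snd, lift_snd, lift_snd_assoc]
        rw [← hh2, hw2]
  · have hmono : Mono (lift i (𝟙 H)) := by
      constructor
      intro U a b hab
      have h2 := congrArg (· ≫ snd G H) hab
      simpa only [Category.assoc, lift_snd, Category.comp_id] using h2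
    have hlft : LocallyOfFiniteType (G ⊗ H).hom := by
      rw [Over.tensorObj_hom]
      infer_instance
    have hmul : Groth.Agent.Sga3C.CWFam.IsMul (lift c1 (snd G H)) := by
      intro U t a b
      ext1
      · rw [mul_comp]
        simp only [Category.assoc, lift_fst]
        exact hm1 t a b
      · rw [mul_comp]
        simp only [Category.assoc, lift_snd]
    obtain ⟨Z, z, hz1, hz2, hz⟩ :=
      Groth.Agent.Sga3C.CWFam.exists_closed (lift i (𝟙 H)) (lift c1 (snd G H)) hmul
    refine ⟨Z, z, hz1, hz2, ?_⟩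
    intro T g
    rw [hz]
    constructor
    · rintro ⟨a, ha⟩ T' t h
      have ha1 : a ≫ i = (g ▷ H) ≫ c1 := by
        have := congrArg (· ≫ fst G H) ha
        simpa only [Category.assoc, lift_fst] using this
      have ha2 : a = snd T H := by
        have := congrArg (· ≫ snd G H) ha
        simpa only [Category.assoc, lift_snd, Category.comp_id, whiskerRight_snd] using this
      have h3 := congrArg (lift t h ≫ ·) ha1
      simp only [ha2, lift_snd_assoc, lift_whiskerRight_assoc, hc1] at h3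
      exact (eq_mul_inv_iff_mul_eq.1 h3).symm
    · intro h
      have h1 := h (T ⊗ H) (fst T H) (snd T H)
      refine ⟨snd T H, ?_⟩
      ext1
      · simp only [Category.assoc, lift_fst]
        rw [hw1, h1]
        group
      · simp only [Category.assoc, lift_snd, Category.comp_id, whiskerRight_snd]

end Groth.Agent.Sga3C.CWNorm
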