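import Groth.Agent.Sga3C.CWLocus
import Groth.Agent.Flat2B.SmoothGeom
import Mathlib.AlgebraicGeometry.Morphisms.Smooth
import Mathlib.AlgebraicGeometry.Geometrically.Integral
import Mathlib.CategoryTheory.Limits.Shapes.Pullback.Mono

/-!
Scheme level density for smooth morphisms with geometrically irreducible fibres.
-/

namespace Groth.Agent.Sga3C.CWSch

open CategoryTheory AlgebraicGeometry TopologicalSpace Opposite Limits TensorProduct

universe u

variable {X T : Scheme.{u}} (f : X ⟶ T) {V : T.Opens} (hV : IsAffineOpen V) {W : X.Opens}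
  (hW : IsAffineOpen W) (e : W ≤ f ⁻¹ᵁ V)

section Pushout

variable {C D : CommRingCat.{u}} (ψ : Γ(T, V) ⟶ C) (inl : C ⟶ D) (inr : Γ(X, W) ⟶ D)
  (h : IsPushout ψ (f.appLE V W e) inl inr)

/-- The canonical open immersion from `Spec` of the pushout to the fibre product. -/
noncomputable def toPullback : Spec D ⟶ pullback f (Spec.map ψ ≫ hV.fromSpec) :=
  pullback.lift (Spec.map inr ≫ hW.fromSpec) (Spec.map inl) (by
    rw [Category.assoc, ← hV.SpecMap_appLE_fromSpec f hW e, ← Spec.map_comp_assoc,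
      ← Spec.map_comp_assoc, h.w])

@[reassoc (attr := simp)]
theorem toPullback_fst : toPullback f hV hW e ψ inl inr h ≫ pullback.fst _ _ =
    Spec.map inr ≫ hW.fromSpec := pullback.lift_fst _ _ _

@[reassoc (attr := simp)]
theorem toPullback_snd : toPullback f hV hW e ψ inl inr h ≫ pullback.snd _ _ =
    Spec.map inl := pullback.lift_snd _ _ _

theorem isPullback_toPullback :
    IsPullback (toPullback f hV hW e ψ inl inr h) (Spec.map inr) (pullback.fst _ _)
      hW.fromSpec := by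
  have h1 : IsPullback (Spec.map inl) (Spec.map inr) (Spec.map ψ) (Spec.map (f.appLE V W e)) :=
    isPullback_SpecMap_of_isPushout _ _ _ _ h
  have h2 : IsPullback (Spec.map inl) (Spec.map inr) (Spec.map ψ ≫ hV.fromSpec)
      (Spec.map (f.appLE V W e) ≫ hV.fromSpec) :=
    ⟨⟨by rw [← Category.assoc, h1.w, Category.assoc]⟩,
      ⟨PullbackCone.isLimitOfCompMono _ _ hV.fromSpec _ h1.isLimit⟩⟩
  rw [hV.SpecMap_appLE_fromSpec f hW e] at h2
  refine IsPullback.of_right (h₁₂ := pullback.snd _ _) (v₁₃ := Spec.map ψ ≫ hV.fromSpec)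
    (h₂₂ := f) ?_ (toPullback_fst _ _ _ _ _ _ _ _) (IsPullback.of_hasPullback f _).flip
  rw [toPullback_snd]
  exact h2

instance : IsOpenImmersion (toPullback f hV hW e ψ inl inr h) :=
  MorphismProperty.of_isPullback (P := @IsOpenImmersion) (isPullback_toPullback f hV hW e ψ inl inr h).flip
    inferInstance

end Pushout

include hV hW in
/-- The tensor products with fields of an affine piece of a geometrically integral scheme are
domains or zero. -/
theorem isDomain_of_isPushout [GeometricallyIntegral f] {K : Type u} [Field K]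
    (ψ : Γ(T, V) ⟶ CommRingCat.of K) {D : CommRingCat.{u}} (inl : CommRingCat.of K ⟶ D)
    (inr : Γ(X, W) ⟶ D) (h : IsPushout ψ (f.appLE V W e) inl inr) [Nontrivial D] : IsDomain D := by
  have h1 : IsIntegral (pullback f (Spec.map ψ ≫ hV.fromSpec)) :=
    GeometricallyIntegral.geometrically_isIntegral (f := f) (Spec.map ψ ≫ hV.fromSpec) _ _
      (IsPullback.of_hasPullback _ _)
  have h2 : IsIntegral (Spec D) :=
    isIntegral_of_isOpenImmersion (toPullback f hV hW e ψ inl inr h)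
  exact (affine_isIntegral_iff D).1 h2

include hV hW in
theorem isDomain_tensor [GeometricallyIntegral f] [Algebra Γ(T, V) Γ(X, W)]
    (halg : algebraMap Γ(T, V) Γ(X, W) = (f.appLE V W e).hom) (K : Type u) [Field K]
    [Algebra Γ(T, V) K] [Nontrivial (K ⊗[Γ(T, V)] Γ(X, W))] : IsDomain (K ⊗[Γ(T, V)] Γ(X, W)) := by
  have h := CommRingCat.isPushout_tensorProduct Γ(T, V) K Γ(X, W)
  have h0 : CommRingCat.ofHom (algebraMap Γ(T, V) Γ(X, W)) = f.appLE V W e := by
    ext x
    rw [CommRingCat.hom_ofHom, halg]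
  rw [h0] at h
  have hnt : Nontrivial (CommRingCat.of (K ⊗[Γ(T, V)] Γ(X, W))) := ‹_›
  exact isDomain_of_isPushout f hV hW e _ _ _ h

/-- Density of an open subset meeting all the fibres of a smooth morphism with geometrically
irreducible fibres. -/
theorem eq_zero_of_restrict_eq_zero [Smooth f] [GeometricallyIrreducible f] (O : X.Opens)
    (hO : ∀ t : T, ∃ x ∈ O, f x = t) (W₀ : X.Opens) (b : Γ(X, W₀))
    (hb : X.presheaf.map (homOfLE (inf_le_left : W₀ ⊓ O ≤ W₀)).op b = 0) : b = 0 := by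
  have hint : GeometricallyIntegral f := Groth.Agent.Flat2B.SmoothGeom.geometricallyIntegral_of_smooth f
  refine X.IsSheaf.section_ext fun x hx => ?_
  obtain ⟨_, ⟨V, hV, rfl⟩, hxV, -⟩ :=
    T.isBasis_affineOpens.exists_subset_of_mem_open (Set.mem_univ (f x)) isOpen_univ
  obtain ⟨_, ⟨W, hW, rfl⟩, hxW, hWle⟩ :=
    X.isBasis_affineOpens.exists_subset_of_mem_open (a := x)
      (u := ((W₀ ⊓ f ⁻¹ᵁ V : X.Opens) : Set X)) ⟨hx, hxV⟩ (W₀ ⊓ f ⁻¹ᵁ V).isOpen
  have hWW₀ : W ≤ W₀ := fun y hy => (hWle hy).1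
  have hWV : W ≤ f ⁻¹ᵁ V := fun y hy => (hWle hy).2
  let _ : Algebra Γ(T, V) Γ(X, W) := (f.appLE V W hWV).hom.toAlgebra
  have hsm : Algebra.Smooth Γ(T, V) Γ(X, W) := f.smooth_appLE hV hW hWV
  let b' : Γ(X, W) := X.presheaf.map (homOfLE hWW₀).op b
  -- a point of `O ⊓ W` in the fibre of `x`
  obtain ⟨z, hzt, hzW, hzO⟩ : ∃ z, z ∈ f ⁻¹' {f x} ∧ z ∈ W ∧ z ∈ O := by
    have hirr : IsPreirreducible (f ⁻¹' {f x}) := by
      rw [← f.range_fiberι, ← Set.image_univ]
      exact ((IrreducibleSpace.isIrreducible_univ _).image _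
        (f.fiberι _).continuous.continuousOn).isPreirreducible
    obtain ⟨y, hyO, hy⟩ := hO (f x)
    obtain ⟨z, hz, hzW, hzO⟩ := hirr W O W.isOpen O.isOpen ⟨x, rfl, hxW⟩ ⟨y, hy, hyO⟩
    exact ⟨z, hz, hzW, hzO⟩
  have hzt' : f z = f x := hzt
  obtain ⟨g, hgle, hzg⟩ := hW.exists_basicOpen_le (V := W ⊓ O) ⟨z, ⟨hzW, hzO⟩⟩ hzW
  -- b' vanishes on D(g)
  have hbg : algebraMap Γ(X, W) Γ(X, X.basicOpen g) b' = 0 := by
    have h1 : algebraMap Γ(X, W) Γ(X, X.basicOpen g) b' =
        X.presheaf.map (homOfLE (le_inf ((X.basicOpen_le g).trans hWW₀)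
          (hgle.trans inf_le_right) : X.basicOpen g ≤ W₀ ⊓ O)).op
          (X.presheaf.map (homOfLE (inf_le_left : W₀ ⊓ O ≤ W₀)).op b) := by
      change X.presheaf.map (homOfLE (X.basicOpen_le g)).op b' = _
      rw [← ConcreteCategory.comp_apply, ← Functor.map_comp, ← ConcreteCategory.comp_apply,
        ← Functor.map_comp]
      rfl
    rw [h1, hb, map_zero]
  have hlocg := hW.isLocalization_basicOpen g
  obtain ⟨⟨_, N, rfl⟩, hN⟩ := (IsLocalization.map_eq_zero_iff (Submonoid.powers g)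
    Γ(X, X.basicOpen g) b').1 hbg
  dsimp only at hN
  -- the primes
  let q : Ideal Γ(X, W) := (hW.primeIdealOf ⟨x, hxW⟩).asIdeal
  let p : Ideal Γ(T, V) := (hV.primeIdealOf ⟨f x, hxV⟩).asIdeal
  have hq : q.IsPrime := (hW.primeIdealOf ⟨x, hxW⟩).isPrime
  have hp : p.IsPrime := (hV.primeIdealOf ⟨f x, hxV⟩).isPrime
  have hqp : q.comap (algebraMap Γ(T, V) Γ(X, W)) = p :=
    congrArg PrimeSpectrum.asIdeal
      (IsAffineOpen.comap_primeIdealOf_appLE V hV W hW hWV hxW)
  let qz : Ideal Γ(X, W) := (hW.primeIdealOf ⟨z, hzW⟩).asIdeal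
  have hqz : qz.IsPrime := (hW.primeIdealOf ⟨z, hzW⟩).isPrime
  have hqzp : qz.comap (algebraMap Γ(T, V) Γ(X, W)) = p := by
    have h1 := IsAffineOpen.comap_primeIdealOf_appLE V hV W hW hWV hzW
    have h2 : hV.primeIdealOf ⟨f z, hWV hzW⟩ = hV.primeIdealOf ⟨f x, hxV⟩ := by
      congr 1
      exact Subtype.ext hzt'
    rw [h2] at h1
    exact congrArg PrimeSpectrum.asIdeal h1
  have hgqz : g ∉ qz := by
    have := hzg
    rw [← hW.fromSpec_primeIdealOf ⟨z, hzW⟩] at this
    have h3 : hW.primeIdealOf ⟨z, hzW⟩ ∈ hW.fromSpec ⁻¹ᵁ X.basicOpen g := this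
    rw [hW.fromSpec_preimage_basicOpen] at h3
    exact h3
  have hgNqz : g ^ N ∉ qz := fun hmem => hgqz (hqz.mem_of_pow_mem N hmem)
  -- the element `g ^ N` is nonzero in the fibre
  have hne : (1 : p.ResidueField) ⊗ₜ[Γ(T, V)] (g ^ N) ≠ 0 := by
    intro h0
    have hmap : ∀ a ∈ p, algebraMap Γ(X, W) qz.ResidueField (algebraMap Γ(T, V) Γ(X, W) a) = 0 := by
      intro a ha
      rw [Ideal.algebraMap_residueField_eq_zero]
      rw [← hqzp] at ha
      exact ha
    let ι : p.ResidueField →+* qz.ResidueField :=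
      Ideal.ResidueField.map p qz (algebraMap Γ(T, V) Γ(X, W)) hqzp.symm
    have hι : ∀ a : Γ(T, V), ι (algebraMap Γ(T, V) p.ResidueField a) =
        algebraMap Γ(X, W) qz.ResidueField (algebraMap Γ(T, V) Γ(X, W) a) := by
      intro a
      simp [ι]
    let _ : Algebra p.ResidueField qz.ResidueField := ι.toAlgebra
    let θ₂ : Γ(X, W) →ₐ[Γ(T, V)] qz.ResidueField := Algebra.ofId _ _ |>.restrictScalars Γ(T, V)
    let θ₁ : p.ResidueField →ₐ[Γ(T, V)] qz.ResidueField :=
      { ι with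
        commutes' := fun a => by
          change ι (algebraMap Γ(T, V) p.ResidueField a) = _
          rw [hι, ← IsScalarTower.algebraMap_apply] }
    let θ : p.ResidueField ⊗[Γ(T, V)] Γ(X, W) →ₐ[Γ(T, V)] qz.ResidueField :=
      Algebra.TensorProduct.lift θ₁ θ₂ (fun _ _ => Commute.all _ _)
    have h4 := congrArg θ h0
    rw [Algebra.TensorProduct.lift_tmul, map_one, one_mul, map_zero] at h4
    have h5 : algebraMap Γ(X, W) qz.ResidueField (g ^ N) = 0 := h4
    rw [Ideal.algebraMap_residueField_eq_zero] at h5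
    exact hgNqz h5
  have hnt : Nontrivial (p.ResidueField ⊗[Γ(T, V)] Γ(X, W)) := ⟨_, _, hne⟩
  have hdom : IsDomain (p.ResidueField ⊗[Γ(T, V)] Γ(X, W)) :=
    isDomain_tensor f hV hW hWV rfl p.ResidueField
  obtain ⟨s, hs, hsb⟩ := Groth.Agent.Sga3C.CWDensity.exists_notMem_mul_eq_zero_of_smooth b' (g ^ N)
    hN q p hqp (by
      intro y hy
      rcases mul_eq_zero.1 hy with h0 | h0
      · exact absurd h0 hne
      · exact h0)
  have hxs : x ∈ X.basicOpen s := by
    have h3 : hW.primeIdealOf ⟨x, hxW⟩ ∈ hW.fromSpec ⁻¹ᵁ X.basicOpen s := by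
      rw [hW.fromSpec_preimage_basicOpen]
      exact hs
    have h4 : hW.fromSpec (hW.primeIdealOf ⟨x, hxW⟩) ∈ X.basicOpen s := h3
    rw [hW.fromSpec_primeIdealOf ⟨x, hxW⟩] at h4
    exact h4
  refine ⟨X.basicOpen s, (X.basicOpen_le s).trans hWW₀, hxs, ?_⟩
  rw [map_zero]
  have hlocs := hW.isLocalization_basicOpen s
  have h5 : algebraMap Γ(X, W) Γ(X, X.basicOpen s) b' = 0 := by
    have h6 := congrArg (algebraMap Γ(X, W) Γ(X, X.basicOpen s)) hsb
    rw [map_mul, map_zero] at h6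
    exact ((IsLocalization.Away.algebraMap_isUnit (S := Γ(X, X.basicOpen s)) s).mul_right_eq_zero).1 h6
  rw [← h5]
  change _ = X.presheaf.map (homOfLE (X.basicOpen_le s)).op (X.presheaf.map (homOfLE hWW₀).op b)
  rw [← ConcreteCategory.comp_apply, ← Functor.map_comp]
  rfl

end Groth.Agent.Sga3C.CWSch
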