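import Groth.Agent.Sga3C.CWDescent

/-!
The locus where a function vanishes near a section of a smooth algebra is closed and finitely
presented.
-/

namespace Groth.Agent.Sga3C.CWSection

open TensorProduct Groth.Agent.Sga3C.CWCoords Groth.Agent.Sga3C.CWVanish
  Groth.Agent.Sga3C.CWDescent

universe u v w

section BaseChange

variable {A : Type u} {E : Type v} [CommRing A] [CommRing E] [Algebra A E]

/-- Base change of a section. -/
noncomputable def bcSection (ε : E →ₐ[A] A) (A' : Type w) [CommRing A'] [Algebra A A'] :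
    A' ⊗[A] E →ₐ[A'] A' :=
  Algebra.TensorProduct.lift (AlgHom.id A' A') ((Algebra.ofId A A').comp ε)
    (fun _ _ => Commute.all _ _)

theorem bcSection_tmul (ε : E →ₐ[A] A) {A' : Type w} [CommRing A'] [Algebra A A'] (a : A')
    (x : E) : bcSection ε A' (a ⊗ₜ x) = a * algebraMap A A' (ε x) := by
  rw [bcSection, Algebra.TensorProduct.lift_tmul]
  rfl

theorem ker_bcSection (ε : E →ₐ[A] A) (A' : Type w) [CommRing A'] [Algebra A A'] :
    RingHom.ker (bcSection ε A') =
      (RingHom.ker ε).map (Algebra.TensorProduct.includeRight : E →ₐ[A] A' ⊗[A] E) := by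
  apply le_antisymm
  · have key : ∀ x : A' ⊗[A] E, x - algebraMap A' _ (bcSection ε A' x) ∈
        (RingHom.ker ε).map (Algebra.TensorProduct.includeRight : E →ₐ[A] A' ⊗[A] E) := by
      intro x
      induction x with
      | zero => simp
      | add a b ha hb =>
        have := Ideal.add_mem _ ha hb
        rw [map_add, map_add]
        convert! this using 1
        ring
      | tmul a b =>
        rw [bcSection_tmul]
        have h1 : a ⊗ₜ[A] b - algebraMap A' (A' ⊗[A] E) (a * algebraMap A A' (ε b)) =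
            (a ⊗ₜ[A] 1) * (Algebra.TensorProduct.includeRight : E →ₐ[A] A' ⊗[A] E)
              (b - algebraMap A E (ε b)) := by
          rw [Algebra.TensorProduct.includeRight_apply, Algebra.TensorProduct.tmul_mul_tmul,
            one_mul, mul_one, TensorProduct.tmul_sub]
          congr 1
          rw [Algebra.TensorProduct.algebraMap_apply, Algebra.algebraMap_self, RingHom.id_apply,
            Algebra.algebraMap_eq_smul_one (A := E) (ε b), ← TensorProduct.smul_tmul, mul_comm,
            ← Algebra.smul_def]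
        rw [h1]
        refine Ideal.mul_mem_left _ _ (Ideal.mem_map_of_mem _ ?_)
        rw [RingHom.mem_ker, map_sub]
        simp
    intro x hx
    have h := key x
    rw [RingHom.mem_ker] at hx
    rw [hx, map_zero, sub_zero] at h
    exact h
  · rw [Ideal.map_le_iff_le_comap]
    intro x hx
    rw [Ideal.mem_comap, RingHom.mem_ker, Algebra.TensorProduct.includeRight_apply, bcSection_tmul]
    rw [RingHom.mem_ker] at hx
    rw [hx]
    simp

end BaseChange

theorem vanIdeal_eq_bot_iff {A : Type u} {E : Type v} [CommRing A] [CommRing E] [Algebra A E]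
    [Algebra.FormallySmooth A E] [Algebra.FiniteType A E]
    (ε : E →ₐ[A] A) (f : E) : vanIdeal ε f = ⊥ ↔ ∀ n, f ∈ (RingHom.ker ε) ^ n := by
  constructor
  · intro h n
    obtain ⟨ι, _, lam, e, h1, h2⟩ := exists_coords ε n
    have h3 : ∀ i, lam i f = 0 := by
      intro i
      have : lam i f ∈ vanIdeal ε f := Ideal.subset_span ⟨n, lam i, h1 i, rfl⟩
      rw [h] at this
      exact this
    have h4 := h2 f
    simpa [h3] using h4
  · intro h
    rw [vanIdeal, Ideal.span_eq_bot]
    rintro _ ⟨n, lam, h1, rfl⟩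
    exact h1 f (h n)

/-- Over a smooth algebra with a section, a function which vanishes on all the infinitesimal
neighbourhoods of the section vanishes near the section. -/
theorem exists_mul_eq_zero {A E : Type u} [CommRing A] [CommRing E] [Algebra A E]
    [Algebra.Smooth A E] (ε : E →ₐ[A] A) (f : E) (hf : ∀ n, f ∈ (RingHom.ker ε) ^ n) :
    ∃ a ∈ RingHom.ker ε, (1 - a) * f = 0 := by
  obtain ⟨A₀, _, _, E₀, _, _, ε₀, f₀, e, hn, hsm, hinj, hef, hε⟩ :=
    exists_noetherian_model A E ε (fun _ : Unit => f)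
  have hnE : IsNoetherianRing E₀ := Algebra.FiniteType.isNoetherianRing A₀ _
  have hke : ∀ x : A ⊗[A₀] E₀, ε (e x) = bcSection ε₀ A x := by
    intro x
    induction x with
    | zero => simp
    | add a b ha hb => rw [map_add, map_add, ha, hb, map_add]
    | tmul a b =>
      have h1 : a ⊗ₜ[A₀] b = a • ((1 : A) ⊗ₜ[A₀] b) := by
        rw [TensorProduct.smul_tmul', smul_eq_mul, mul_one]
      rw [h1, map_smul, map_smul, map_smul, hε, bcSection_tmul, one_mul]
  have hker : RingHom.ker ε = ((RingHom.ker ε₀).map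
      (Algebra.TensorProduct.includeRight : E₀ →ₐ[A₀] A ⊗[A₀] E₀)).map (e : A ⊗[A₀] E₀ →+* E) := by
    rw [← ker_bcSection]
    apply le_antisymm
    · intro x hx
      have : x = e (e.symm x) := by simp
      rw [this]
      refine Ideal.mem_map_of_mem (e : A ⊗[A₀] E₀ →+* E) ?_
      rw [RingHom.mem_ker, ← hke]
      simpa using hx
    · rw [Ideal.map_le_iff_le_comap]
      intro x hx
      rw [Ideal.mem_comap, RingHom.mem_ker]
      change ε (e x) = 0
      rw [hke]
      exact hx
  have h1 : ∀ n, ((1 : A) ⊗ₜ[A₀] f₀ ()) ∈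
        ((RingHom.ker ε₀).map
          (Algebra.TensorProduct.includeRight : E₀ →ₐ[A₀] A ⊗[A₀] E₀)) ^ n := by
    intro n
    have h2 := hf n
    rw [hker, ← Ideal.map_pow, ← hef ()] at h2
    have h3 := (Ideal.mem_map_iff_of_surjective (e : A ⊗[A₀] E₀ →+* E) e.surjective).1 h2
    obtain ⟨y, hy, hy2⟩ := h3
    have hy3 : y = (1 : A) ⊗ₜ[A₀] f₀ () := e.injective hy2
    rw [← hy3]
    exact hy
  have h2 := (map_vanIdeal_eq_bot_iff ε₀ (f₀ ()) (A' := A)).2 h1
  have h3 : vanIdeal ε₀ (f₀ ()) = ⊥ := (Ideal.map_eq_bot_iff_of_injective hinj).1 h2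
  obtain ⟨a, ha, ha2⟩ := exists_mul_eq_zero_of_forall_mem_pow _ _ ((vanIdeal_eq_bot_iff _ _).1 h3)
  refine ⟨e (1 ⊗ₜ a), ?_, ?_⟩
  · rw [RingHom.mem_ker, hε]
    rw [RingHom.mem_ker] at ha
    rw [ha, map_zero]
  · have h4 := congrArg (fun z => e (1 ⊗ₜ z)) ha2
    simp only [TensorProduct.tmul_zero, map_zero] at h4
    rw [← h4, ← hef ()]
    have h5 : (1 : A) ⊗ₜ[A₀] ((1 - a) * f₀ ()) = (1 ⊗ₜ (1 - a)) * (1 ⊗ₜ f₀ ()) := by
      rw [Algebra.TensorProduct.tmul_mul_tmul, one_mul]
    rw [h5, map_mul, TensorProduct.tmul_sub, map_sub]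
    have h6 : e ((1 : A) ⊗ₜ[A₀] (1 : E₀)) = 1 := by
      rw [← Algebra.TensorProduct.one_def, map_one]
    rw [h6]

theorem eq_of_forall_map_eq_bot_iff {A : Type u} [CommRing A] (K K' : Ideal A)
    (h : ∀ (A' : Type u) [CommRing A'] [Algebra A A'],
      K.map (algebraMap A A') = ⊥ ↔ K'.map (algebraMap A A') = ⊥) : K = K' := by
  apply le_antisymm
  · have h1 := (h (A ⧸ K')).2 (by
      rw [Ideal.Quotient.algebraMap_eq]
      exact Ideal.map_quotient_self K')
    intro x hx
    rw [← Ideal.Quotient.eq_zero_iff_mem, ← Ideal.Quotient.algebraMap_eq]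
    have := Ideal.mem_map_of_mem (algebraMap A (A ⧸ K')) hx
    rw [h1] at this
    exact this
  · have h1 := (h (A ⧸ K)).1 (by
      rw [Ideal.Quotient.algebraMap_eq]
      exact Ideal.map_quotient_self K)
    intro x hx
    rw [← Ideal.Quotient.eq_zero_iff_mem, ← Ideal.Quotient.algebraMap_eq]
    have := Ideal.mem_map_of_mem (algebraMap A (A ⧸ K)) hx
    rw [h1] at this
    exact this

/-- Main property of `vanIdeal`: it represents the condition that `f` vanishes near the section. -/
theorem map_vanIdeal_eq_bot_iff_exists {A E : Type u} [CommRing A] [CommRing E] [Algebra A E]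
    [Algebra.Smooth A E] (ε : E →ₐ[A] A) (f : E) (A' : Type u) [CommRing A'] [Algebra A A'] :
    (vanIdeal ε f).map (algebraMap A A') = ⊥ ↔
      ∃ a ∈ RingHom.ker (bcSection ε A'), (1 - a) * ((1 : A') ⊗ₜ[A] f) = 0 := by
  rw [map_vanIdeal_eq_bot_iff, ← ker_bcSection]
  constructor
  · intro h
    exact exists_mul_eq_zero (bcSection ε A') _ h
  · rintro ⟨a, ha, h⟩ n
    have h1 : (1 : A') ⊗ₜ[A] f = a ^ n * ((1 : A') ⊗ₜ[A] f) := by
      have h0 : (1 : A') ⊗ₜ[A] f = a * ((1 : A') ⊗ₜ[A] f) := by
        rw [sub_mul, one_mul, sub_eq_zero] at h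
        exact h
      induction n with
      | zero => simp
      | succ n ih =>
        rw [pow_succ, mul_assoc, ← h0]
        exact ih
    rw [h1]
    exact Ideal.mul_mem_right _ _ (Ideal.pow_mem_pow ha n)

/-- The ideal `vanIdeal` is finitely generated. -/
theorem vanIdeal_fg {A E : Type u} [CommRing A] [CommRing E] [Algebra A E]
    [Algebra.Smooth A E] (ε : E →ₐ[A] A) (f : E) : (vanIdeal ε f).FG := by
  obtain ⟨A₀, _, _, E₀, _, _, ε₀, f₀, e, hn, hsm, hinj, hef, hε⟩ :=
    exists_noetherian_model A E ε (fun _ : Unit => f)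
  have hfg : (vanIdeal ε₀ (f₀ ())).FG := IsNoetherian.noetherian _
  have heq : vanIdeal ε f = (vanIdeal ε₀ (f₀ ())).map (algebraMap A₀ A) := by
    apply eq_of_forall_map_eq_bot_iff
    intro A' _ _
    let _ : Algebra A₀ A' := ((algebraMap A A').comp (algebraMap A₀ A)).toAlgebra
    have : IsScalarTower A₀ A A' := IsScalarTower.of_algebraMap_eq (fun _ => rfl)
    rw [Ideal.map_map, ← IsScalarTower.algebraMap_eq, map_vanIdeal_eq_bot_iff_exists,
      map_vanIdeal_eq_bot_iff_exists]
    let c : A' ⊗[A₀] E₀ ≃ₐ[A'] A' ⊗[A] E :=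
      (Algebra.TensorProduct.cancelBaseChange A₀ A A' A' E₀).symm.trans
        (Algebra.TensorProduct.congr AlgEquiv.refl e)
    have hc : ∀ x, c (1 ⊗ₜ x) = 1 ⊗ₜ e (1 ⊗ₜ x) := by
      intro x
      rfl
    have hsec : ∀ x, bcSection ε A' (c x) = bcSection ε₀ A' x := by
      intro x
      induction x with
      | zero => simp
      | add a b ha hb => rw [map_add, map_add, ha, hb, map_add]
      | tmul a b =>
        have h1 : a ⊗ₜ[A₀] b = a • ((1 : A') ⊗ₜ[A₀] b) := by
          rw [TensorProduct.smul_tmul', smul_eq_mul, mul_one]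
        rw [h1, map_smul, map_smul, map_smul, hc, bcSection_tmul, bcSection_tmul, hε, one_mul,
          one_mul, ← IsScalarTower.algebraMap_apply]
    constructor
    · rintro ⟨a, ha, h⟩
      refine ⟨c.symm a, ?_, ?_⟩
      · rw [RingHom.mem_ker, ← hsec, AlgEquiv.apply_symm_apply]
        exact ha
      · apply c.injective
        rw [map_mul, map_sub, map_one, AlgEquiv.apply_symm_apply, map_zero, hc, hef ()]
        exact h
    · rintro ⟨a, ha, h⟩
      refine ⟨c a, ?_, ?_⟩
      · rw [RingHom.mem_ker, hsec]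
        exact ha
      · have h2 := congrArg c h
        rw [map_mul, map_sub, map_one, map_zero, hc, hef ()] at h2
        exact h2
  rw [heq]
  exact hfg.map _

end Groth.Agent.Sga3C.CWSection
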