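import Groth.Agent.Sga3C.MatComod
import Groth.Agent.S3032
import Mathlib.LinearAlgebra.Basis.VectorSpace
import Mathlib.LinearAlgebra.Dimension.Free

/-!
# Chevalley: closed subgroups of affine algebraic groups as stabilizers (coordinates)
-/

set_option autoImplicit false
universe u v w w'
open TensorProduct

namespace Groth.Agent.Sga3C.Chevalley

open Groth.Agent.Sga3C.MatComod

/-- Basis of a finite-dimensional subspace `W` adapted to a subspace `U`. -/
theorem exists_adapted_basis {k : Type u} [Field k] {V : Type v} [AddCommGroup V] [Module k V]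
    (W U : Submodule k V) [Module.Finite k W] :
    ∃ (d m : ℕ) (b : Module.Basis (Fin d ⊕ Fin m) k W),
      (∀ j, (b (Sum.inl j) : V) ∈ U) ∧
      (∀ x ∈ W, x ∈ U → x ∈ Submodule.span k (Set.range fun j => (b (Sum.inl j) : V))) ∧
      (∀ i, ∃ θ : V →ₗ[k] k, (∀ x ∈ U, θ x = 0) ∧
        ∀ m, θ (b (Sum.inr m) : V) = if i = m then 1 else 0) := by
  classical
  set U1 : Submodule k W := U.comap W.subtype with hU
  obtain ⟨U', hUU'⟩ := Submodule.exists_isCompl U1
  let b1 := Module.finBasis k U1
  let b2 := Module.finBasis k U'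
  let b := (b1.prod b2).map (Submodule.prodEquivOfIsCompl U1 U' hUU')
  have hbl : ∀ j, ((b (Sum.inl j) : W) : V) = ((b1 j : W) : V) := by
    intro j
    simp [b]
  have hbr : ∀ j, ((b (Sum.inr j) : W) : V) = ((b2 j : W) : V) := by
    intro j
    simp [b]
  have hbI : ∀ j, ((b (Sum.inl j) : W) : V) ∈ U := by
    intro j
    rw [hbl]
    exact (b1 j).2
  refine ⟨_, _, b, hbI, ?_, ?_⟩
  · intro x hxW hxI
    have hxU : (⟨x, hxW⟩ : W) ∈ U1 := hxI
    have h1 := b1.sum_repr ⟨⟨x, hxW⟩, hxU⟩
    have h2 := congrArg (fun t : U1 => ((t : W) : V)) h1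
    simp only [AddSubmonoidClass.coe_finsetSum, Submodule.coe_smul] at h2
    rw [← h2]
    refine Submodule.sum_mem _ fun j _ => ?_
    refine Submodule.smul_mem _ _ (Submodule.subset_span ⟨j, ?_⟩)
    exact hbl j
  · intro i
    have hli : LinearIndependent k (fun m => U.mkQ ((b2 m : W) : V)) := by
      have h1 : LinearIndependent k (fun m => ((b2 m : W) : V)) :=
        (b2.linearIndependent.map' U'.subtype (Submodule.ker_subtype _)).map' W.subtype
          (Submodule.ker_subtype _)
      refine h1.map ?_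
      rw [Submodule.ker_mkQ, Submodule.disjoint_def]
      intro x hx hxI
      have h2 : Submodule.span k (Set.range fun m => ((b2 m : W) : V)) ≤ U'.map W.subtype := by
        rw [Submodule.span_le]
        rintro _ ⟨m, rfl⟩
        exact ⟨b2 m, (b2 m).2, rfl⟩
      obtain ⟨y, hy, rfl⟩ := h2 hx
      have hyU : y ∈ U1 := hxI
      have : y = 0 := by
        have := hUU'.disjoint
        rw [Submodule.disjoint_def] at this
        exact this y hyU hy
      rw [this, map_zero]
    obtain ⟨q, hq⟩ := LinearMap.exists_leftInverse_of_injective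
      (Fintype.linearCombination k (fun m => U.mkQ ((b2 m : W) : V)))
      (LinearMap.ker_eq_bot.mpr (by
        exact linearIndependent_iff_injective_fintypeLinearCombination.mp hli))
    refine ⟨(LinearMap.proj i) ∘ₗ q ∘ₗ U.mkQ, fun x hx => ?_, fun m => ?_⟩
    · have : U.mkQ x = 0 := (Submodule.Quotient.mk_eq_zero _).mpr hx
      simp [LinearMap.comp_apply, this]
    · have h3 := LinearMap.congr_fun hq (Pi.single m 1)
      simp only [LinearMap.comp_apply, Fintype.linearCombination_apply_single, one_smul,
        LinearMap.id_apply] at h3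
      rw [hbr]
      simp only [LinearMap.comp_apply, h3, LinearMap.proj_apply, Pi.single_apply]

/-- Coefficients of a finite-dimensional subcomodule of the regular comodule in a basis. -/
theorem exists_coeff {k : Type u} [Field k] {A : Type v} [CommRing A] [Bialgebra k A]
    (W : Submodule k A) (hW : HopfRep.IsSubcomod (k := k) (A := A) (V := A) W)
    {ι : Type w} [Fintype ι] [DecidableEq ι] (b : Module.Basis ι k W) :
    ∃ a : ι → ι → A, IsMult k a ∧
      (∀ j, CoalgebraStruct.comul (R := k) (b j : A) = ∑ i, (b i : A) ⊗ₜ[k] a i j) ∧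
      (∀ j, (b j : A) = ∑ i, CoalgebraStruct.counit (R := k) (b i : A) • a i j) := by
  -- left inverse of the inclusion
  obtain ⟨p, hp⟩ := LinearMap.exists_leftInverse_of_injective W.subtype (Submodule.ker_subtype W)
  have hp' : ∀ x : W, p (x : A) = x := fun x => LinearMap.congr_fun hp x
  have key : ∀ j, ∃ c : ι → A, CoalgebraStruct.comul (R := k) (b j : A) =
      ∑ i, (b i : A) ⊗ₜ[k] c i := by
    intro j
    obtain ⟨t, ht⟩ := hW (b j : A) (b j).2
    obtain ⟨c, hc⟩ := TensorProduct.eq_repr_basis_left (R := k) b t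
    refine ⟨fun i => c i, ?_⟩
    have ht' : (W.subtype.rTensor A) t = CoalgebraStruct.comul (R := k) (b j : A) := ht
    rw [← ht', ← hc, Finsupp.sum_fintype _ _ (by simp)]
    simp [map_sum]
  choose c hc using key
  refine ⟨fun i j => c j i, ⟨?_, ?_⟩, fun j => hc j, ?_⟩
  · -- comul
    intro i j
    have h1 := LinearMap.congr_fun (Coalgebra.coassoc (R := k) (A := A)) (b j : A)
    simp only [LinearMap.comp_apply, LinearEquiv.coe_coe, hc, map_sum, LinearMap.rTensor_tmul,
      LinearMap.lTensor_tmul, TensorProduct.sum_tmul, TensorProduct.assoc_tmul] at h1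
    -- apply the functional `b.coord i ∘ p`
    have h2 := congrArg (fun t => TensorProduct.lid k (A ⊗[k] A)
      (LinearMap.rTensor (A ⊗[k] A) (b.coord i ∘ₗ p) t)) h1
    simp only [map_sum, LinearMap.rTensor_tmul, LinearMap.comp_apply, hp',
      Module.Basis.coord_apply, Module.Basis.repr_self, TensorProduct.lid_tmul,
      Finsupp.single_apply, ite_smul, one_smul, zero_smul, Finset.sum_ite_eq',
      Finset.mem_univ, if_true] at h2
    exact h2.symm
  · -- counit
    intro i j
    have h1 := LinearMap.congr_fun (Coalgebra.lTensor_counit_comp_comul (R := k) (A := A)) (b j : A)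
    simp only [LinearMap.comp_apply, hc, map_sum, LinearMap.lTensor_tmul, LinearMap.flip_apply,
      TensorProduct.mk_apply] at h1
    have h2 := congrArg (fun t => TensorProduct.lid k k
      (LinearMap.rTensor k (b.coord i ∘ₗ p) t)) h1
    simp only [map_sum, LinearMap.rTensor_tmul, LinearMap.comp_apply, hp',
      Module.Basis.coord_apply, Module.Basis.repr_self, TensorProduct.lid_tmul,
      Finsupp.single_apply, ite_smul, one_smul, zero_smul, Finset.sum_ite_eq',
      Finset.mem_univ, if_true] at h2
    rw [h2]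
    simp [eq_comm]
  · intro j
    have h1 := LinearMap.congr_fun (Coalgebra.rTensor_counit_comp_comul (R := k) (A := A)) (b j : A)
    simp only [LinearMap.comp_apply, hc, map_sum, LinearMap.rTensor_tmul,
      TensorProduct.mk_apply] at h1
    have h2 := congrArg (TensorProduct.lid k A) h1
    simp only [map_sum, TensorProduct.lid_tmul, one_smul] at h2
    exact h2.symm

/-- Applying a functional vanishing on a coideal `U` to the left factor of `Δ x`, `x ∈ U`,
gives an element of `U`. -/
theorem coideal_coeff_mem {k : Type u} [Field k] {C : Type v} [CommRing C] [Bialgebra k C]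
    (U : Submodule k C) [U.IsCoideal] (θ : C →ₗ[k] k) (hθ : ∀ x ∈ U, θ x = 0)
    (x : C) (hx : x ∈ U) :
    TensorProduct.lid k C (θ.rTensor C (CoalgebraStruct.comul (R := k) x)) ∈ U := by
  have h1 : U.mkQ ∘ₗ (TensorProduct.lid k C).toLinearMap ∘ₗ θ.rTensor C =
      (TensorProduct.lid k (C ⧸ U)).toLinearMap ∘ₗ (U.liftQ θ (fun x hx => hθ x hx)).rTensor (C ⧸ U) ∘ₗ
        TensorProduct.map U.mkQ U.mkQ := by
    ext x y
    simp
  have h2 := LinearMap.congr_fun h1 (CoalgebraStruct.comul (R := k) x)
  simp only [LinearMap.comp_apply] at h2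
  rw [Submodule.IsCoideal.map_mkQ_comul_eq_zero (R := k) (I := U) hx, map_zero, map_zero] at h2
  exact (Submodule.Quotient.mk_eq_zero _).mp h2

/-- Basis adapted to a coideal-ideal: generators of `I` inside a finite-dimensional
subcomodule, with the coefficient matrix. -/
theorem exists_adapted (k : Type u) [Field k] (A : Type u) [CommRing A] [Bialgebra k A]
    (I : Ideal A) [(I.restrictScalars k).IsCoideal] (hI : I.FG) :
    ∃ (d m : ℕ) (w : Fin d ⊕ Fin m → A) (a : (Fin d ⊕ Fin m) → (Fin d ⊕ Fin m) → A),
      IsMult k a ∧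
      (∀ j, CoalgebraStruct.comul (R := k) (w j) = ∑ i, w i ⊗ₜ[k] a i j) ∧
      (∀ j, w j = ∑ i, CoalgebraStruct.counit (R := k) (w i) • a i j) ∧
      I = Ideal.span (Set.range (fun j => w (Sum.inl j))) ∧
      (∀ i j, a (Sum.inr i) (Sum.inl j) ∈ I) := by
  classical
  obtain ⟨s, hs⟩ := hI
  obtain ⟨W, hW, hsW, hWfg⟩ := Groth.Agent.S3032.result k A A (Submodule.span k (s : Set A))
    ⟨s, rfl⟩
  have : Module.Finite k W := Module.Finite.iff_fg.mpr hWfg
  obtain ⟨d, m, b, hbI, hspan, hθ⟩ := exists_adapted_basis W (I.restrictScalars k)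
  obtain ⟨a, ha, hcom, hcou⟩ := exists_coeff W hW b
  refine ⟨d, m, fun j => (b j : A), a, ha, hcom, hcou, ?_, ?_⟩
  · apply le_antisymm
    · rw [← hs, Ideal.span_le]
      intro x hx
      have hxW : x ∈ W := hsW (Submodule.subset_span hx)
      have hxI : x ∈ I := hs ▸ Ideal.subset_span hx
      have h1 := hspan x hxW hxI
      have h2 : Submodule.span k (Set.range fun j => (b (Sum.inl j) : A)) ≤
          (Ideal.span (Set.range (fun j => (b (Sum.inl j) : A)))).restrictScalars k := by
        rw [Submodule.span_le]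
        exact Ideal.subset_span
      exact h2 h1
    · rw [Ideal.span_le]
      rintro _ ⟨j, rfl⟩
      exact hbI j
  · intro i j
    obtain ⟨θ, hθ0, hθ1⟩ : ∃ θ : A →ₗ[k] k, (∀ x ∈ I.restrictScalars k, θ x = 0) ∧
        ∀ m, θ (b (Sum.inr m) : A) = if i = m then 1 else 0 := hθ i
    have hz := coideal_coeff_mem (I.restrictScalars k) θ hθ0 (b (Sum.inl j)) (hbI j)
    rw [hcom] at hz
    have e1 : ∀ x, θ (b (Sum.inl x) : A) = 0 := fun x => hθ0 _ (hbI x)
    simp only [map_sum, map_add, LinearMap.rTensor_tmul, TensorProduct.lid_tmul,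
      Fintype.sum_sum_type, e1,
      zero_smul, Finset.sum_const_zero, zero_add, hθ1, ite_smul,
      one_smul, Finset.sum_ite_eq, Finset.mem_univ, if_true] at hz
    exact hz

end Groth.Agent.Sga3C.Chevalley
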