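import Mathlib.CategoryTheory.Sites.Descent.IsStack

/-!
# Full faithfulness of pullback functors of descent data for objects with sheaf of homomorphisms

Variant of `Mathlib.CategoryTheory.Sites.Descent.Precoverage` in which the hypothesis that `F` is a
prestack is replaced by the hypothesis that the presheaves `F.presheafHom (D₁.obj i) (D₂.obj i)` are
sheaves.
-/

set_option autoImplicit false
set_option backward.defeqAttrib.useBackward true

universe t t' v' v u' u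

namespace Groth.Agent.Sga3C.DDFull

open CategoryTheory Limits Opposite Bicategory Pseudofunctor Pseudofunctor.DescentData
open Pseudofunctor.LocallyDiscreteOpToCat

variable {C : Type u} [Category.{v} C] {F : LocallyDiscrete Cᵒᵖ ⥤ᵖ Cat.{v', u'}}

variable {J : GrothendieckTopology C}
  {ι : Type t} {S : C} {X : ι → C} {f : ∀ i, X i ⟶ S}
  {ι' : Type t'} {X' : ι' → C} {f' : ∀ j, X' j ⟶ S}
  {α : ι' → ι} {p' : ∀ j, X' j ⟶ X (α j)} (w : ∀ j, p' j ≫ f (α j) = f' j)
  (hf' : Sieve.ofArrows _ f' ∈ J S)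
  {D₁ D₂ : F.DescentData f}
  (hsh : ∀ i, Presheaf.IsSheaf (J.over (X i)) (F.presheafHom (D₁.obj i) (D₂.obj i)))

set_option backward.defeqAttrib.useBackward true in
set_option backward.isDefEq.respectTransparency false in
include hf' hsh in
lemma injective_pullFunctor :
    Function.Injective
      ((pullFunctor F (f := f) (p := 𝟙 _) (f' := f') (p' := p') (by cat_disch)).map :
        (D₁ ⟶ D₂) → _) := by
  intro φ φ' hφ
  ext i
  refine F.presheafHomObjHomEquiv.injective ?_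
  have : (Sieve.overEquiv (Over.mk (𝟙 (X i)))).symm
    (Sieve.pullback (f i) (Sieve.ofArrows X' f')) ∈ J.over (X i) _ := by
    simpa only [J.mem_over_iff, OrderIso.apply_symm_apply] using! J.pullback_stable (f i) hf'
  refine (((isSheaf_iff_isSheaf_of_type _ _).1
    (hsh i)).isSeparated _ this).ext ?_
  rintro Z g ⟨Y, p, c, ⟨j⟩, hp⟩
  dsimp at p hp
  have : g.left = Z.hom := by simpa using! Over.w g
  have (ψ : D₁ ⟶ D₂) :
    (F.presheafHom _ _).map g.op (F.presheafHomObjHomEquiv (ψ.hom i)) =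
      D₁.hom (Z.hom ≫ f i) Z.hom (p ≫ p' j) ≫
        pullHom ((F.map (p' j).op.toLoc).toFunctor.map (ψ.hom (α j))) p _ _ ≫
        D₂.hom (Z.hom ≫ f i) (p ≫ p' j) Z.hom := by
    obtain rfl : g = Over.homMk Z.hom := by cat_disch
    have := ψ.comm _ Z.hom (p ≫ p' j) rfl (by grind)
    dsimp [presheafHomObjHomEquiv, pullHom] at this ⊢
    simp [mapComp'_inv_naturality, Cat.Hom.comp_toFunctor,
      Functor.comp_obj, Cat.Hom.hom_inv_id_toNatTrans_app_assoc, ← reassoc_of% this,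
      D₂.hom_self _ _ rfl, F.mapComp'_id_comp_inv_app, ← Functor.map_comp,
      F.mapComp'_id_comp_hom_app_assoc]
  replace hφ := congr_fun (congr_arg DescentData.Hom.hom hφ) j
  dsimp at hφ
  simp only [this, hφ]

variable (φ : (pullFunctor F (p := 𝟙 _) (f' := f') (p' := p') (by cat_disch)).obj D₁ ⟶
    (pullFunctor F (p := 𝟙 _) (f' := f') (p' := p') (by cat_disch)).obj D₂)

variable (f f') in
/-- the sieve on `Over.mk (𝟙 (X i)) : Over (X i)` obtained by pulling back by `f i` the sieve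
generated by `f'`. -/
abbrev sieve (i : ι) : Sieve (Over.mk (𝟙 (X i))) :=
  (Sieve.overEquiv (Over.mk (𝟙 (X i)))).symm
    (Sieve.pullback (f i) (Sieve.ofArrows X' f'))

include hf' in
variable (f) in
lemma sieve_mem (i : ι) : sieve f f' i ∈ J.over _ _ := by
  simpa only [J.mem_over_iff, OrderIso.apply_symm_apply] using! J.pullback_stable (f i) hf'

set_option backward.defeqAttrib.useBackward true in
lemma mem_sieve {i : ι} {Z : C} (q : Z ⟶ X i) ⦃j : ι'⦄ (a : Z ⟶ X' j)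
    (fac : a ≫ f' j = q ≫ f i := by cat_disch) :
    sieve f f' i (Over.homMk q : Over.mk q ⟶ Over.mk (𝟙 (X i))) :=
  ⟨_, a, f' j, ⟨j⟩, fac⟩

namespace sieve

variable {i : ι} {Z : C} {q : Z ⟶ X i}
  (hq : sieve f f' i (Over.homMk q : Over.mk q ⟶ Over.mk (𝟙 X i)))

set_option backward.defeqAttrib.useBackward true in
include hq in
lemma exists_fac : ∃ (j : ι') (a : Z ⟶ X' j), a ≫ f' j = q ≫ f i := by
  obtain ⟨_, q, _, ⟨j⟩, fac⟩ := hq
  exact ⟨j, q, fac⟩

/-- choice of an index -/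
noncomputable def idx : ι' := (exists_fac hq).choose

/-- choice of a factorization -/
noncomputable def hom : Z ⟶ X' (idx hq) := (exists_fac hq).choose_spec.choose

@[reassoc]
lemma fac : hom hq ≫ f' (idx hq) = q ≫ f i := (exists_fac hq).choose_spec.choose_spec

end sieve

/-- local section of the presheaf of morphisms from `D₁.obj i` to `D₂.obj i`. -/
def mor ⦃i : ι⦄ {Z : C} (q : Z ⟶ X i) ⦃j : ι'⦄ (a : Z ⟶ X' j)
    (fac : a ≫ f' j = q ≫ f i := by cat_disch) :
    (F.presheafHom (D₁.obj i) (D₂.obj i)).obj (op (Over.mk q)) :=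
  D₁.hom (q ≫ f i) q (a ≫ p' j) ≫ pullHom (φ.hom j) a _ _ ≫ D₂.hom (q ≫ f i) (a ≫ p' j) q

lemma mor_eq ⦃i : ι⦄ {Z : C} (q : Z ⟶ X i) ⦃j : ι'⦄ (a : Z ⟶ X' j)
    (fac : a ≫ f' j = q ≫ f i) (q' : Z ⟶ S) (a' : Z ⟶ X (α j))
    (hq' : q ≫ f i = q' := by cat_disch) (ha' : a ≫ p' j = a' := by cat_disch) :
    mor w φ q a fac =
      D₁.hom q' q a' ≫ pullHom (φ.hom j) a _ _ ≫ D₂.hom q' a' q := by
  subst hq' ha'
  rfl

set_option backward.isDefEq.respectTransparency false in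
include w φ in
lemma mor_precomp ⦃i : ι⦄ {Z : C} (q : Z ⟶ X i) ⦃j : ι'⦄ (a : Z ⟶ X' j)
    (fac : a ≫ f' j = q ≫ f i) {Z' : C} (r : Z' ⟶ Z)
    (r' : Z' ⟶ X i) (a' : Z' ⟶ X' j) (hr' : r ≫ q = r' := by cat_disch)
    (ha' : r ≫ a = a' := by cat_disch) :
    mor w φ r' a' (by cat_disch) =
      (F.presheafHom (D₁.obj i) (D₂.obj i)).map (Over.homMk r).op (mor w φ q a fac) := by
  dsimp
  rw [mor_eq _ _ _ _ _ (r ≫ q ≫ f i) (r ≫ a ≫ p' j),
    mor_eq _ _ _ _ _ _ _ rfl rfl,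
    ← D₁.pullHom_hom r (q ≫ f i) _ rfl q (a ≫ p' j) rfl (by cat_disch) r' _ hr' rfl,
    ← D₂.pullHom_hom r (q ≫ f i) _ rfl (a ≫ p' j) q (by cat_disch) rfl _ r' rfl hr']
  have := F.mapComp'_naturality_2 a.op.toLoc r.op.toLoc a'.op.toLoc (by cat_disch) (φ.hom j)
  dsimp [pullHom] at this ⊢
  simp only [Category.assoc, Functor.map_comp, ← this,
    Cat.Hom.inv_hom_id_toNatTrans_app_assoc,
    mapComp'₀₁₃_hom_comp_whiskerLeft_mapComp'_hom_app_assoc F
    (p' j).op.toLoc a.op.toLoc r.op.toLoc ((p' j).op.toLoc ≫ a.op.toLoc) a'.op.toLoc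
      (((p' j).op.toLoc ≫ a.op.toLoc) ≫ r.op.toLoc) rfl (by grind) (by grind),
    ← mapComp'_inv_whiskerRight_mapComp'₀₂₃_inv_app_assoc F
    (p' j).op.toLoc a.op.toLoc r.op.toLoc ((p' j).op.toLoc ≫ a.op.toLoc) a'.op.toLoc
      (((p' j).op.toLoc ≫ a.op.toLoc) ≫ r.op.toLoc) rfl (by grind) (by grind)]

set_option backward.isDefEq.respectTransparency false in
lemma mor_unique ⦃i : ι⦄ {Z : C} (q : Z ⟶ X i)
    ⦃j₁ : ι'⦄ (a₁ : Z ⟶ X' j₁) ⦃j₂ : ι'⦄ (a₂ : Z ⟶ X' j₂)
    (fac₁ : a₁ ≫ f' j₁ = q ≫ f i := by cat_disch)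
    (fac₂ : a₂ ≫ f' j₂ = q ≫ f i := by cat_disch) :
    mor w φ q a₁ fac₁ = mor w φ q a₂ fac₂ := by
  have := φ.comm (q ≫ f i) a₁ a₂ fac₁ fac₂
  dsimp at this
  rw [pullFunctorObjHom_eq _ _ _ _ _ (q ≫ f i) (a₁ ≫ p' j₁) (a₂ ≫ p' j₂) rfl,
    pullFunctorObjHom_eq _ _ _ _ _ (q ≫ f i) (a₁ ≫ p' j₁) (a₂ ≫ p' j₂) rfl,
    map_eq_pullHom _ _ _ _ (by exact rfl) rfl, map_eq_pullHom _ _ _ _ rfl rfl] at this
  dsimp at this
  simp only [Category.assoc, Cat.Hom.hom_inv_id_toNatTrans_app_assoc, cancel_epi] at this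
  simp only [← Category.assoc, cancel_mono] at this
  rw [← cancel_mono (D₂.hom (q ≫ f i) (a₂ ≫ p' j₂) q), Category.assoc,
    D₂.hom_comp] at this
  rw [mor_eq _ _ _ _ _ _ _ rfl rfl, mor_eq _ _ _ _ _ _ _ rfl rfl, this]
  simp

set_option backward.isDefEq.respectTransparency.types false in
/-- family of elements of the sheaf of morphisms from `D₁.obj i` to `D₂.obj i`
that is deduced from `φ` over a covering sieve. -/
noncomputable def familyOfElements (i : ι) :
    Presieve.FamilyOfElements (F.presheafHom (D₁.obj i) (D₂.obj i)) (sieve f f' i).arrows :=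
  fun Z q hq ↦
    mor w φ _ _ (sieve.fac (f := f) (f' := f') (q := Z.hom) (by
      convert! hq
      ext
      simpa using (Over.w q).symm))

set_option backward.isDefEq.respectTransparency.types false in
lemma familyOfElements_eq {i : ι} {Z : Over (X i)} (g : Z ⟶ Over.mk (𝟙 (X i)))
    ⦃j : ι'⦄ (a : Z.left ⟶ X' j) (fac : a ≫ f' j = Z.hom ≫ f i := by cat_disch) :
    familyOfElements w φ i g (by
      rw [show g = Over.homMk Z.hom by ext; simpa using Over.w g]
      exact mem_sieve _ _ fac) = mor w φ _ _ fac :=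
  mor_unique _ _ _ _ _ _ _

set_option backward.isDefEq.respectTransparency false in
lemma compatible_familyOfElements (i : ι) :
    (familyOfElements w φ i).Compatible := by
  intro Y₁ Y₂ Z g₁ g₂ f₁ f₂ h₁ h₂ fac
  obtain rfl : f₁ = Over.homMk Y₁.hom := by ext; simpa using Over.w f₁
  obtain rfl : f₂ = Over.homMk Y₂.hom := by ext; simpa using Over.w f₂
  obtain ⟨g₁, hg₁, rfl⟩ := Over.homMk_surjective g₁
  obtain ⟨g₂, hg₂, rfl⟩ := Over.homMk_surjective g₂
  obtain ⟨_, a₁, _, ⟨j₁⟩, fac₁⟩ := h₁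
  obtain ⟨_, a₂, _, ⟨j₂⟩, fac₂⟩ := h₂
  dsimp at *
  rw [familyOfElements_eq _ _ _ _ fac₁, familyOfElements_eq _ _ _ _ fac₂,
    ← dsimp% mor_precomp w φ Y₁.hom a₁ fac₁ _ _ _ hg₁ rfl,
    ← dsimp% mor_precomp w φ Y₂.hom a₂ fac₂ _ _ _ hg₂ rfl]
  apply mor_unique

include hf' hsh in
/-- the glued morphism `D₁.obj i ⟶ D₂.obj i`. -/
noncomputable def hom (i : ι) : D₁.obj i ⟶ D₂.obj i :=
  F.presheafHomObjHomEquiv.symm
    (Presieve.IsSheafFor.amalgamate
      (((isSheaf_iff_isSheaf_of_type _ _).1 (hsh i)).isSheafFor _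
        (by simpa using sieve_mem _ hf' i)) _
          (compatible_familyOfElements w φ i))

set_option backward.isDefEq.respectTransparency false in
lemma map_hom ⦃i : ι⦄ ⦃Y : C⦄ (q : Y ⟶ X i) ⦃j : ι'⦄
    (a : Y ⟶ X' j) (fac : a ≫ f' j = q ≫ f i := by cat_disch) :
    (F.map q.op.toLoc).toFunctor.map (hom w hf' hsh φ i) = mor w φ q a fac := by
  let s := Presieve.IsSheafFor.amalgamate
    (((isSheaf_iff_isSheaf_of_type _ _).1 (hsh i)).isSheafFor _
      (by simpa using sieve_mem _ hf' i)) _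
        (compatible_familyOfElements w φ i)
  have hs : (familyOfElements w φ i).IsAmalgamation s :=
    Presieve.IsSheafFor.isAmalgamation
      (((isSheaf_iff_isSheaf_of_type _ _).1 (hsh i)).isSheafFor _
        (by simpa using sieve_mem _ hf' i)) (compatible_familyOfElements w φ i)
  simpa [hom, familyOfElements_eq w φ (Z := Over.mk q) _ a fac,
    presheafHomObjHomEquiv, pullHom, mapComp'_id_comp_hom_app,
    mapComp'_id_comp_inv_app] using hs _ (mem_sieve _ _ fac)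

set_option backward.isDefEq.respectTransparency false in
@[reassoc]
lemma comm ⦃W : C⦄ (q : W ⟶ S) ⦃i₁ i₂ : ι⦄
    (f₁ : W ⟶ X i₁) (f₂ : W ⟶ X i₂) (hf₁ : f₁ ≫ f i₁ = q := by cat_disch)
    (hf₂ : f₂ ≫ f i₂ = q := by cat_disch) :
    (F.map f₁.op.toLoc).toFunctor.map (hom w hf' hsh φ i₁) ≫ D₂.hom q f₁ f₂ =
    D₁.hom q f₁ f₂ ≫ (F.map f₂.op.toLoc).toFunctor.map (hom w hf' hsh φ i₂) := by
  rw [← cancel_mono (D₂.hom q f₂ f₁), Category.assoc,
    Category.assoc, DescentData.hom_comp, D₂.hom_self _ _ hf₁, Category.comp_id]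
  have H : (Sieve.overEquiv (Over.mk f₁)).symm
      (Sieve.pullback q (Sieve.ofArrows X' f')) ∈ J.over _ _ := by
    rw [J.mem_over_iff, OrderIso.apply_symm_apply]
    exact J.pullback_stable _ hf'
  refine ((isSheaf_iff_isSheaf_of_type _ _).1
    (hsh i₁) _ H).isSeparatedFor.ext ?_
  rintro T p ⟨_, g, _, ⟨j⟩, fac⟩
  obtain ⟨T, t, rfl⟩ := T.mk_surjective
  obtain ⟨p, hp, rfl⟩ := Over.homMk_surjective p
  dsimp [pullHom] at t g p hp fac ⊢
  subst hp
  simp only [mapComp'_inv_naturality, Cat.Hom.comp_toFunctor, Functor.comp_obj,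
    Cat.Hom.hom_inv_id_toNatTrans_app_assoc, Functor.map_comp, Category.assoc]
  rw [← F.mapComp'_naturality_1 f₂.op.toLoc p.op.toLoc (p ≫ f₂).op.toLoc (by grind),
    map_hom _ _ _ _ _ g (by grind), map_hom _ _ _ _ _ g (by grind),
    mor_eq _ _ _ _ (by grind) (p ≫ q) _ (by grind) rfl,
    mor_eq _ _ _ _ (by grind) (p ≫ q) _ (by grind) rfl,
    map_eq_pullHom _ _ _ _ rfl rfl, map_eq_pullHom _ _ _ _ rfl rfl,
    pullHom_hom _ _ _ _ rfl _ _ hf₁ hf₂ _ _ rfl rfl,
    pullHom_hom _ _ _ _ rfl _ _ hf₂ hf₁ _ _ rfl rfl]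
  simp

set_option backward.isDefEq.respectTransparency.types false in
include w hf' hsh in
lemma surjective_pullFunctor :
    Function.Surjective
      ((pullFunctor F (f := f) (p := 𝟙 _) (f' := f') (p' := p') (by cat_disch)).map :
        (D₁ ⟶ D₂) → _) := fun φ ↦
    ⟨{ hom := fun i ↦ hom w hf' hsh φ i, comm := comm _ _ _ _ }, by
      ext i
      dsimp
      rw [map_hom _ _ _ _ _ (𝟙 _) (by cat_disch),
        mor_eq _ _ _ _ _ (f' i) (p' i), pullHom_id,
        D₁.hom_self _ _ (by cat_disch), D₂.hom_self _ _ (by cat_disch),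
        Category.id_comp, Category.comp_id]⟩

include w hf' hsh in
/-- the pullback functor of descent data to a covering refinement is fully faithful on pairs of
descent data whose homomorphisms form sheaves. -/
theorem bijective_pullFunctor :
    Function.Bijective
      ((pullFunctor F (f := f) (p := 𝟙 _) (f' := f') (p' := p') (by cat_disch)).map :
        (D₁ ⟶ D₂) → _) :=
  ⟨injective_pullFunctor w hf' hsh, surjective_pullFunctor w hf' hsh⟩

end Groth.Agent.Sga3C.DDFull
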