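import Groth.Agent.Sga3C.DDFull

/-!
# Gluing of morphisms over a covering sieve and locality of effectivity of descent data
-/

set_option autoImplicit false
set_option backward.defeqAttrib.useBackward true

universe t t' v' v u' u w

namespace Groth.Agent.Sga3C.DDGlue

open CategoryTheory Limits Opposite Bicategory Pseudofunctor Pseudofunctor.DescentData
open Pseudofunctor.LocallyDiscreteOpToCat

variable {C : Type u} [Category.{v} C] {F : LocallyDiscrete Cᵒᵖ ⥤ᵖ Cat.{v', u'}}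

section pullHomLemmas

variable {X₁ X₂ X₃ Y Y' : C} {M₁ : F.obj (.mk (op X₁))} {M₂ : F.obj (.mk (op X₂))}
  {M₃ : F.obj (.mk (op X₃))} {f₁ : Y ⟶ X₁} {f₂ : Y ⟶ X₂} {f₃ : Y ⟶ X₃}

set_option backward.isDefEq.respectTransparency false in
theorem pullHom_comp
    (φ : (F.map f₁.op.toLoc).toFunctor.obj M₁ ⟶ (F.map f₂.op.toLoc).toFunctor.obj M₂)
    (ψ : (F.map f₂.op.toLoc).toFunctor.obj M₂ ⟶ (F.map f₃.op.toLoc).toFunctor.obj M₃)
    (g : Y' ⟶ Y) (gf₁ : Y' ⟶ X₁) (gf₂ : Y' ⟶ X₂) (gf₃ : Y' ⟶ X₃) (h₁ : g ≫ f₁ = gf₁)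
    (h₂ : g ≫ f₂ = gf₂) (h₃ : g ≫ f₃ = gf₃) :
    pullHom (φ ≫ ψ) g gf₁ gf₃ h₁ h₃ = pullHom φ g gf₁ gf₂ h₁ h₂ ≫ pullHom ψ g gf₂ gf₃ h₂ h₃ := by
  simp [pullHom]

set_option backward.isDefEq.respectTransparency false in
theorem pullHom_one (M : F.obj (.mk (op X₁))) (g : Y' ⟶ Y) (gf₁ : Y' ⟶ X₁)
    (h₁ : g ≫ f₁ = gf₁) :
    pullHom (𝟙 ((F.map f₁.op.toLoc).toFunctor.obj M)) g gf₁ gf₁ h₁ h₁ = 𝟙 _ := by
  simp [pullHom]

set_option backward.isDefEq.respectTransparency false in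
theorem pullHom_map {M N : F.obj (.mk (op X₁))} (φ : M ⟶ N) (g : Y' ⟶ Y) (gf₁ : Y' ⟶ X₁)
    (h₁ : g ≫ f₁ = gf₁) :
    pullHom ((F.map f₁.op.toLoc).toFunctor.map φ) g gf₁ gf₁ h₁ h₁ =
      (F.map gf₁.op.toLoc).toFunctor.map φ := by
  dsimp only [pullHom]
  have := F.mapComp'_naturality_2 f₁.op.toLoc g.op.toLoc gf₁.op.toLoc (by subst h₁; rfl) φ
  exact this

/-- the comparison `z^* a^* M ⟶ (z ≫ a)^* M` -/
abbrev cInv {X Y Z : C} (a : Y ⟶ X) (z : Z ⟶ Y) (za : Z ⟶ X) (h : z ≫ a = za)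
    (M : F.obj (.mk (op X))) :
    (F.map z.op.toLoc).toFunctor.obj ((F.map a.op.toLoc).toFunctor.obj M) ⟶
      (F.map za.op.toLoc).toFunctor.obj M :=
  (F.mapComp' a.op.toLoc z.op.toLoc za.op.toLoc (by subst h; rfl)).inv.toNatTrans.app M

/-- the comparison `(z ≫ a)^* M ⟶ z^* a^* M` -/
abbrev cHom {X Y Z : C} (a : Y ⟶ X) (z : Z ⟶ Y) (za : Z ⟶ X) (h : z ≫ a = za)
    (M : F.obj (.mk (op X))) :
    (F.map za.op.toLoc).toFunctor.obj M ⟶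
      (F.map z.op.toLoc).toFunctor.obj ((F.map a.op.toLoc).toFunctor.obj M) :=
  (F.mapComp' a.op.toLoc z.op.toLoc za.op.toLoc (by subst h; rfl)).hom.toNatTrans.app M

@[reassoc]
theorem cHom_cInv {X Y Z : C} (a : Y ⟶ X) (z : Z ⟶ Y) (za : Z ⟶ X) (h : z ≫ a = za)
    (M : F.obj (.mk (op X))) : cHom a z za h M ≫ cInv a z za h M = 𝟙 _ :=
  Cat.Hom.hom_inv_id_toNatTrans_app _ _

@[reassoc]
theorem cInv_cHom {X Y Z : C} (a : Y ⟶ X) (z : Z ⟶ Y) (za : Z ⟶ X) (h : z ≫ a = za)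
    (M : F.obj (.mk (op X))) : cInv a z za h M ≫ cHom a z za h M = 𝟙 _ :=
  Cat.Hom.inv_hom_id_toNatTrans_app _ _

set_option backward.isDefEq.respectTransparency false in
theorem pullHom_cInv {X Y Z Z' : C} (a : Y ⟶ X) (z : Z ⟶ Y) (za : Z ⟶ X) (h : z ≫ a = za)
    (M : F.obj (.mk (op X))) (t : Z' ⟶ Z) (tz : Z' ⟶ Y) (tza : Z' ⟶ X) (h₁ : t ≫ z = tz)
    (h₂ : t ≫ za = tza) (h₃ : tz ≫ a = tza) :
    pullHom (cInv a z za h M) t tz tza h₁ h₂ = cInv a tz tza h₃ M := by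
  dsimp only [pullHom, cInv]
  have := F.mapComp'₀₁₃_inv_app a.op.toLoc z.op.toLoc t.op.toLoc za.op.toLoc tz.op.toLoc
    tza.op.toLoc (by subst h; rfl) (by subst h₁; rfl) (by subst h₃; rfl) M
  rw [this]

set_option backward.isDefEq.respectTransparency false in
theorem pullHom_cHom {X Y Z Z' : C} (a : Y ⟶ X) (z : Z ⟶ Y) (za : Z ⟶ X) (h : z ≫ a = za)
    (M : F.obj (.mk (op X))) (t : Z' ⟶ Z) (tz : Z' ⟶ Y) (tza : Z' ⟶ X) (h₁ : t ≫ z = tz)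
    (h₂ : t ≫ za = tza) (h₃ : tz ≫ a = tza) :
    pullHom (cHom a z za h M) t tza tz h₂ h₁ = cHom a tz tza h₃ M := by
  dsimp only [pullHom, cHom]
  have := F.mapComp'₀₁₃_hom_app a.op.toLoc z.op.toLoc t.op.toLoc za.op.toLoc tz.op.toLoc
    tza.op.toLoc (by subst h; rfl) (by subst h₁; rfl) (by subst h₃; rfl) M
  rw [this]

set_option backward.isDefEq.respectTransparency false in
theorem map_eq {X₁ X₂ Y Z : C} {M₁ : F.obj (.mk (op X₁))} {M₂ : F.obj (.mk (op X₂))}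
    {f₁ : Y ⟶ X₁} {f₂ : Y ⟶ X₂}
    (φ : (F.map f₁.op.toLoc).toFunctor.obj M₁ ⟶ (F.map f₂.op.toLoc).toFunctor.obj M₂)
    (g : Z ⟶ Y) (gf₁ : Z ⟶ X₁) (gf₂ : Z ⟶ X₂) (h₁ : g ≫ f₁ = gf₁) (h₂ : g ≫ f₂ = gf₂) :
    (F.map g.op.toLoc).toFunctor.map φ =
      cInv f₁ g gf₁ h₁ M₁ ≫ pullHom φ g gf₁ gf₂ h₁ h₂ ≫ cHom f₂ g gf₂ h₂ M₂ :=
  map_eq_pullHom φ g gf₁ gf₂ h₁ h₂

end pullHomLemmas

section glue

variable {J : GrothendieckTopology C} {Y : C}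

set_option backward.isDefEq.respectTransparency false in
theorem map_eq_of_isAmalgamation {M N : F.obj (.mk (op Y))}
    (s : (F.presheafHom M N).obj (op (Over.mk (𝟙 Y)))) {Z : C} (z : Z ⟶ Y) :
    (F.map z.op.toLoc).toFunctor.map (F.presheafHomObjHomEquiv.symm s) =
      (F.presheafHom M N).map (Over.homMk z : Over.mk z ⟶ Over.mk (𝟙 Y)).op s := by
  simp [presheafHomObjHomEquiv, pullHom, mapComp'_id_comp_hom_app, mapComp'_id_comp_inv_app]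

set_option backward.isDefEq.respectTransparency false in
/-- gluing of a morphism from its restrictions to the members of a covering sieve, with labels. -/
theorem existsUnique_of_labels {M N : F.obj (.mk (op Y))}
    (hsh : Presheaf.IsSheaf (J.over Y) (F.presheafHom M N))
    (T : Sieve Y) (hT : T ∈ J Y) (L : ∀ ⦃Z : C⦄, (Z ⟶ Y) → Type w)
    (hL : ∀ ⦃Z : C⦄ (z : Z ⟶ Y), T z ↔ Nonempty (L z))
    (θ : ∀ ⦃Z : C⦄ (z : Z ⟶ Y), L z →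
      ((F.map z.op.toLoc).toFunctor.obj M ⟶ (F.map z.op.toLoc).toFunctor.obj N))
    (hθ : ∀ ⦃Z' Z : C⦄ (t : Z' ⟶ Z) (z : Z ⟶ Y) (tz : Z' ⟶ Y) (h : t ≫ z = tz) (l : L z)
      (l' : L tz), pullHom (θ z l) t tz tz h h = θ tz l') :
    ∃! φ : M ⟶ N, ∀ ⦃Z : C⦄ (z : Z ⟶ Y) (l : L z),
      (F.map z.op.toLoc).toFunctor.map φ = θ z l := by
  classical
  let T' : Sieve (Over.mk (𝟙 Y)) := (Sieve.overEquiv (Over.mk (𝟙 Y))).symm T
  have hT' : T' ∈ J.over Y (Over.mk (𝟙 Y)) := by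
    rw [J.mem_over_iff, OrderIso.apply_symm_apply]
    exact hT
  have hmem : ∀ {Z : Over Y} (g : Z ⟶ Over.mk (𝟙 Y)), T' g ↔ T Z.hom := by
    intro Z g
    have : g.left = Z.hom := by simpa using! Over.w g
    change T g.left ↔ _
    rw [this]
  let x : Presieve.FamilyOfElements (F.presheafHom M N) T'.arrows := fun Z g hg =>
    θ Z.hom ((hL Z.hom).1 ((hmem g).1 hg)).some
  have hx : x.Compatible := by
    intro Y₁ Y₂ Z g₁ g₂ f₁ f₂ h₁ h₂ fac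
    have e₁ : g₁.left ≫ Y₁.hom = Z.hom := Over.w g₁
    have e₂ : g₂.left ≫ Y₂.hom = Z.hom := Over.w g₂
    have hZ : T Z.hom := by
      rw [← e₁]
      exact T.downward_closed ((hmem f₁).1 h₁) _
    exact (hθ g₁.left Y₁.hom Z.hom e₁ _ ((hL _).1 hZ).some).trans
      (hθ g₂.left Y₂.hom Z.hom e₂ _ ((hL _).1 hZ).some).symm
  have hsh' := ((isSheaf_iff_isSheaf_of_type _ _).1 hsh) _ hT'
  obtain ⟨s, hs, hs'⟩ := hsh' x hx
  have key : ∀ ⦃Z : C⦄ (z : Z ⟶ Y) (l : L z),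
      (F.map z.op.toLoc).toFunctor.map (F.presheafHomObjHomEquiv.symm s) = θ z l := by
    intro Z z l
    rw [map_eq_of_isAmalgamation]
    have hz : T' (Over.homMk z : Over.mk z ⟶ Over.mk (𝟙 Y)) := (hmem _).2 ((hL z).2 ⟨l⟩)
    refine (hs _ hz).trans ?_
    have h2 := hθ (𝟙 Z) z z (Category.id_comp z) ((hL z).1 ((hmem
      (Over.homMk z : Over.mk z ⟶ Over.mk (𝟙 Y))).1 hz)).some l
    rw [pullHom_id] at h2
    exact h2
  refine ⟨F.presheafHomObjHomEquiv.symm s, key, ?_⟩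
  intro φ hφ
  rw [Equiv.eq_symm_apply]
  apply hs'
  intro Z g hg
  obtain ⟨Z, z, rfl⟩ := Z.mk_surjective
  obtain rfl : g = Over.homMk z := by
    ext
    simpa using! Over.w g
  have h3 := map_eq_of_isAmalgamation (F.presheafHomObjHomEquiv φ) z
  rw [Equiv.symm_apply_apply] at h3
  rw [← h3]
  exact hφ z _

/-- gluing of a morphism `a^* M ⟶ b^* N` from its restrictions, with labels. -/
theorem existsUnique_pullHom {X₁ X₂ : C} {M : F.obj (.mk (op X₁))} {N : F.obj (.mk (op X₂))}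
    (a : Y ⟶ X₁) (b : Y ⟶ X₂)
    (hsh : Presheaf.IsSheaf (J.over Y) (F.presheafHom ((F.map a.op.toLoc).toFunctor.obj M)
      ((F.map b.op.toLoc).toFunctor.obj N)))
    (T : Sieve Y) (hT : T ∈ J Y) (L : ∀ ⦃Z : C⦄, (Z ⟶ Y) → Type w)
    (hL : ∀ ⦃Z : C⦄ (z : Z ⟶ Y), T z ↔ Nonempty (L z))
    (θ : ∀ ⦃Z : C⦄ (z : Z ⟶ Y), L z →
      ((F.map (z ≫ a).op.toLoc).toFunctor.obj M ⟶ (F.map (z ≫ b).op.toLoc).toFunctor.obj N))
    (hθ : ∀ ⦃Z' Z : C⦄ (t : Z' ⟶ Z) (z : Z ⟶ Y) (l : L z)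
      (l' : L (t ≫ z)), pullHom (θ z l) t ((t ≫ z) ≫ a) ((t ≫ z) ≫ b)
        (Category.assoc _ _ _).symm (Category.assoc _ _ _).symm = θ (t ≫ z) l') :
    ∃! φ : (F.map a.op.toLoc).toFunctor.obj M ⟶ (F.map b.op.toLoc).toFunctor.obj N,
      ∀ ⦃Z : C⦄ (z : Z ⟶ Y) (_ : L z), pullHom φ z (z ≫ a) (z ≫ b) rfl rfl = θ z ‹_› := by
  have key : ∀ (φ : (F.map a.op.toLoc).toFunctor.obj M ⟶ (F.map b.op.toLoc).toFunctor.obj N)
      ⦃Z : C⦄ (z : Z ⟶ Y) (l : L z), pullHom φ z (z ≫ a) (z ≫ b) rfl rfl = θ z l ↔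
      (F.map z.op.toLoc).toFunctor.map φ =
        cInv a z (z ≫ a) rfl M ≫ θ z l ≫ cHom b z (z ≫ b) rfl N := by
    intro φ Z z l
    rw [map_eq φ z (z ≫ a) (z ≫ b) rfl rfl]
    constructor
    · intro h
      rw [h]
    · intro h
      have h2 := congrArg (fun ψ => cHom a z (z ≫ a) rfl M ≫ ψ ≫ cInv b z (z ≫ b) rfl N) h
      simpa only [Category.assoc, cHom_cInv, cHom_cInv_assoc, Category.comp_id,
        Category.id_comp] using h2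
  have h1 := existsUnique_of_labels hsh T hT L hL
    (fun Z z l => cInv a z (z ≫ a) rfl M ≫ θ z l ≫ cHom b z (z ≫ b) rfl N) (by
      intro Z' Z t z tz h l l'
      subst h
      rw [pullHom_comp (cInv a z (z ≫ a) rfl M) (θ z l ≫ cHom b z (z ≫ b) rfl N) t (t ≫ z)
        ((t ≫ z) ≫ a) (t ≫ z) rfl (Category.assoc _ _ _).symm rfl,
        pullHom_comp (θ z l) (cHom b z (z ≫ b) rfl N) t ((t ≫ z) ≫ a)
        ((t ≫ z) ≫ b) (t ≫ z) (Category.assoc _ _ _).symm (Category.assoc _ _ _).symm rfl,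
        pullHom_cInv a z _ rfl M t _ _ _ _ rfl, pullHom_cHom b z _ rfl N t _ _ _ _ rfl,
        hθ t z l l'])
  obtain ⟨φ, hφ, hφ'⟩ := h1
  refine ⟨φ, fun Z z l => (key φ z l).2 (hφ z l), fun ψ hψ => hφ' ψ ?_⟩
  intro Z z l
  exact (key ψ z l).1 (hψ z l)

end glue

end Groth.Agent.Sga3C.DDGlue
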