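import Groth.Agent.Sga3C.DDLocal

/-!
# Constructor for isomorphisms with canonical descent data
-/

set_option autoImplicit false
set_option backward.isDefEq.respectTransparency false
set_option backward.isDefEq.respectTransparency.types false

universe t v' v u' u
namespace Groth.Agent.Sga3C.DDIso
open CategoryTheory CategoryTheory.Limits Opposite
open Groth.Agent.Sga3C.DDGlue
open CategoryTheory.Pseudofunctor CategoryTheory.Pseudofunctor.LocallyDiscreteOpToCat

variable {C : Type u} [Category.{v} C] {F : Pseudofunctor (LocallyDiscrete Cᵒᵖ) Cat.{v', u'}}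

theorem toDD_hom {S : C} {κ : Type t}
    {U : κ → C} {u : ∀ j, U j ⟶ S} (M : F.obj (.mk (op S))) {Y : C} (q : Y ⟶ S) {j k : κ}
    (y : Y ⟶ U j)
    (y' : Y ⟶ U k) (hy : y ≫ u j = q) (hy' : y' ≫ u k = q) :
    ((F.toDescentData u).obj M).hom q y y' hy hy' =
    cInv (F := F) (u j) y q hy M ≫ cHom (F := F) (u k) y' q hy' M :=
  rfl

/-- Constructor of isomorphisms `toDescentData M ≅ D`. -/
noncomputable def isoMk {S : C} {κ : Type t}
    {U : κ → C} {u : ∀ j, U j ⟶ S} (M : F.obj (.mk (op S))) (D : F.DescentData u)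
    (e : ∀ k, (F.map (u k).op.toLoc).toFunctor.obj M ≅ D.obj k)
    (h : ∀ ⦃Y : C⦄ ⦃j k : κ⦄ (y : Y ⟶ U j) (y' : Y ⟶ U k) (hy' : y' ≫ u k = y ≫ u j),
      cHom (F := F) (u j) y (y ≫ u j) rfl M ≫
        (F.map y.op.toLoc).toFunctor.map (e j).hom ≫ D.hom (y ≫ u j) y y' rfl hy' =
      cHom (F := F) (u k) y' (y ≫ u j) hy' M ≫
        (F.map y'.op.toLoc).toFunctor.map (e k).hom) :
    (F.toDescentData u).obj M ≅ D :=
  DescentData.isoMk e (by
    intro Y q j k y y' hy hy'
    subst hy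
    have hc : IsIso (cHom (F := F) (u j) y (y ≫ u j) rfl M) :=
      ⟨cInv (F := F) (u j) y (y ≫ u j) rfl M, cHom_cInv _ _ _ _ _, cInv_cHom _ _ _ _ _⟩
    rw [toDD_hom, ← cancel_epi (cHom (F := F) (u j) y (y ≫ u j) rfl M), Category.assoc,
      cHom_cInv_assoc]
    exact h y y' hy')

end Groth.Agent.Sga3C.DDIso
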