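import Groth.Agent.Sga3C.DDGlue

/-!
# Locality of effectivity of descent data
-/

set_option autoImplicit false
set_option backward.defeqAttrib.useBackward true

universe t t' v' v u' u w

namespace Groth.Agent.Sga3C.DDLocal

open CategoryTheory Limits Opposite Bicategory Pseudofunctor Pseudofunctor.DescentData
open Pseudofunctor.LocallyDiscreteOpToCat
open Groth.Agent.Sga3C.DDGlue

variable {C : Type u} [Category.{v} C] {F : LocallyDiscrete Cᵒᵖ ⥤ᵖ Cat.{v', u'}}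
  {ι : Type t} {S : C} {X : ι → C} {f : ∀ i, X i ⟶ S}

set_option backward.isDefEq.respectTransparency false in
theorem pullFunctor_hom {S' : C} {p : S' ⟶ S} {ι' : Type t'} {X' : ι' → C} {f' : ∀ j, X' j ⟶ S'}
    {α : ι' → ι} {p' : ∀ j, X' j ⟶ X (α j)} (w : ∀ j, p' j ≫ f (α j) = f' j ≫ p)
    (D : F.DescentData f)
    ⦃Y : C⦄ (q : Y ⟶ S') ⦃j₁ j₂ : ι'⦄ (f₁ : Y ⟶ X' j₁) (f₂ : Y ⟶ X' j₂)
    (q' : Y ⟶ S) (f₁' : Y ⟶ X (α j₁)) (f₂' : Y ⟶ X (α j₂))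
    (hf₁ : f₁ ≫ f' j₁ = q) (hf₂ : f₂ ≫ f' j₂ = q)
    (hf₁' : f₁ ≫ p' j₁ = f₁')
    (hf₂' : f₂ ≫ p' j₂ = f₂') (h₁ : f₁' ≫ f (α j₁) = q') (h₂ : f₂' ≫ f (α j₂) = q') :
    ((pullFunctor F w).obj D).hom q f₁ f₂ hf₁ hf₂ =
      cInv (p' j₁) f₁ f₁' hf₁' (D.obj (α j₁)) ≫ D.hom q' f₁' f₂' h₁ h₂ ≫
      cHom (p' j₂) f₂ f₂' hf₂' (D.obj (α j₂)) := by
  subst hf₁
  have hq' : (f₁ ≫ f' j₁) ≫ p = q' := by
    rw [← h₁, ← hf₁', Category.assoc, Category.assoc, w]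
  exact pullFunctorObjHom_eq w D (f₁ ≫ f' j₁) f₁ f₂ q' f₁' f₂' rfl hf₂ hq' hf₁' hf₂'

/-- An object `M` on `U` with an identification of its canonical descent datum with the
restriction of `D` along `q : U ⟶ S`. -/
structure Eff (D : F.DescentData f) {U : C} (q : U ⟶ S) (M : F.obj (.mk (op U))) where
  /-- the identification -/
  ε ⦃Z : C⦄ (z : Z ⟶ U) (r : Z ⟶ S) ⦃i : ι⦄ (x : Z ⟶ X i) (hz : z ≫ q = r)
    (hx : x ≫ f i = r) :
    (F.map z.op.toLoc).toFunctor.obj M ≅ (F.map x.op.toLoc).toFunctor.obj (D.obj i)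
  pull ⦃Z Z' : C⦄ (t : Z' ⟶ Z) (z : Z ⟶ U) (r : Z ⟶ S) ⦃i : ι⦄ (x : Z ⟶ X i)
    (hz : z ≫ q = r) (hx : x ≫ f i = r) (tz : Z' ⟶ U) (tr : Z' ⟶ S) (tx : Z' ⟶ X i)
    (h₁ : t ≫ z = tz) (h₂ : t ≫ x = tx) (h₃ : tz ≫ q = tr) (h₄ : tx ≫ f i = tr) :
    pullHom (ε z r x hz hx).hom t tz tx h₁ h₂ = (ε tz tr tx h₃ h₄).hom
  compat ⦃Z : C⦄ (z : Z ⟶ U) (r : Z ⟶ S) ⦃i j : ι⦄ (x : Z ⟶ X i) (y : Z ⟶ X j)
    (hz : z ≫ q = r) (hx : x ≫ f i = r) (hy : y ≫ f j = r) :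
    (ε z r x hz hx).hom ≫ D.hom r x y hx hy = (ε z r y hz hy).hom

namespace Eff

set_option backward.isDefEq.respectTransparency false in
/-- an isomorphism of `toDescentData M` with the pullback of `D` to `U`, in terms of a family of
chosen pullbacks, gives `Eff`. -/
noncomputable def ofIso (D : F.DescentData f) {U : C} {q : U ⟶ S} {V : ι → C} {v : ∀ i, V i ⟶ U}
    {p : ∀ i, V i ⟶ X i} (hpb : ∀ i, IsPullback (p i) (v i) (f i) q) (M : F.obj (.mk (op U)))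
    (e : (F.toDescentData v).obj M ≅
      (pullFunctor F (p := q) (α := fun i => i) (f := f) (f' := v) (p' := p)
        (fun i => (hpb i).w)).obj D) : Eff D q M where
  ε Z z r i x hz hx :=
    { hom := pullHom (F := F) (M₁ := M) (M₂ := D.obj i) (f₁ := v i) (f₂ := p i) (e.hom.hom i)
        ((hpb i).lift x z (hx.trans hz.symm)) z x (by simp) (by simp)
      inv := pullHom (F := F) (M₁ := D.obj i) (M₂ := M) (f₁ := p i) (f₂ := v i) (e.inv.hom i)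
        ((hpb i).lift x z (hx.trans hz.symm)) x z (by simp) (by simp)
      hom_inv_id := by
        rw [← pullHom_comp (F := F) (M₁ := M) (M₂ := D.obj i) (M₃ := M)]
        have : e.hom.hom i ≫ e.inv.hom i = 𝟙 _ := by
          rw [← comp_hom, e.hom_inv_id, id_hom]
        erw [this]
        exact pullHom_one M _ _ _
      inv_hom_id := by
        rw [← pullHom_comp (F := F) (M₁ := D.obj i) (M₂ := M) (M₃ := D.obj i)]
        have : e.inv.hom i ≫ e.hom.hom i = 𝟙 _ := by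
          rw [← comp_hom, e.inv_hom_id, id_hom]
        erw [this]
        exact pullHom_one (D.obj i) _ _ _ }
  pull Z Z' t z r i x hz hx tz tr tx h₁ h₂ h₃ h₄ := by
    dsimp only
    rw [pullHom_pullHom]
    have : t ≫ (hpb i).lift x z (hx.trans hz.symm) =
        (hpb i).lift tx tz (h₄.trans h₃.symm) := by
      apply (hpb i).hom_ext <;> simp [h₁, h₂]
    simp only [this]
  compat Z z r i j x y hz hx hy := by
    dsimp only
    have h := e.hom.comm z ((hpb i).lift x z (hx.trans hz.symm))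
      ((hpb j).lift y z (hy.trans hz.symm)) (by simp) (by simp)
    rw [pullFunctor_hom (α := fun i => i) (fun i => (hpb i).w) D z
      ((hpb i).lift x z (hx.trans hz.symm)) ((hpb j).lift y z (hy.trans hz.symm))
      r x y (by simp) (by simp) (by simp) (by simp) hx hy] at h
    have h4 : ((F.toDescentData v).obj M).hom z ((hpb i).lift x z (hx.trans hz.symm))
      ((hpb j).lift y z (hy.trans hz.symm)) (by simp) (by simp) =
        cInv (v i) ((hpb i).lift x z (hx.trans hz.symm)) z (by simp) M ≫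
          cHom (v j) ((hpb j).lift y z (hy.trans hz.symm)) z (by simp) M := rfl
    rw [h4] at h
    have h5 := map_eq (F := F) (M₁ := M) (M₂ := D.obj i) (f₁ := v i) (f₂ := p i) (e.hom.hom i)
      ((hpb i).lift x z (hx.trans hz.symm)) z x (by simp) (by simp)
    have h6 := map_eq (F := F) (M₁ := M) (M₂ := D.obj j) (f₁ := v j) (f₂ := p j) (e.hom.hom j)
      ((hpb j).lift y z (hy.trans hz.symm)) z y (by simp) (by simp)
    erw [h5, h6] at h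
    simp only [Category.assoc, cHom_cInv_assoc] at h
    have h7 := congrArg (fun ψ => cHom (v i) ((hpb i).lift x z (hx.trans hz.symm)) z (by simp) M ≫
      ψ ≫ cInv (p j) ((hpb j).lift y z (hy.trans hz.symm)) y (by simp) (D.obj j)) h
    simpa only [Category.assoc, cHom_cInv_assoc, cHom_cInv, Category.comp_id] using h7

theorem pull_inv {D : F.DescentData f} {U : C} {q : U ⟶ S} {M : F.obj (.mk (op U))}
    (A : Eff D q M) ⦃Z Z' : C⦄ (t : Z' ⟶ Z) (z : Z ⟶ U) (r : Z ⟶ S) ⦃i : ι⦄ (x : Z ⟶ X i)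
    (hz : z ≫ q = r) (hx : x ≫ f i = r) (tz : Z' ⟶ U) (tr : Z' ⟶ S) (tx : Z' ⟶ X i)
    (h₁ : t ≫ z = tz) (h₂ : t ≫ x = tx) (h₃ : tz ≫ q = tr) (h₄ : tx ≫ f i = tr) :
    pullHom (A.ε z r x hz hx).inv t tx tz h₂ h₁ = (A.ε tz tr tx h₃ h₄).inv := by
  have e3 := pullHom_comp (A.ε z r x hz hx).inv (A.ε z r x hz hx).hom t tx tz tx h₂ h₁ h₂
  rw [Iso.inv_hom_id, pullHom_one, A.pull t z r x hz hx tz tr tx h₁ h₂ h₃ h₄] at e3
  rw [← cancel_mono (A.ε tz tr tx h₃ h₄).hom, ← e3, Iso.inv_hom_id]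

end Eff

theorem aux_iso {E : Type*} [Category E] {A B B' C' : E} (α : A ≅ B) (β : C' ≅ B) (γ : B ⟶ B')
    (α' : A ≅ B') (β' : C' ≅ B') (h₁ : α.hom ≫ γ = α'.hom) (h₂ : β.hom ≫ γ = β'.hom) :
    α.hom ≫ β.inv = α'.hom ≫ β'.inv := by
  rw [Iso.eq_comp_inv, ← h₂, ← h₁, Category.assoc, Iso.inv_hom_id_assoc]

section glue

variable {J : GrothendieckTopology C}

variable (f) in
/-- labels -/
abbrev Lab {Y : C} (r : Y ⟶ S) ⦃Z : C⦄ (z : Z ⟶ Y) : Type (max t v) :=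
  Σ i, {x : Z ⟶ X i // x ≫ f i = z ≫ r}

theorem pullback_ofArrows_iff {Y : C} (r : Y ⟶ S) ⦃Z : C⦄ (z : Z ⟶ Y) :
    (Sieve.pullback r (Sieve.ofArrows X f)) z ↔ Nonempty (Lab f r z) := by
  constructor
  · rintro ⟨_, x, _, ⟨i⟩, hx⟩
    exact ⟨⟨i, x, hx⟩⟩
  · rintro ⟨i, x, hx⟩
    exact ⟨_, x, _, ⟨i⟩, hx⟩

/-- existence and uniqueness of the comparison of two effectivizations. -/
theorem existsUnique_glueHom (hf : Sieve.ofArrows X f ∈ J S) {D : F.DescentData f}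
    {U₁ U₂ Y : C} {q₁ : U₁ ⟶ S} {q₂ : U₂ ⟶ S}
    {M₁ : F.obj (.mk (op U₁))} {M₂ : F.obj (.mk (op U₂))} (A : Eff D q₁ M₁) (B : Eff D q₂ M₂)
    (a : Y ⟶ U₁) (b : Y ⟶ U₂) (r : Y ⟶ S) (ha : a ≫ q₁ = r) (hb : b ≫ q₂ = r)
    (hsh : Presheaf.IsSheaf (J.over Y) (F.presheafHom ((F.map a.op.toLoc).toFunctor.obj M₁)
      ((F.map b.op.toLoc).toFunctor.obj M₂))) :
    ∃! φ : (F.map a.op.toLoc).toFunctor.obj M₁ ⟶ (F.map b.op.toLoc).toFunctor.obj M₂,
      ∀ ⦃Z : C⦄ (z : Z ⟶ Y) ⦃i : ι⦄ (x : Z ⟶ X i) (hx : x ≫ f i = z ≫ r),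
        pullHom φ z (z ≫ a) (z ≫ b) rfl rfl ≫
          (B.ε (z ≫ b) (z ≫ r) x (by rw [Category.assoc, hb]) hx).hom =
        (A.ε (z ≫ a) (z ≫ r) x (by rw [Category.assoc, ha]) hx).hom := by
  have key := existsUnique_pullHom a b hsh (Sieve.pullback r (Sieve.ofArrows X f))
    (J.pullback_stable r hf) (Lab f r) (fun Z z => pullback_ofArrows_iff r z)
    (fun Z z l => (A.ε (z ≫ a) (z ≫ r) l.2.1 (by rw [Category.assoc, ha]) l.2.2).hom ≫
      (B.ε (z ≫ b) (z ≫ r) l.2.1 (by rw [Category.assoc, hb]) l.2.2).inv) (by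
      rintro Z' Z t z ⟨i, x, hx⟩ ⟨j, y, hy⟩
      have hA : (t ≫ z) ≫ a ≫ q₁ = (t ≫ z) ≫ r := by rw [ha]
      have hB : (t ≫ z) ≫ b ≫ q₂ = (t ≫ z) ≫ r := by rw [hb]
      have hx' : (t ≫ x) ≫ f i = (t ≫ z) ≫ r := by rw [Category.assoc, hx, Category.assoc]
      have e1 := A.pull t (z ≫ a) (z ≫ r) x (by rw [Category.assoc, ha]) hx ((t ≫ z) ≫ a)
        ((t ≫ z) ≫ r) (t ≫ x) (by simp) rfl (by rw [Category.assoc]; exact hA) hx'
      have e2 := B.pull_inv t (z ≫ b) (z ≫ r) x (by rw [Category.assoc, hb]) hx ((t ≫ z) ≫ b)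
        ((t ≫ z) ≫ r) (t ≫ x) (by simp) rfl (by rw [Category.assoc]; exact hB) hx'
      have c1 := A.compat ((t ≫ z) ≫ a) ((t ≫ z) ≫ r) (t ≫ x) y (by rw [Category.assoc]; exact hA)
        hx' hy
      have c2 := B.compat ((t ≫ z) ≫ b) ((t ≫ z) ≫ r) (t ≫ x) y (by rw [Category.assoc]; exact hB)
        hx' hy
      refine (pullHom_comp _ _ t ((t ≫ z) ≫ a) (t ≫ x) ((t ≫ z) ≫ b) (by simp) rfl
        (by simp)).trans ?_
      exact (congrArg₂ (fun u v => u ≫ v) e1 e2).trans (aux_iso _ _ _ _ _ c1 c2))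
  obtain ⟨φ, hφ, hφ'⟩ := key
  refine ⟨φ, ?_, ?_⟩
  · intro Z z i x hx
    refine (congrArg (fun u => u ≫ (B.ε (z ≫ b) (z ≫ r) x (by rw [Category.assoc, hb]) hx).hom)
      (hφ z ⟨i, x, hx⟩)).trans ?_
    exact (Category.assoc _ _ _).trans (by rw [Iso.inv_hom_id]; exact Category.comp_id _)
  · intro ψ hψ
    apply hφ'
    rintro Z z ⟨i, x, hx⟩
    refine Eq.trans ?_ (congrArg (fun u => u ≫
      (B.ε (z ≫ b) (z ≫ r) x (by rw [Category.assoc, hb]) hx).inv) (hψ z x hx))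
    exact ((Category.assoc _ _ _).trans (by rw [Iso.hom_inv_id]; exact Category.comp_id _)).symm

section

variable (hf : Sieve.ofArrows X f ∈ J S) {D : F.DescentData f}
    {U₁ U₂ Y : C} {q₁ : U₁ ⟶ S} {q₂ : U₂ ⟶ S}
    {M₁ : F.obj (.mk (op U₁))} {M₂ : F.obj (.mk (op U₂))} (A : Eff D q₁ M₁) (B : Eff D q₂ M₂)
    (a : Y ⟶ U₁) (b : Y ⟶ U₂) (r : Y ⟶ S) (ha : a ≫ q₁ = r) (hb : b ≫ q₂ = r)
    (hsh : Presheaf.IsSheaf (J.over Y) (F.presheafHom ((F.map a.op.toLoc).toFunctor.obj M₁)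
      ((F.map b.op.toLoc).toFunctor.obj M₂)))

include hf hsh in
/-- the comparison of two effectivizations. -/
noncomputable def glueHom :
    (F.map a.op.toLoc).toFunctor.obj M₁ ⟶ (F.map b.op.toLoc).toFunctor.obj M₂ :=
  (existsUnique_glueHom hf A B a b r ha hb hsh).choose

theorem glueHom_spec ⦃Z : C⦄ (z : Z ⟶ Y) (za : Z ⟶ U₁) (zb : Z ⟶ U₂) (r' : Z ⟶ S) ⦃i : ι⦄
    (x : Z ⟶ X i) (hx : x ≫ f i = r') (h₁ : z ≫ a = za) (h₂ : z ≫ b = zb)
    (h₃ : za ≫ q₁ = r') (h₄ : zb ≫ q₂ = r') :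
    pullHom (glueHom hf A B a b r ha hb hsh) z za zb h₁ h₂ ≫ (B.ε zb r' x h₄ hx).hom =
      (A.ε za r' x h₃ hx).hom := by
  subst h₁ h₂
  obtain rfl : z ≫ r = r' := by rw [← h₃, Category.assoc, ha]
  exact (existsUnique_glueHom hf A B a b r ha hb hsh).choose_spec.1 z x hx

theorem glueHom_unique
    (φ : (F.map a.op.toLoc).toFunctor.obj M₁ ⟶ (F.map b.op.toLoc).toFunctor.obj M₂)
    (hφ : ∀ ⦃Z : C⦄ (z : Z ⟶ Y) ⦃i : ι⦄ (x : Z ⟶ X i) (hx : x ≫ f i = z ≫ r)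
      (h₃ : (z ≫ a) ≫ q₁ = z ≫ r) (h₄ : (z ≫ b) ≫ q₂ = z ≫ r),
        pullHom φ z (z ≫ a) (z ≫ b) rfl rfl ≫ (B.ε (z ≫ b) (z ≫ r) x h₄ hx).hom =
        (A.ε (z ≫ a) (z ≫ r) x h₃ hx).hom) : φ = glueHom hf A B a b r ha hb hsh :=
  (existsUnique_glueHom hf A B a b r ha hb hsh).choose_spec.2 φ
    (fun _ z _ x hx => hφ z x hx _ _)

end

section glued

variable (hf : Sieve.ofArrows X f ∈ J S) {D : F.DescentData f}
  {κ : Type t'} {U : κ → C} {g : ∀ j, U j ⟶ S} {M : ∀ j, F.obj (.mk (op (U j)))}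
  (A : ∀ j, Eff D (g j) (M j))
  (hsh : ∀ ⦃Y : C⦄ (j k : κ) (a : Y ⟶ U j) (b : Y ⟶ U k), Presheaf.IsSheaf (J.over Y)
    (F.presheafHom ((F.map a.op.toLoc).toFunctor.obj (M j))
      ((F.map b.op.toLoc).toFunctor.obj (M k))))

include hf hsh in
/-- the descent datum relative to `g` made of local effectivizations of `D`. -/
noncomputable def glued : F.DescentData g where
  obj := M
  hom Y q j k a b ha hb := glueHom hf (A j) (A k) a b q ha hb (hsh j k a b)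
  pullHom_hom Y' Y t q q' hq j k a b ha hb ta tb hta htb := by
    apply glueHom_unique
    intro Z z i x hx h₃ h₄
    rw [pullHom_pullHom]
    exact glueHom_spec hf (A j) (A k) a b q ha hb (hsh j k a b) (z ≫ t) (z ≫ ta) (z ≫ tb) (z ≫ q')
      x hx (by rw [← hta, Category.assoc]) (by rw [← htb, Category.assoc]) h₃ h₄
  hom_self Y q j a ha := by
    symm
    apply glueHom_unique
    intro Z z i x hx h₃ h₄
    rw [pullHom_one, Category.id_comp]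
  hom_comp Y q j k l a b c ha hb hc := by
    apply glueHom_unique
    intro Z z i x hx h₃ h₄
    have h₅ : (z ≫ b) ≫ g k = z ≫ q := by rw [Category.assoc, hb]
    rw [pullHom_comp _ _ z (z ≫ a) (z ≫ b) (z ≫ c) rfl rfl rfl, Category.assoc,
      glueHom_spec hf (A k) (A l) b c q hb hc (hsh k l b c) z (z ≫ b) (z ≫ c) (z ≫ q) x hx rfl rfl
        h₅ h₄,
      glueHom_spec hf (A j) (A k) a b q ha hb (hsh j k a b) z (z ≫ a) (z ≫ b) (z ≫ q) x hx rfl rfl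
        h₃ h₅]

end glued

end glue

end Groth.Agent.Sga3C.DDLocal
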