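import Groth.Agent.Sga3C.FlatPt
import Groth.Agent.Sga3C.FlatGeneric
import Groth.Agent.Sga3C.GrpBasic
import Groth.Agent.Sga3C.SchemImage
import Groth.Agent.Sga3C.KerSquare
import Groth.Agent.Sga3C.GenPts

/-!
# A homomorphism onto its schematic image is flat at all points as soon as it is flat at one

`S` is a base scheme, `G` a flat group scheme over `S`, `u : G ⟶ H` a quasi-compact homomorphism,
`C` the schematic image of `u`, `p : G ⟶ C`.
-/

set_option autoImplicit false
universe u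
open CategoryTheory MonoidalCategory CartesianMonoidalCategory MonObj GrpObj AlgebraicGeometry Limits

namespace Groth.Agent.Sga3C.FlatHomog

open Groth.Agent.Sga3C.FlatPt Groth.Agent.Sga3C.FlatGeneric Groth.Agent.Sga3C.SchemImage
  Groth.Agent.Sga3C.GrpBasic

variable {S : Scheme.{u}}

/-- Let `p : G ⟶ C` be a morphism over `S`, `G` a flat group scheme over `S`, and suppose that the
automorphism `(g, x) ↦ (g, g x)` of `G × G` is compatible with an automorphism `θ` of `G × C`.
If `p` is flat at `y`, it is flat at `x` for all `x` lying over the same point of `S`. -/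
theorem isFlatAt_of_isFlatAt {G C : Over S} [GrpObj G] [Flat G.hom] (p : G ⟶ C) (θ : G ⊗ C ≅ G ⊗ C)
    (hθ : (G ◁ p) ≫ θ.hom = (mulLeftShear (𝟙 G)).hom ≫ (G ◁ p)) (x y : G.left)
    (hxy : G.hom x = G.hom y) (hy : IsFlatAt p.left y) : IsFlatAt p.left x := by
  -- the automorphism of `G × G`
  let m := mulLeftShear (𝟙 G)
  -- a point `w` with `snd w = x` and `(m w).snd = y`
  obtain ⟨w, hw1, hw2⟩ : ∃ w : (G ⊗ G).left, (snd G G).left w = x ∧ (m.hom ≫ snd G G).left w = y := by
    obtain ⟨z, hz1, hz2⟩ : ∃ z : (G ⊗ G).left, (fst G G).left z = y ∧ (snd G G).left z = x :=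
      Scheme.Pullback.exists_preimage_pullback y x hxy.symm
    let r : G ⊗ G ⟶ G ⊗ G := lift (fst G G * (snd G G)⁻¹) (snd G G)
    refine ⟨r.left z, ?_, ?_⟩
    · have : r ≫ snd G G = snd G G := lift_snd _ _
      rw [← Scheme.Hom.comp_apply, ← Over.comp_left, this, hz2]
    · have : r ≫ m.hom ≫ snd G G = fst G G := by
        rw [mulLeftShear_hom_snd, comp_mul, Category.comp_id, lift_fst, lift_snd, inv_mul_cancel_right]
      rw [← Scheme.Hom.comp_apply, ← Over.comp_left, this, hz1]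
  have hsq : IsPullback (snd G G).left (G ◁ p).left p.left (snd G C).left :=
    (isPullback_whiskerLeft_left p G).flip
  have h1 : IsFlatAt (G ◁ p).left (m.hom.left w) := by
    refine IsFlatAt.of_isPullback hsq (m.hom.left w) ?_
    rw [← Scheme.Hom.comp_apply, ← Over.comp_left, hw2]
    exact hy
  have hiso1 : IsIso m.hom.left := inferInstance
  have hiso2 : IsIso θ.inv.left := inferInstance
  have h2 : IsFlatAt (m.hom.left ≫ (G ◁ p).left) w := (isFlatAt_of_flat _ _).comp h1
  rw [← Over.comp_left, ← hθ, Over.comp_left] at h2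
  have h3 : IsFlatAt (((G ◁ p).left ≫ θ.hom.left) ≫ θ.inv.left) w := h2.comp (isFlatAt_of_flat _ _)
  have e : θ.hom.left ≫ θ.inv.left = 𝟙 _ := by rw [← Over.comp_left, Iso.hom_inv_id, Over.id_left]
  rw [Category.assoc, e, Category.comp_id] at h3
  have := flat_snd G C
  have := flat_snd G G
  have h4 : IsFlatAt ((G ◁ p).left ≫ (snd G C).left) w := h3.comp (isFlatAt_of_flat _ _)
  rw [← hsq.w] at h4
  have h5 := IsFlatAt.of_comp (isFlatAt_of_flat _ _) h4
  rwa [hw1] at h5

/-- The left action of `G` on the schematic image of `u : G ⟶ H`. -/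
theorem exists_act {G H C : Over S} [GrpObj G] [GrpObj H] [Flat G.hom] (u : G ⟶ H) [IsMonHom u]
    (p : G ⟶ C) (i : C ⟶ H) (hpi : p ≫ i = u) [IsClosedImmersion i.left] [QuasiCompact p.left]
    [IsSchemeTheoreticallyDominant p.left] :
    ∃ θ : G ⊗ C ≅ G ⊗ C, θ.hom ≫ (G ◁ i) = (G ◁ i) ≫ (mulLeftShear u).hom ∧
      (G ◁ p) ≫ θ.hom = (mulLeftShear (𝟙 G)).hom ≫ (G ◁ p) := by
  have : Mono i := (Over.forget S).mono_of_mono_map (inferInstanceAs (Mono i.left))
  have := dominant_whiskerLeft p G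
  -- `(G ◁ i) ≫ shear` factors through `G ◁ i` for both the shear and its inverse
  have hinvsnd : (mulLeftShear u).inv ≫ snd G H = (fst G H ≫ u)⁻¹ * snd G H := by
    simp [mulLeftShear]
  obtain ⟨a, ha⟩ : ∃ a : G ⊗ C ⟶ C, a ≫ i = (G ◁ i) ≫ (mulLeftShear u).hom ≫ snd G H := by
    refine exists_lift_over (G ◁ p) ((G ◁ i) ≫ (mulLeftShear u).hom ≫ snd G H) i
      ((fst G G * snd G G) ≫ p) ?_
    rw [mulLeftShear_hom_snd, Category.assoc, hpi, MonObj.mul_comp, comp_mul, comp_mul]
    simp [hpi]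
  obtain ⟨b, hb⟩ : ∃ b : G ⊗ C ⟶ C, b ≫ i = (G ◁ i) ≫ (mulLeftShear u).inv ≫ snd G H := by
    refine exists_lift_over (G ◁ p) ((G ◁ i) ≫ (mulLeftShear u).inv ≫ snd G H) i
      (((fst G G)⁻¹ * snd G G) ≫ p) ?_
    rw [hinvsnd, Category.assoc, hpi, MonObj.mul_comp, comp_mul, comp_mul, GrpObj.inv_comp,
      GrpObj.comp_inv, GrpObj.comp_inv]
    simp [hpi]
  have hA : lift (fst G C) a ≫ (G ◁ i) = (G ◁ i) ≫ (mulLeftShear u).hom := by
    ext1
    · simp
    · simp [ha]
  have hB : lift (fst G C) b ≫ (G ◁ i) = (G ◁ i) ≫ (mulLeftShear u).inv := by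
    ext1
    · simp [mulLeftShear]
    · rw [Category.assoc, Category.assoc, ← hb]
      simp
  have hcl : IsClosedImmersion (G ◁ i).left :=
    MorphismProperty.of_isPullback (P := @IsClosedImmersion) (isPullback_whiskerLeft_left i G).flip ‹_›
  have hmono : Mono (G ◁ i) := (Over.forget S).mono_of_mono_map (inferInstanceAs (Mono (G ◁ i).left))
  have h1 : lift (fst G C) a ≫ lift (fst G C) b = 𝟙 _ := by
    rw [← cancel_mono (G ◁ i), Category.assoc, hB, reassoc_of% hA, Iso.hom_inv_id]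
    simp
  have h2 : lift (fst G C) b ≫ lift (fst G C) a = 𝟙 _ := by
    rw [← cancel_mono (G ◁ i), Category.assoc, hA, reassoc_of% hB, Iso.inv_hom_id]
    simp
  refine ⟨⟨lift (fst G C) a, lift (fst G C) b, h1, h2⟩, hA, ?_⟩
  rw [← cancel_mono (G ◁ i), Category.assoc, Category.assoc, hA]
  ext1
  · simp
  · have e1 : (G ◁ p) ≫ (G ◁ i) ≫ snd G H = snd G G ≫ u := by simp [hpi]
    have e2 : (G ◁ p) ≫ (G ◁ i) ≫ fst G H = fst G G := by simp
    have e3 : (mulLeftShear (𝟙 G)).hom ≫ snd G G = fst G G * snd G G := by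
      rw [mulLeftShear_hom_snd, Category.comp_id]
    calc ((G ◁ p) ≫ (G ◁ i) ≫ (mulLeftShear u).hom) ≫ snd G H
        = (G ◁ p) ≫ (G ◁ i) ≫ ((fst G H ≫ u) * snd G H) := by
          rw [← mulLeftShear_hom_snd, Category.assoc, Category.assoc]
      _ = (fst G G ≫ u) * (snd G G ≫ u) := by
          rw [comp_mul, comp_mul, e1, reassoc_of% e2]
      _ = (fst G G * snd G G) ≫ u := by rw [MonObj.mul_comp]
      _ = _ := by rw [← e3, Category.assoc, ← e1]; simp

end Groth.Agent.Sga3C.FlatHomog
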