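import Groth.Agent.Sga3C.GrpSep
import Groth.Agent.Sga3C.GrpBasic
import Mathlib.AlgebraicGeometry.SpreadingOut
import Mathlib.AlgebraicGeometry.Stalk
import Mathlib.AlgebraicGeometry.Morphisms.Flat
import Mathlib.RingTheory.Filtration

/-!
# Homomorphisms of group schemes which agree on the infinitesimal neighbourhoods of the unit section
-/

set_option autoImplicit false

universe u

open CategoryTheory CategoryTheory.Limits MonoidalCategory CartesianMonoidalCategory MonObj GrpObj AlgebraicGeometry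

namespace Groth.Agent.Sga3C.HomInf

/-- Two morphisms from the spectrum of a noetherian local ring which agree modulo all powers of a
proper ideal are equal. -/
theorem eq_of_forall_quotient {R : CommRingCat.{u}} [IsLocalRing R] [IsNoetherianRing R]
    (J : Ideal R) (hJ : J ≤ IsLocalRing.maximalIdeal R) {Y : Scheme.{u}} (a b : Spec R ⟶ Y)
    (h : ∀ m : ℕ, Spec.map (CommRingCat.ofHom (Ideal.Quotient.mk (J ^ (m + 1)))) ≫ a =
      Spec.map (CommRingCat.ofHom (Ideal.Quotient.mk (J ^ (m + 1)))) ≫ b) : a = b := by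
  have hy : b (IsLocalRing.closedPoint R) = a (IsLocalRing.closedPoint R) := by
    have hmem : IsLocalRing.closedPoint R ∈ Set.range
        (Spec.map (CommRingCat.ofHom (Ideal.Quotient.mk (J ^ (0 + 1))))).base := by
      change _ ∈ Set.range (PrimeSpectrum.comap (Ideal.Quotient.mk (J ^ (0 + 1))))
      rw [range_comap_of_surjective _ _ Ideal.Quotient.mk_surjective,
        Ideal.mk_ker, PrimeSpectrum.mem_zeroLocus]
      rw [zero_add, pow_one]
      exact hJ
    obtain ⟨x, hx⟩ := hmem
    rw [← hx]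
    have := congr($(h 0) x)
    rw [Scheme.Hom.comp_apply, Scheme.Hom.comp_apply] at this
    exact this.symm
  have hex : ∀ y, b (IsLocalRing.closedPoint R) = y →
      ∃ ψ : Y.presheaf.stalk y ⟶ R, b = Spec.map ψ ≫ Y.fromSpecStalk y := by
    rintro _ rfl
    exact ⟨Scheme.stalkClosedPointTo b, (Scheme.Spec_stalkClosedPointTo_fromSpecStalk b).symm⟩
  obtain ⟨ψ, hψ⟩ := hex _ hy
  obtain ⟨φ, hφ⟩ : ∃ φ : Y.presheaf.stalk (a (IsLocalRing.closedPoint R)) ⟶ R,
      a = Spec.map φ ≫ Y.fromSpecStalk (a (IsLocalRing.closedPoint R)) :=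
    ⟨Scheme.stalkClosedPointTo a, (Scheme.Spec_stalkClosedPointTo_fromSpecStalk a).symm⟩
  suffices hφψ : φ = ψ by rw [hφ, hψ, hφψ]
  ext x
  have key : ∀ m : ℕ, φ.hom x - ψ.hom x ∈ J ^ (m + 1) := by
    intro m
    have h1 : Spec.map (φ ≫ CommRingCat.ofHom (Ideal.Quotient.mk (J ^ (m + 1)))) =
        Spec.map (ψ ≫ CommRingCat.ofHom (Ideal.Quotient.mk (J ^ (m + 1)))) := by
      rw [← cancel_mono (Y.fromSpecStalk (a (IsLocalRing.closedPoint R))), Spec.map_comp,
        Spec.map_comp, Category.assoc, Category.assoc, ← hφ, ← hψ]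
      exact h m
    have h2 := Spec.map_injective h1
    have h3 := congr($(h2).hom x)
    rw [← Ideal.Quotient.eq]
    exact h3
  have h4 : φ.hom x - ψ.hom x ∈ (⨅ i : ℕ, J ^ i : Ideal R) := by
    rw [Ideal.mem_iInf]
    intro i
    exact Ideal.pow_le_pow_right (Nat.le_succ i) (key i)
  rw [Ideal.iInf_pow_eq_bot_of_isLocalRing J (fun h ↦ by
    rw [h] at hJ; exact (IsLocalRing.maximalIdeal.isMaximal R).ne_top (top_le_iff.mp hJ))] at h4
  exact sub_eq_zero.mp h4

section Grp

variable {S : Scheme.{u}} {G H : Over S} [GrpObj G] [GrpObj H]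

theorem flat_mul [Flat G.hom] : Flat (μ[G]).left := by
  have h : (GrpBasic.mulLeftShear (𝟙 G)).hom ≫ snd G G = μ[G] := by
    change lift _ _ ≫ snd G G = μ[G]
    rw [lift_snd, Category.comp_id]
    change lift _ _ ≫ μ[G] = _
    rw [lift_fst_snd, Category.id_comp]
  rw [← h, Over.comp_left]
  have h1 : Flat (snd G G).left := inferInstanceAs (Flat (pullback.snd G.hom G.hom))
  infer_instance

/-- Two homomorphisms of group schemes with geometrically irreducible fibres which agree on an open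
neighbourhood of the unit section are equal. -/
theorem eq_of_eqOn_nhd [GeometricallyIrreducible G.hom] [UniversallyOpen G.hom] [Flat G.hom]
    (u v : G ⟶ H) [IsMonHom u] [IsMonHom v] (W : G.left.Opens)
    (hW : ∀ s : S, (η[G] : 𝟙_ (Over S) ⟶ G).left s ∈ W)
    (h : W.ι ≫ u.left = W.ι ≫ v.left) : u = v := by
  let WO : Over S := Over.mk (W.ι ≫ G.hom)
  let w : WO ⟶ G := Over.homMk W.ι
  have hw : w ≫ u = w ≫ v := by
    ext1
    exact h
  let q : WO ⊗ WO ⟶ G := (w ⊗ₘ w) ≫ μ[G]
  have hq : q = (fst WO WO ≫ w) * (snd WO WO ≫ w) := by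
    change (w ⊗ₘ w) ≫ μ[G] = lift _ _ ≫ μ[G]
    congr 1
  have hq' : q ≫ u = q ≫ v := by
    rw [hq, MonObj.mul_comp, MonObj.mul_comp, Category.assoc, Category.assoc, Category.assoc,
      Category.assoc, hw]
  have hqL : q.left = pullback.map _ _ _ _ W.ι W.ι (𝟙 S) (by simp [WO]) (by simp [WO]) ≫ (μ[G]).left := rfl
  have hflat : Flat q.left := by
    rw [hqL]
    have := flat_mul (G := G)
    infer_instance
  have hsurj : Surjective q.left := by
    constructor
    intro g
    obtain ⟨k, hk1, hk2, hk3⟩ := GrpSep.exists_mul_eq G W g ⟨_, hW (G.hom g), by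
      rw [← Scheme.Hom.comp_apply, Over.w]; rfl⟩
    have hk : k ∈ Set.range (pullback.map (W.ι ≫ G.hom) (W.ι ≫ G.hom) G.hom G.hom W.ι W.ι (𝟙 S)
        (by simp) (by simp)) := by
      rw [Scheme.Pullback.range_map]
      simp only [Scheme.Opens.range_ι]
      exact ⟨hk1, hk2⟩
    obtain ⟨l, hl⟩ := hk
    refine ⟨l, ?_⟩
    rw [hqL, Scheme.Hom.comp_apply]
    erw [hl]
    exact hk3
  have : Epi q.left := Flat.epi_of_flat_of_surjective q.left
  ext1
  rw [← cancel_epi q.left, ← Over.comp_left, hq', Over.comp_left]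

end Grp

end Groth.Agent.Sga3C.HomInf
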