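import Groth.Agent.Sga3C.HopfPowIdeal
import Mathlib.RingTheory.HopfAlgebra.Convolution
import Mathlib.LinearAlgebra.Dimension.Constructions
import Mathlib.LinearAlgebra.FiniteDimensional.Lemmas
import Mathlib.LinearAlgebra.Dimension.Free

set_option autoImplicit false
open WithConv Coalgebra TensorProduct

namespace Groth.Agent.Sga3C.HopfPow

section

variable (K : Type*) [Field K] (p : ℕ) [hp : Fact p.Prime]
variable (C : Type*) [CommRing C] [HopfAlgebra K C] [CharP C p]

/-- The ideal generated by the p-th powers of the elements of the augmentation ideal. -/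
noncomputable def frobIdeal : Ideal C := (augIdeal K C).map (frobenius C p)

variable {K C}

theorem pow_mem_frobIdeal {x : C} (hx : x ∈ augIdeal K C) : x ^ p ∈ frobIdeal K p C :=
  Ideal.mem_map_of_mem (frobenius C p) hx

theorem frobIdeal_le : frobIdeal K p C ≤ augIdeal K C := by
  rw [frobIdeal, Ideal.map_le_iff_le_comap]
  intro x hx
  rw [Ideal.mem_comap]
  exact Ideal.pow_mem_of_mem _ hx p hp.out.pos

variable (K C) in
/-- The coaction on the quotient C / frobIdeal. -/
noncomputable def coq : C →ₐ[K] C ⊗[K] (C ⧸ frobIdeal K p C) :=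
  (Algebra.TensorProduct.map (AlgHom.id K C) (Ideal.Quotient.mkₐ K (frobIdeal K p C))).comp
    (Bialgebra.comulAlgHom K C)

/-- The map C ⊗ C → C, x ⊗ y ↦ x ε(y). -/
noncomputable def idCounit : C ⊗[K] C →ₐ[K] C :=
  Algebra.TensorProduct.lift (AlgHom.id K C) ((Algebra.ofId K C).comp (Bialgebra.counitAlgHom K C))
    (fun _ _ => Commute.all _ _)

omit [CharP C p] hp in
theorem idCounit_comul (x : C) : idCounit (comul (R := K) x) = x := by
  have h1 := AlgHom.convMul_apply (toConv (AlgHom.id K C)) 1 x
  rw [mul_one] at h1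
  exact h1.symm

theorem map_id_mk_pow [CharP K p] (t : C ⊗[K] C) :
    Algebra.TensorProduct.map (AlgHom.id K C) (Ideal.Quotient.mkₐ K (frobIdeal K p C)) (t ^ p) =
      ((idCounit t) ^ p) ⊗ₜ 1 := by
  have : CharP (C ⊗[K] C) p := charP_of_hopf K (C ⊗[K] C) p
  induction t with
  | zero => simp [hp.out.ne_zero]
  | tmul x y =>
    rw [Algebra.TensorProduct.tmul_pow, Algebra.TensorProduct.map_tmul]
    have h1 : Ideal.Quotient.mkₐ K (frobIdeal K p C) (y ^ p) =
        algebraMap K _ (counit (R := K) y ^ p) := by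
      have h2 : (y - algebraMap K C (counit (R := K) y)) ^ p ∈ frobIdeal K p C := by
        apply pow_mem_frobIdeal
        rw [mem_augIdeal]
        simp
      rw [sub_pow_char, ← map_pow (algebraMap K C)] at h2
      rw [Ideal.Quotient.mkₐ_eq_mk, Ideal.Quotient.eq.2 h2]
      rfl
    rw [h1, idCounit, Algebra.TensorProduct.lift_tmul, mul_pow]
    simp only [AlgHom.coe_id, id_eq, AlgHom.coe_comp, Function.comp_apply,
      Bialgebra.counitAlgHom_apply, Algebra.ofId_apply]
    rw [Algebra.algebraMap_eq_smul_one, tmul_smul, smul_tmul', ← map_pow (algebraMap K C),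
      Algebra.smul_def, mul_comm]
  | add x y hx hy => rw [add_pow_char, map_add, map_add, hx, hy, add_pow_char, add_tmul]

theorem coq_pow [CharP K p] (x : C) : coq K p C (x ^ p) = (x ^ p) ⊗ₜ 1 := by
  rw [coq, AlgHom.comp_apply, map_pow, map_id_mk_pow, Bialgebra.comulAlgHom_apply, idCounit_comul]

theorem coq_frobBar [CharP K p] (z : C ⧸ kerFrob C p) :
    coq K p C (frobBar C p z) = (frobBar C p z) ⊗ₜ 1 := by
  obtain ⟨x, rfl⟩ := Ideal.Quotient.mk_surjective z
  rw [frobBar_mk, coq_pow]

omit [CharP C p] hp in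
theorem one_tmul_eq (y : C) : (1 : C) ⊗ₜ[K] y =
    Algebra.TensorProduct.lift
      ((Algebra.TensorProduct.includeLeft (R := K) (S := K) (A := C) (B := C)).comp
        (HopfAlgebra.antipodeAlgHom K C)) (Bialgebra.comulAlgHom K C)
      (fun _ _ => Commute.all _ _) (comul (R := K) y) := by
  let iL : WithConv (C →ₐ[K] C ⊗[K] C) :=
    toConv (Algebra.TensorProduct.includeLeft (R := K) (S := K) (A := C) (B := C))
  let iR : WithConv (C →ₐ[K] C ⊗[K] C) :=
    toConv (Algebra.TensorProduct.includeRight (R := K) (A := C) (B := C))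
  have h1 : toConv (Bialgebra.comulAlgHom K C) = iL * iR := by
    rw [AlgHom.convMul_def]
    congr 1
    have : (Algebra.TensorProduct.lmul' K (S := C ⊗[K] C)).comp
      (Algebra.TensorProduct.map iL.ofConv iR.ofConv) = AlgHom.id K _ := by
      ext <;> simp [iL, iR]
    rw [← AlgHom.comp_assoc, this, AlgHom.id_comp]
  have h2 : iL⁻¹ * toConv (Bialgebra.comulAlgHom K C) = iR := by
    rw [h1]; exact inv_mul_cancel_left iL iR
  have h3 := AlgHom.convMul_apply (iL⁻¹) (toConv (Bialgebra.comulAlgHom K C)) y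
  rw [h2] at h3
  exact h3

/-- The semilinear map (C/ker)^n → C attached to n elements of C. -/
noncomputable def Tmap {n : ℕ} (e : Fin n → C) : (Fin n → C ⧸ kerFrob C p) →+ C where
  toFun z := ∑ j, frobBar C p (z j) * e j
  map_zero' := by simp
  map_add' z w := by simp [add_mul, Finset.sum_add_distrib]

theorem Tmap_apply {n : ℕ} (e : Fin n → C) (z : Fin n → C ⧸ kerFrob C p) :
    Tmap p e z = ∑ j, frobBar C p (z j) * e j := rfl

theorem Tmap_smul [CharP K p] {n : ℕ} (e : Fin n → C) (c : K) (z : Fin n → C ⧸ kerFrob C p) :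
    Tmap p e (c • z) = c ^ p • Tmap p e z := by
  rw [Tmap_apply, Tmap_apply, Finset.smul_sum]
  refine Finset.sum_congr rfl fun j _ => ?_
  rw [Pi.smul_apply, frobBar_smul, smul_mul_assoc]

theorem Tmap_mul {n : ℕ} (e : Fin n → C) (x : C) (z : Fin n → C ⧸ kerFrob C p) :
    Tmap p e (fun j => Ideal.Quotient.mk _ x * z j) = x ^ p * Tmap p e z := by
  rw [Tmap_apply, Tmap_apply, Finset.mul_sum]
  refine Finset.sum_congr rfl fun j _ => ?_
  rw [map_mul, frobBar_mk, mul_assoc]

theorem Tmap_surjective [CharP K p] [PerfectRing K p] {n : ℕ} (e : Fin n → C)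
    (he : ∀ c : C, ∃ l : Fin n → K, c - ∑ j, l j • e j ∈ frobIdeal K p C)
    (hnil : IsNilpotent (augIdeal K C)) : Function.Surjective (Tmap p e) := by
  have he' : ∀ c : C, ∃ z, c - Tmap p e z ∈ frobIdeal K p C := by
    intro c
    obtain ⟨l, hl⟩ := he c
    have hsurj := (PerfectRing.bijective_frobenius (R := K) (p := p)).2
    choose m hm using hsurj
    refine ⟨fun j => m (l j) • 1, ?_⟩
    convert hl using 3
    rw [Tmap_apply]
    refine Finset.sum_congr rfl fun j _ => ?_
    have h3 := hm (l j)
    simp only at h3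
    rw [frobBar_smul, map_one, h3, smul_mul_assoc, one_mul]
  have key : ∀ l : ℕ, ∀ c : C, ∃ z, c - Tmap p e z ∈ (frobIdeal K p C) ^ l := by
    intro l
    induction l with
    | zero => intro c; exact ⟨0, by simp⟩
    | succ l ih =>
      intro c
      have h1 : ∀ u ∈ (frobIdeal K p C) ^ l, ∀ a : C,
          ∃ z, a * u - Tmap p e z ∈ (frobIdeal K p C) ^ (l + 1) := by
        intro u hu
        rw [frobIdeal, ← Ideal.map_pow] at hu
        refine Submodule.span_induction ?_ ?_ ?_ ?_ hu
        · rintro _ ⟨x, hx, rfl⟩ a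
          obtain ⟨z, hz⟩ := he' a
          refine ⟨fun j => Ideal.Quotient.mk _ x * z j, ?_⟩
          rw [Tmap_mul]
          have : a * frobenius C p x - x ^ p * Tmap p e z = x ^ p * (a - Tmap p e z) := by
            rw [frobenius_def]; ring
          rw [this, pow_succ]
          refine Ideal.mul_mem_mul ?_ hz
          rw [frobIdeal, ← Ideal.map_pow]
          exact Ideal.mem_map_of_mem (frobenius C p) hx
        · intro a
          exact ⟨0, by simp⟩
        · intro x y _ _ hx hy a
          obtain ⟨z, hz⟩ := hx a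
          obtain ⟨w, hw⟩ := hy a
          refine ⟨z + w, ?_⟩
          have := add_mem hz hw
          rw [map_add]
          convert this using 1
          ring
        · intro b x _ hx a
          obtain ⟨z, hz⟩ := hx (a * b)
          refine ⟨z, ?_⟩
          rw [smul_eq_mul, ← mul_assoc]
          exact hz
      obtain ⟨z, hz⟩ := ih c
      obtain ⟨w, hw⟩ := h1 _ hz 1
      refine ⟨z + w, ?_⟩
      rw [map_add]
      convert hw using 1
      ring
  intro c
  obtain ⟨N, hN⟩ := hnil
  obtain ⟨z, hz⟩ := key N c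
  refine ⟨z, ?_⟩
  have := Ideal.pow_right_mono (frobIdeal_le (K := K) (C := C) p) N hz
  rw [hN] at this
  have : c - Tmap p e z = 0 := by simpa using this
  rw [sub_eq_zero] at this
  exact this.symm

/-- The C-linear map C^n → C ⊗ C/frobIdeal attached to n elements of C. -/
noncomputable def Lmap {n : ℕ} (e : Fin n → C) :
    (Fin n → C) →ₗ[K] C ⊗[K] (C ⧸ frobIdeal K p C) where
  toFun c := ∑ j, (c j ⊗ₜ 1) * coq K p C (e j)
  map_add' z w := by simp [add_mul, Finset.sum_add_distrib, add_tmul]
  map_smul' r z := by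
    simp only [Pi.smul_apply, RingHom.id_apply, Finset.smul_sum]
    refine Finset.sum_congr rfl fun j _ => ?_
    rw [← smul_tmul', smul_mul_assoc]

theorem Lmap_apply {n : ℕ} (e : Fin n → C) (c : Fin n → C) :
    Lmap (K := K) p e c = ∑ j, (c j ⊗ₜ 1) * coq K p C (e j) := rfl

theorem Lmap_frobBar [CharP K p] {n : ℕ} (e : Fin n → C) (z : Fin n → C ⧸ kerFrob C p) :
    Lmap (K := K) p e (fun j => frobBar C p (z j)) = coq K p C (Tmap p e z) := by
  rw [Lmap_apply, Tmap_apply, map_sum]
  refine Finset.sum_congr rfl fun j _ => ?_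
  rw [map_mul, coq_frobBar]

theorem Lmap_mul {n : ℕ} (e : Fin n → C) (x : C) (c : Fin n → C) :
    Lmap (K := K) p e (fun j => x * c j) = (x ⊗ₜ 1) * Lmap p e c := by
  rw [Lmap_apply, Lmap_apply, Finset.mul_sum]
  refine Finset.sum_congr rfl fun j _ => ?_
  rw [← mul_assoc, Algebra.TensorProduct.tmul_mul_tmul, mul_one]

theorem Lmap_surjective [CharP K p] {n : ℕ} (e : Fin n → C)
    (hT : Function.Surjective (Tmap p e)) : Function.Surjective (Lmap (K := K) p e) := by
  rw [← LinearMap.range_eq_top, eq_top_iff]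
  have h0 : ∀ x y : C, (x ⊗ₜ 1) * coq K p C y ∈ LinearMap.range (Lmap (K := K) p e) := by
    intro x y
    obtain ⟨z, rfl⟩ := hT y
    rw [← Lmap_frobBar, ← Lmap_mul]
    exact LinearMap.mem_range_self _ _
  have h1 : ∀ y : C, (1 : C) ⊗ₜ[K] (Ideal.Quotient.mkₐ K (frobIdeal K p C) y) ∈
      LinearMap.range (Lmap (K := K) p e) := by
    intro y
    have h2 : (1 : C) ⊗ₜ[K] (Ideal.Quotient.mkₐ K (frobIdeal K p C) y) =
      Algebra.TensorProduct.map (AlgHom.id K C) (Ideal.Quotient.mkₐ K (frobIdeal K p C))
        (1 ⊗ₜ y) := by simp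
    rw [h2, one_tmul_eq]
    induction comul (R := K) y with
    | zero => simp
    | tmul a b =>
      rw [Algebra.TensorProduct.lift_tmul, map_mul]
      simp only [AlgHom.coe_comp, Function.comp_apply, Algebra.TensorProduct.includeLeft_apply,
        Algebra.TensorProduct.map_tmul, map_one, AlgHom.coe_id, id_eq]
      exact h0 _ _
    | add x y hx hy => rw [map_add, map_add]; exact add_mem hx hy
  intro t _
  induction t with
  | zero => simp
  | tmul x y =>
    obtain ⟨y, rfl⟩ := Ideal.Quotient.mk_surjective y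
    obtain ⟨c, hc⟩ := h1 y
    refine ⟨fun j => x * c j, ?_⟩
    rw [Lmap_mul, hc, Algebra.TensorProduct.tmul_mul_tmul, mul_one, one_mul]
    rfl
  | add x y hx hy => exact add_mem (hx trivial) (hy trivial)

theorem finrank_eq_mul [CharP K p] [PerfectRing K p] [Module.Finite K C]
    (hnil : IsNilpotent (augIdeal K C)) :
    Module.finrank K C =
      Module.finrank K (C ⧸ frobIdeal K p C) * Module.finrank K (C ⧸ kerFrob C p) := by
  let b := Module.finBasis K (C ⧸ frobIdeal K p C)
  have hl : ∀ j, ∃ e : C, Ideal.Quotient.mk _ e = b j := fun j => Ideal.Quotient.mk_surjective _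
  choose e he using hl
  have hT : Function.Surjective (Tmap p e) := by
    refine Tmap_surjective p e ?_ hnil
    intro c
    refine ⟨fun j => b.repr (Ideal.Quotient.mk _ c) j, ?_⟩
    rw [← Ideal.Quotient.eq_zero_iff_mem, map_sub, map_sum, sub_eq_zero]
    conv_lhs => rw [← b.sum_repr (Ideal.Quotient.mk _ c)]
    refine Finset.sum_congr rfl fun j _ => ?_
    rw [← he]
    rfl
  have hL := Lmap_surjective (K := K) p e hT
  have hLi : Function.Injective (Lmap (K := K) p e) := by
    rw [LinearMap.injective_iff_surjective_of_finrank_eq_finrank]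
    · exact hL
    · rw [Module.finrank_tensorProduct, Module.finrank_pi_fintype]
      simp [mul_comm]
  have hTi : Function.Injective (Tmap p e) := by
    rw [injective_iff_map_eq_zero]
    intro z hz
    have h1 := Lmap_frobBar (K := K) p e z
    rw [hz, map_zero, map_eq_zero_iff _ hLi] at h1
    ext j
    have h2 := congrFun h1 j
    simp only [Pi.zero_apply] at h2 ⊢
    rwa [map_eq_zero_iff _ (frobBar_injective p)] at h2
  have h3 : Module.rank K (Fin (Module.finrank K (C ⧸ frobIdeal K p C)) → C ⧸ kerFrob C p) =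
      Module.rank K C := by
    refine rank_eq_of_equiv_equiv (fun x : K => x ^ p)
      (AddEquiv.ofBijective (Tmap p e) ⟨hTi, hT⟩) (PerfectRing.bijective_frobenius (p := p)) ?_
    intro c z
    exact Tmap_smul p e c z
  have h4 : Module.finrank K (Fin (Module.finrank K (C ⧸ frobIdeal K p C)) → C ⧸ kerFrob C p) =
      Module.finrank K C := congrArg Cardinal.toNat h3
  rw [← h4, Module.finrank_pi_fintype]
  simp

end

end Groth.Agent.Sga3C.HopfPow
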