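import Groth.Agent.Sga3C.HopfPowIdeal
import Groth.Agent.Sga3C.HopfPowFrob
import Mathlib.RingTheory.HopfAlgebra.Convolution
import Mathlib.LinearAlgebra.Dimension.Constructions
import Mathlib.LinearAlgebra.FiniteDimensional.Lemmas
import Mathlib.LinearAlgebra.Dimension.Free
import Mathlib.RingTheory.Derivation.Basic
import Mathlib.Algebra.MvPolynomial.PDeriv
import Mathlib.LinearAlgebra.Matrix.NonsingularInverse
import Mathlib.RingTheory.Nilpotent.Lemmas
import Mathlib.RingTheory.Ideal.Quotient.Nilpotent

set_option autoImplicit false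
open WithConv Coalgebra TensorProduct

namespace Groth.Agent.Sga3C.HopfPow

section der

variable {K C : Type*} [Field K] [CommRing C] [HopfAlgebra K C]

/-- The map C ⊗ C → C, x ⊗ y ↦ x d(y). -/
noncomputable def Td (d : C →ₗ[K] K) : C ⊗[K] C →ₗ[K] C :=
  LinearMap.mul' K C ∘ₗ TensorProduct.map LinearMap.id (Algebra.linearMap K C ∘ₗ d)

theorem Td_tmul (d : C →ₗ[K] K) (x y : C) : Td d (x ⊗ₜ y) = x * algebraMap K C (d y) := rfl

theorem Td_mul (d : C →ₗ[K] K)
    (hd : ∀ a b : C, d (a * b) = counit (R := K) a * d b + d a * counit (R := K) b)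
    (s t : C ⊗[K] C) : Td d (s * t) = idCounit s * Td d t + idCounit t * Td d s := by
  induction s with
  | zero => simp
  | tmul x y =>
    induction t with
    | zero => simp
    | tmul z w =>
      rw [Algebra.TensorProduct.tmul_mul_tmul, Td_tmul, Td_tmul, Td_tmul, hd]
      simp only [idCounit, Algebra.TensorProduct.lift_tmul, AlgHom.coe_id, id_eq, AlgHom.coe_comp,
        Function.comp_apply, Bialgebra.counitAlgHom_apply, Algebra.ofId_apply, map_add, map_mul]
      ring
    | add z w hz hw =>
      rw [mul_add, map_add, map_add, map_add, hz, hw]; ring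
  | add z w hz hw =>
    rw [add_mul, map_add, map_add, map_add, hz, hw]; ring

/-- The invariant derivation attached to an ε-derivation. -/
noncomputable def invDer (d : C →ₗ[K] K)
    (hd : ∀ a b : C, d (a * b) = counit (R := K) a * d b + d a * counit (R := K) b) :
    Derivation K C C :=
  Derivation.mk' (Td d ∘ₗ comul) (by
    intro a b
    simp only [LinearMap.coe_comp, Function.comp_apply, smul_eq_mul]
    rw [Bialgebra.comul_mul, Td_mul d hd, idCounit_comul, idCounit_comul])

theorem counit_invDer (d : C →ₗ[K] K)
    (hd : ∀ a b : C, d (a * b) = counit (R := K) a * d b + d a * counit (R := K) b) (a : C) :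
    counit (R := K) (invDer d hd a) = d a := by
  have h1 : ∀ t : C ⊗[K] C, counit (R := K) (Td d t) =
      d (TensorProduct.lid K C ((counit (R := K) (A := C)).rTensor C t)) := by
    intro t
    induction t with
    | zero => simp
    | tmul x y => simp [Td_tmul]
    | add x y hx hy => simp only [map_add, hx, hy]
  change counit (R := K) (Td d (comul a)) = _
  rw [h1, Coalgebra.rTensor_counit_comul]
  simp

end der

section coords

variable (K C : Type*) [Field K] [CommRing C] [HopfAlgebra K C]

/-- K·1 + I². -/
noncomputable def Wsub : Submodule K C :=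
  Submodule.span K {1} ⊔ ((augIdeal K C) ^ 2).restrictScalars K

theorem exists_coords [Module.Finite K C] : ∃ (n : ℕ) (x : Fin n → C) (d : Fin n → (C →ₗ[K] K)),
    (∀ i, x i ∈ augIdeal K C) ∧
    (∀ j a b, d j (a * b) = counit (R := K) a * d j b + d j a * counit (R := K) b) ∧
    (∀ i j, d j (x i) = if i = j then 1 else 0) ∧
    (∀ a ∈ augIdeal K C, a - ∑ i, d i a • x i ∈ (augIdeal K C) ^ 2) := by
  let b := Module.finBasis K (C ⧸ Wsub K C)
  have hy : ∀ i, ∃ y : C, (Wsub K C).mkQ y = b i := fun i => Submodule.mkQ_surjective _ _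
  choose y hy using hy
  have h1 : (Wsub K C).mkQ 1 = 0 := by
    rw [Submodule.mkQ_apply, Submodule.Quotient.mk_eq_zero]
    exact Submodule.mem_sup_left (Submodule.mem_span_singleton_self _)
  have h2 : ∀ u ∈ (augIdeal K C) ^ 2, (Wsub K C).mkQ u = 0 := by
    intro u hu
    rw [Submodule.mkQ_apply, Submodule.Quotient.mk_eq_zero]
    exact Submodule.mem_sup_right hu
  have hsub : ∀ a : C, a - algebraMap K C (counit (R := K) a) ∈ augIdeal K C := by
    intro a
    rw [mem_augIdeal]; simp
  have hx : ∀ i, (Wsub K C).mkQ (y i - algebraMap K C (counit (R := K) (y i))) = b i := by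
    intro i
    rw [map_sub, Algebra.algebraMap_eq_smul_one, map_smul, h1, smul_zero, sub_zero, hy]
  refine ⟨_, fun i => y i - algebraMap K C (counit (R := K) (y i)),
    fun j => b.coord j ∘ₗ (Wsub K C).mkQ, ?_, ?_, ?_, ?_⟩
  · intro i
    exact hsub _
  · intro j u v
    have h3 : u * v = (u - algebraMap K C (counit (R := K) u)) *
        (v - algebraMap K C (counit (R := K) v)) + counit (R := K) u • v
        + counit (R := K) v • u - (counit (R := K) u * counit (R := K) v) • 1 := by
      simp only [Algebra.smul_def, map_mul]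
      ring
    have h4 := h2 _ (by rw [pow_two]; exact Ideal.mul_mem_mul (hsub u) (hsub v))
    conv_lhs => rw [h3]
    rw [map_sub, map_add, map_add]
    simp only [LinearMap.comp_apply, map_smul, h1, h4, map_zero, smul_eq_mul, mul_zero, sub_zero,
      zero_add]
    ring
  · intro i j
    simp only [LinearMap.comp_apply, hx]
    simp [Finsupp.single_apply]
  · intro a ha
    have h3 : (Wsub K C).mkQ (a - ∑ i, (b.coord i ∘ₗ (Wsub K C).mkQ) a •
        (y i - algebraMap K C (counit (R := K) (y i)))) = 0 := by
      rw [map_sub, map_sum, sub_eq_zero]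
      simp only [map_smul, hx]
      exact (b.sum_repr ((Wsub K C).mkQ a)).symm
    rw [Submodule.mkQ_apply, Submodule.Quotient.mk_eq_zero] at h3
    obtain ⟨u, hu, v, hv, huv⟩ := Submodule.mem_sup.1 h3
    rw [Submodule.mem_span_singleton] at hu
    obtain ⟨c, rfl⟩ := hu
    have hv' : v ∈ augIdeal K C := Ideal.pow_le_self two_ne_zero hv
    have hc : c = 0 := by
      have h5 := congrArg (counit (R := K)) huv
      rw [map_add, mem_augIdeal.1 hv', map_sub, mem_augIdeal.1 ha, map_sum] at h5
      simpa using h5
    rw [hc, zero_smul, zero_add] at huv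
    rw [← huv]
    exact hv

end coords

section gen

variable {K C : Type*} [Field K] [CommRing C] [HopfAlgebra K C]

theorem aeval_surjective {n : ℕ} (x : Fin n → C) (d : Fin n → (C →ₗ[K] K))
    (hx : ∀ i, x i ∈ augIdeal K C)
    (h : ∀ a ∈ augIdeal K C, a - ∑ i, d i a • x i ∈ (augIdeal K C) ^ 2)
    (hnil : IsNilpotent (augIdeal K C)) :
    Function.Surjective (MvPolynomial.aeval (R := K) x) := by
  have h1 : ∀ l : ℕ, ∀ a ∈ (augIdeal K C) ^ (l + 1),
      ∃ f, a - MvPolynomial.aeval (R := K) x f ∈ (augIdeal K C) ^ (l + 2) := by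
    intro l
    induction l with
    | zero =>
      intro a ha
      rw [zero_add, pow_one] at ha
      refine ⟨∑ i, MvPolynomial.C (d i a) * MvPolynomial.X i, ?_⟩
      have := h a ha
      simpa [Algebra.smul_def] using this
    | succ l ih =>
      intro a ha
      rw [pow_succ] at ha
      induction ha using Submodule.mul_induction_on' with
      | mem_mul_mem u hu v hv =>
        obtain ⟨f, hf⟩ := ih u hu
        have hg : ∃ g, v - MvPolynomial.aeval (R := K) x g ∈ (augIdeal K C) ^ 2 := by
          refine ⟨∑ i, MvPolynomial.C (d i v) * MvPolynomial.X i, ?_⟩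
          have := h v hv
          simpa [Algebra.smul_def] using this
        obtain ⟨g, hg⟩ := hg
        refine ⟨f * g, ?_⟩
        rw [map_mul]
        have hg' : MvPolynomial.aeval (R := K) x g ∈ augIdeal K C := by
          have h2 : v - MvPolynomial.aeval (R := K) x g ∈ augIdeal K C :=
            Ideal.pow_le_self two_ne_zero hg
          have h3 := sub_mem hv h2
          simpa using h3
        have h4 : u * v - MvPolynomial.aeval (R := K) x f * MvPolynomial.aeval (R := K) x g =
          u * (v - MvPolynomial.aeval (R := K) x g) +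
            (u - MvPolynomial.aeval (R := K) x f) * MvPolynomial.aeval (R := K) x g := by ring
        rw [h4]
        refine add_mem ?_ ?_
        · have : l + 1 + 2 = (l + 1) + 2 := rfl
          rw [this, pow_add]
          exact Ideal.mul_mem_mul hu hg
        · have : l + 1 + 2 = (l + 2) + 1 := rfl
          rw [this, pow_succ]
          exact Ideal.mul_mem_mul hf hg'
      | add u hu v hv h1 h2 =>
        obtain ⟨f, hf⟩ := h1
        obtain ⟨g, hg⟩ := h2
        refine ⟨f + g, ?_⟩
        have := add_mem hf hg
        rw [map_add]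
        convert this using 1
        ring
  have h2 : ∀ l : ℕ, ∀ a : C, ∃ f, a - MvPolynomial.aeval (R := K) x f ∈
      (augIdeal K C) ^ (l + 1) := by
    intro l
    induction l with
    | zero =>
      intro a
      refine ⟨MvPolynomial.C (counit (R := K) a), ?_⟩
      rw [zero_add, pow_one, mem_augIdeal]
      simp
    | succ l ih =>
      intro a
      obtain ⟨f, hf⟩ := ih a
      obtain ⟨g, hg⟩ := h1 l _ hf
      refine ⟨f + g, ?_⟩
      rw [map_add]
      convert hg using 1
      ring
  intro a
  obtain ⟨N, hN⟩ := hnil
  obtain ⟨f, hf⟩ := h2 N a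
  refine ⟨f, ?_⟩
  rw [pow_succ, hN] at hf
  have : a - MvPolynomial.aeval (R := K) x f = 0 := by simpa using hf
  rw [sub_eq_zero] at this
  exact this.symm

/-- normalized derivations -/
theorem exists_normalized_der {n : ℕ} (x : Fin n → C) (d : Fin n → (C →ₗ[K] K))
    (hd : ∀ j a b, d j (a * b) = counit (R := K) a * d j b + d j a * counit (R := K) b)
    (hdx : ∀ i j, d j (x i) = if i = j then 1 else 0)
    (hnil : IsNilpotent (augIdeal K C)) :
    ∃ (N : Matrix (Fin n) (Fin n) C), ∀ j i, (∑ l, N j l • invDer (d l) (hd l)) (x i) =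
      if i = j then 1 else 0 := by
  let M : Matrix (Fin n) (Fin n) C := fun l i => invDer (d l) (hd l) (x i)
  have hdet : IsUnit M.det := by
    have hn : IsNilpotent (M.det - 1) := by
      have : M.det - 1 ∈ augIdeal K C := by
        have h1 : (M.map (Ideal.Quotient.mk (augIdeal K C))) = 1 := by
          ext l i
          rw [Matrix.map_apply, Matrix.one_apply]
          have h2 : M l i - algebraMap K C (d l (x i)) ∈ augIdeal K C := by
            rw [mem_augIdeal, map_sub]
            simp [M, counit_invDer]
          rw [Ideal.Quotient.eq.2 h2, hdx]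
          by_cases h : i = l
          · subst h; simp
          · rw [if_neg h, if_neg (fun h' => h h'.symm)]; simp
        have h3 : Ideal.Quotient.mk (augIdeal K C) M.det = 1 := by
          rw [RingHom.map_det]
          change (M.map (Ideal.Quotient.mk (augIdeal K C))).det = 1
          rw [h1, Matrix.det_one]
        rw [← Ideal.Quotient.eq_zero_iff_mem, map_sub, h3, map_one, sub_self]
      obtain ⟨N, hN⟩ := hnil
      refine ⟨N, ?_⟩
      have h4 := Ideal.pow_mem_pow this N
      rw [hN] at h4
      simpa using h4
    have := hn.isUnit_add_one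
    simpa using this
  refine ⟨M⁻¹, fun j i => ?_⟩
  have h5 : (∑ l, M⁻¹ j l • invDer (d l) (hd l)) (x i) = (M⁻¹ * M) j i := by
    rw [Matrix.mul_apply]
    have h6 : ∀ (F : Fin n → Derivation K C C) (y : C), (∑ l, F l) y = ∑ l, F l y := by
      intro F y
      have := congrFun (map_sum (Derivation.coeFnAddMonoidHom (R := K) (A := C) (M := C)) F
        Finset.univ) y
      rw [Finset.sum_apply] at this
      exact this
    rw [h6]
    rfl
  rw [h5, Matrix.nonsing_inv_mul _ hdet, Matrix.one_apply]
  by_cases h : i = j
  · subst h; simp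
  · rw [if_neg h, if_neg (fun h' => h h'.symm)]

theorem der_aeval {n : ℕ} (x : Fin n → C) (D : Derivation K C C) (j : Fin n)
    (hD : ∀ i, D (x i) = if i = j then 1 else 0) (f : MvPolynomial (Fin n) K) :
    D (MvPolynomial.aeval x f) = MvPolynomial.aeval x (MvPolynomial.pderiv j f) := by
  induction f using MvPolynomial.induction_on with
  | C a => simp
  | add f g hf hg => rw [map_add, map_add, map_add, map_add, hf, hg]
  | mul_X f i hf =>
    rw [map_mul, Derivation.leibniz, Derivation.leibniz, hf, MvPolynomial.aeval_X, hD,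
      MvPolynomial.pderiv_X]
    simp only [smul_eq_mul, map_add, map_mul, MvPolynomial.aeval_X]
    congr 2
    by_cases h : i = j
    · subst h; simp
    · rw [if_neg h, Pi.single_eq_of_ne' (fun h' => h h'.symm)]; simp

end gen

end Groth.Agent.Sga3C.HopfPow
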