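import Mathlib.RingTheory.HopfAlgebra.Quotient
import Mathlib.RingTheory.Coalgebra.Convolution
import Mathlib.RingTheory.Artinian.Module
import Mathlib.RingTheory.Ideal.Operations
import Mathlib.FieldTheory.Perfect
import Mathlib.LinearAlgebra.FiniteDimensional.Lemmas
import Mathlib.LinearAlgebra.Dimension.Constructions
import Mathlib.RingTheory.Flat.Domain
import Mathlib.LinearAlgebra.TensorProduct.Basis
import Mathlib.RingTheory.TensorProduct.Basic
import Mathlib.RingTheory.HopfAlgebra.TensorProduct
import Mathlib.Algebra.CharP.Algebra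

set_option autoImplicit false
open WithConv Coalgebra TensorProduct

namespace Groth.Agent.Sga3C.HopfPow

section

variable {K A : Type*} [Field K] [CommRing A] [HopfAlgebra K A]

/-- The augmentation ideal. -/
noncomputable def augIdeal (K A : Type*) [Field K] [CommRing A] [HopfAlgebra K A] : Ideal A :=
  RingHom.ker (Bialgebra.counitAlgHom K A)

theorem mem_augIdeal {a : A} : a ∈ augIdeal K A ↔ counit (R := K) a = 0 := Iff.rfl

theorem tmul_sub_mem (t : A ⊗[K] A) :
    t - algebraMap K (A ⊗[K] A)
      (Algebra.TensorProduct.lift (Bialgebra.counitAlgHom K A) (Bialgebra.counitAlgHom K A)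
        (fun _ _ => Commute.all _ _) t) ∈
      (augIdeal K A).map (Algebra.TensorProduct.includeLeft (R := K) (S := K) (A := A) (B := A)) ⊔
        (augIdeal K A).map (Algebra.TensorProduct.includeRight (R := K) (A := A) (B := A)) := by
  induction t with
  | zero => simp
  | tmul x y =>
    simp only [Algebra.TensorProduct.lift_tmul, Bialgebra.counitAlgHom_apply]
    have h1 : x ⊗ₜ[K] y - algebraMap K (A ⊗[K] A) (counit (R := K) x * counit (R := K) y) =
        ((x - algebraMap K A (counit (R := K) x)) ⊗ₜ[K] 1) * (1 ⊗ₜ[K] y) +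
        (algebraMap K (A ⊗[K] A) (counit (R := K) x)) *
          (1 ⊗ₜ[K] (y - algebraMap K A (counit (R := K) y))) := by
      rw [Algebra.TensorProduct.tmul_mul_tmul, mul_one, one_mul, sub_tmul, tmul_sub, mul_sub, map_mul]
      have e1 : ∀ c : K, (algebraMap K A c) ⊗ₜ[K] (1 : A) = algebraMap K (A ⊗[K] A) c := fun c => rfl
      have e2 : ∀ c : K, (1 : A) ⊗ₜ[K] (algebraMap K A c) = algebraMap K (A ⊗[K] A) c := by
        intro c
        rw [← e1, Algebra.algebraMap_eq_smul_one, tmul_smul, smul_tmul']
      rw [e2, ← e1, Algebra.TensorProduct.tmul_mul_tmul, mul_one, one_mul]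
      abel
    rw [h1]
    refine add_mem (Ideal.mul_mem_right _ _ ?_) (Ideal.mul_mem_left _ _ ?_)
    · refine Ideal.mem_sup_left (Ideal.mem_map_of_mem _ ?_)
      rw [mem_augIdeal]; simp
    · refine Ideal.mem_sup_right (Ideal.mem_map_of_mem _ ?_)
      rw [mem_augIdeal]; simp
  | add x y hx hy =>
    rw [map_add, map_add]
    have := add_mem hx hy
    convert this using 1
    abel

theorem lift_counit_comul (a : A) :
    (Algebra.TensorProduct.lift (Bialgebra.counitAlgHom K A) (Bialgebra.counitAlgHom K A)
        (fun _ _ => Commute.all _ _) (comul (R := K) a)) = counit (R := K) a := by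
  have h1 := AlgHom.convMul_apply (1 : WithConv (A →ₐ[K] K)) 1 a
  rw [one_mul] at h1
  have h2 : (1 : WithConv (A →ₐ[K] K)).ofConv = Bialgebra.counitAlgHom K A := by
    ext; simp [AlgHom.convOne_def]
  rw [h2] at h1
  rw [← h1]
  simp

theorem comul_mem_of_mem {a : A} (ha : a ∈ augIdeal K A) :
    comul (R := K) a ∈
      (augIdeal K A).map (Algebra.TensorProduct.includeLeft (R := K) (S := K) (A := A) (B := A)) ⊔
        (augIdeal K A).map (Algebra.TensorProduct.includeRight (R := K) (A := A) (B := A)) := by
  have := tmul_sub_mem (K := K) (comul (R := K) a)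
  rw [lift_counit_comul, mem_augIdeal.1 ha, map_zero, sub_zero] at this
  exact this

theorem isHopfIdeal_pow (N : ℕ) (hN0 : N ≠ 0) (h : augIdeal K A ^ N = augIdeal K A ^ (N + N)) :
    (augIdeal K A ^ N).IsHopfIdeal K where
  antipode_mem := by
    intro x hx
    have h1 : augIdeal K A ≤ (augIdeal K A).comap (HopfAlgebra.antipodeAlgHom K A) := by
      intro y hy
      rw [Ideal.mem_comap, mem_augIdeal, HopfAlgebra.antipodeAlgHom_apply,
        HopfAlgebra.counit_antipode]
      exact hy
    have h2 : augIdeal K A ^ N ≤ (augIdeal K A ^ N).comap (HopfAlgebra.antipodeAlgHom K A) :=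
      (Ideal.pow_right_mono h1 N).trans (Ideal.le_comap_pow _ _)
    exact h2 hx
  counit_eq_zero := by
    intro x hx
    exact Ideal.pow_le_self hN0 hx
  map_mkQ_comul_eq_zero := by
    intro x hx
    let Ψ : A ⊗[K] A →ₐ[K] (A ⧸ augIdeal K A ^ N) ⊗[K] (A ⧸ augIdeal K A ^ N) :=
      Algebra.TensorProduct.map (Ideal.Quotient.mkₐ K _) (Ideal.Quotient.mkₐ K _)
    change Ψ (comul x) = 0
    have hx' : x ∈ augIdeal K A ^ (N + N) := h ▸ hx
    have h1 : comul (R := K) x ∈
      ((augIdeal K A).map (Algebra.TensorProduct.includeLeft (R := K) (S := K) (A := A) (B := A)) ⊔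
        (augIdeal K A).map (Algebra.TensorProduct.includeRight (R := K) (A := A) (B := A)))
        ^ (N + N) := by
      have h3 : augIdeal K A ≤ Ideal.comap (Bialgebra.comulAlgHom K A)
        ((augIdeal K A).map (Algebra.TensorProduct.includeLeft (R := K) (S := K) (A := A) (B := A)) ⊔
        (augIdeal K A).map (Algebra.TensorProduct.includeRight (R := K) (A := A) (B := A))) :=
        fun a ha => comul_mem_of_mem ha
      exact (Ideal.pow_right_mono h3 (N + N)).trans (Ideal.le_comap_pow _ _) hx'
    have h2 := Ideal.sup_pow_add_le_pow_sup_pow h1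
    rw [← Ideal.map_pow, ← Ideal.map_pow] at h2
    have h4 : Ideal.map (Algebra.TensorProduct.includeLeft (R := K) (S := K) (A := A) (B := A))
        (augIdeal K A ^ N) ⊔ Ideal.map (Algebra.TensorProduct.includeRight (R := K) (A := A) (B := A))
        (augIdeal K A ^ N) ≤ RingHom.ker Ψ := by
      rw [sup_le_iff, Ideal.map_le_iff_le_comap, Ideal.map_le_iff_le_comap]
      constructor
      · intro y hy
        rw [Ideal.mem_comap, RingHom.mem_ker]
        simp only [Algebra.TensorProduct.includeLeft_apply, Ψ, Algebra.TensorProduct.map_tmul]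
        rw [Ideal.Quotient.mkₐ_eq_mk, Ideal.Quotient.eq_zero_iff_mem.2 hy, zero_tmul]
      · intro y hy
        rw [Ideal.mem_comap, RingHom.mem_ker]
        simp only [Algebra.TensorProduct.includeRight_apply, Ψ, Algebra.TensorProduct.map_tmul]
        rw [Ideal.Quotient.mkₐ_eq_mk, Ideal.Quotient.eq_zero_iff_mem.2 hy, tmul_zero]
    exact h4 h2

end

section frob

variable {K : Type*} [Field K] (p : ℕ) [hp : Fact p.Prime] [CharP K p]

theorem semilinear_injective [PerfectRing K p] {V W κ : Type*} [AddCommGroup V] [Module K V]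
    [AddCommGroup W] [Module K W]
    (G : V →+ W) (hG : ∀ (c : K) (x : V), G (c • x) = c ^ p • G x) (B : Module.Basis κ K V)
    (hli : LinearIndependent K (G ∘ B)) : Function.Injective G := by
  rw [injective_iff_map_eq_zero]
  intro x hx
  rw [← B.linearCombination_repr x, Finsupp.linearCombination_apply, Finsupp.sum, map_sum] at hx
  simp only [hG] at hx
  have := linearIndependent_iff'.1 hli _ _ hx
  apply B.repr.injective
  ext i
  rw [map_zero, Finsupp.zero_apply]
  by_contra hne
  exact pow_ne_zero p hne (this i (Finsupp.mem_support_iff.2 hne))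

theorem semilinear_linearIndependent [PerfectRing K p] {V W κ : Type*} [AddCommGroup V]
    [Module K V] [AddCommGroup W] [Module K W]
    (G : V →+ W) (hG : ∀ (c : K) (x : V), G (c • x) = c ^ p • G x) (B : κ → V)
    (hB : LinearIndependent K B)
    (hinj : Function.Injective G) : LinearIndependent K (G ∘ B) := by
  rw [linearIndependent_iff'] at hB ⊢
  intro s g hg i hi
  have hsurj := (PerfectRing.bijective_frobenius (R := K) (p := p)).2
  choose m hm using hsurj
  have h1 : G (∑ i ∈ s, m (g i) • B i) = 0 := by
    rw [map_sum, ← hg]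
    refine Finset.sum_congr rfl fun i _ => ?_
    rw [hG]
    simp only at hm
    rw [hm]; rfl
  rw [map_eq_zero_iff G hinj] at h1
  have h2 := hB s (fun i => m (g i)) h1 i hi
  have h3 := hm (g i)
  simp only at h2 h3
  rw [← h3, h2, zero_pow hp.out.ne_zero]

variable {C : Type*} [CommRing C] [HopfAlgebra K C]

theorem charP_of_hopf (K C : Type*) [Field K] (p : ℕ) [CharP K p] [CommRing C] [HopfAlgebra K C] :
    CharP C p := by
  have : Nontrivial C := by
    refine ⟨1, 0, fun h => ?_⟩
    have := congrArg (counit (R := K)) h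
    simp at this
  exact charP_of_injective_algebraMap (algebraMap K C).injective p

/-- The kernel of the Frobenius of C. -/
def kerFrob (C : Type*) [CommRing C] (p : ℕ) [Fact p.Prime] [CharP C p] : Ideal C :=
  RingHom.ker (frobenius C p)

theorem mem_kerFrob [CharP C p] {x : C} : x ∈ kerFrob C p ↔ x ^ p = 0 := Iff.rfl

/-- The injection C/ker → C induced by Frobenius. -/
noncomputable def frobBar (C : Type*) [CommRing C] (p : ℕ) [Fact p.Prime] [CharP C p] :
    C ⧸ kerFrob C p →+* C := RingHom.kerLift (frobenius C p)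

theorem frobBar_mk [CharP C p] (x : C) : frobBar C p (Ideal.Quotient.mk _ x) = x ^ p := rfl

omit [HopfAlgebra K C] in
theorem frobBar_injective [CharP C p] : Function.Injective (frobBar C p) :=
  RingHom.kerLift_injective _

theorem frobBar_smul [CharP C p] (c : K) (x : C ⧸ kerFrob C p) :
    frobBar C p (c • x) = c ^ p • frobBar C p x := by
  obtain ⟨x, rfl⟩ := Ideal.Quotient.mk_surjective x
  change frobBar C p (Ideal.Quotient.mk _ (c • x)) = _
  rw [frobBar_mk, frobBar_mk, smul_pow]

/-- The Frobenius-semilinear map (C/ker) ⊗ (C/ker) → C ⊗ C. -/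
noncomputable def frobBar2 (K C : Type*) [Field K] (p : ℕ) [Fact p.Prime] [CharP K p]
    [CommRing C] [HopfAlgebra K C] [CharP C p] :
    (C ⧸ kerFrob C p) ⊗[K] (C ⧸ kerFrob C p) →+ C ⊗[K] C :=
  TensorProduct.liftAddHom
    { toFun := fun x =>
        { toFun := fun y => frobBar C p x ⊗ₜ[K] frobBar C p y
          map_zero' := by simp
          map_add' := by intro a b; simp [tmul_add] }
      map_zero' := by ext; simp
      map_add' := by intro a b; ext; simp [add_tmul] }
    (by
      intro r x y
      simp only [AddMonoidHom.coe_mk, ZeroHom.coe_mk]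
      rw [frobBar_smul, frobBar_smul, smul_tmul])

theorem frobBar2_tmul [CharP C p] (x y : C ⧸ kerFrob C p) :
    frobBar2 K C p (x ⊗ₜ y) = frobBar C p x ⊗ₜ frobBar C p y := rfl

theorem frobBar2_smul [CharP C p] (c : K) (t : (C ⧸ kerFrob C p) ⊗[K] (C ⧸ kerFrob C p)) :
    frobBar2 K C p (c • t) = c ^ p • frobBar2 K C p t := by
  induction t with
  | zero => simp
  | tmul x y => rw [smul_tmul', frobBar2_tmul, frobBar2_tmul, frobBar_smul, smul_tmul']
  | add x y hx hy => rw [smul_add, map_add, map_add, smul_add, hx, hy]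

theorem frobBar2_injective [PerfectRing K p] [CharP C p] :
    Function.Injective (frobBar2 K C p) := by
  let b := Module.Basis.ofVectorSpace K (C ⧸ kerFrob C p)
  refine semilinear_injective p (frobBar2 K C p) (frobBar2_smul p) (b.tensorProduct b) ?_
  have h1 : LinearIndependent K ((frobBar C p).toAddMonoidHom ∘ b) :=
    semilinear_linearIndependent p (frobBar C p).toAddMonoidHom (frobBar_smul p) b
      b.linearIndependent (frobBar_injective p)
  have h2 := h1.tmul_of_isDomain h1
  have h3 : (frobBar2 K C p) ∘ (b.tensorProduct b) = fun i =>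
      ((frobBar C p).toAddMonoidHom ∘ b) i.1 ⊗ₜ[K] ((frobBar C p).toAddMonoidHom ∘ b) i.2 := by
    ext i
    rw [Function.comp, Module.Basis.tensorProduct_apply]
    rfl
  rw [h3]
  exact h2

theorem frobBar2_map [CharP C p] (t : C ⊗[K] C) :
    frobBar2 K C p (Algebra.TensorProduct.map (Ideal.Quotient.mkₐ K (kerFrob C p))
      (Ideal.Quotient.mkₐ K (kerFrob C p)) t) = t ^ p := by
  have : CharP (C ⊗[K] C) p := charP_of_hopf K (C ⊗[K] C) p
  induction t with
  | zero => simp [hp.out.ne_zero]
  | tmul x y =>
    rw [Algebra.TensorProduct.map_tmul, frobBar2_tmul]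
    simp only [Ideal.Quotient.mkₐ_eq_mk, frobBar_mk]
    rw [Algebra.TensorProduct.tmul_pow]
  | add x y hx hy => rw [map_add, map_add, hx, hy, add_pow_char]

theorem isHopfIdeal_kerFrob [PerfectRing K p] [CharP C p] : (kerFrob C p).IsHopfIdeal K where
  antipode_mem := by
    intro x hx
    rw [mem_kerFrob] at hx ⊢
    have := congrArg (HopfAlgebra.antipodeAlgHom K C) hx
    rw [map_pow, map_zero] at this
    exact this
  counit_eq_zero := by
    intro x hx
    have hx : x ^ p = 0 := hx
    have := congrArg (Bialgebra.counitAlgHom K C) hx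
    rw [map_pow, map_zero] at this
    exact pow_eq_zero_iff hp.out.ne_zero |>.1 this
  map_mkQ_comul_eq_zero := by
    intro x hx
    have hx : x ^ p = 0 := hx
    change Algebra.TensorProduct.map (Ideal.Quotient.mkₐ K (kerFrob C p))
      (Ideal.Quotient.mkₐ K (kerFrob C p)) (comul x) = 0
    apply frobBar2_injective p
    rw [frobBar2_map, map_zero]
    have := congrArg (Bialgebra.comulAlgHom K C) hx
    rw [map_pow, map_zero] at this
    exact this

end frob

end Groth.Agent.Sga3C.HopfPow
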