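import Groth.Agent.Sga3C.HopfPowDer
import Mathlib.FieldTheory.IsAlgClosed.Basic

set_option autoImplicit false
open WithConv Coalgebra TensorProduct

namespace Groth.Agent.Sga3C.HopfPow

section

variable {K C : Type*} [Field K] [CommRing C] [HopfAlgebra K C]

theorem eq_zero_of_reduced (p : ℕ) [hp : Fact p.Prime] [CharP K p]
    {n : ℕ} (x : Fin n → C) (q : Ideal C) (h1 : (1 : C) ∉ q)
    (D : Fin n → Derivation K C C) (hD : ∀ j i, D j (x i) = if i = j then 1 else 0)
    (hDq : ∀ j, ∀ u ∈ q, D j u ∈ q) (m : ℕ) : ∀ (f : MvPolynomial (Fin n) K),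
    f.totalDegree ≤ m → (∀ s, MvPolynomial.coeff s f ≠ 0 → ∀ i, s i < p) →
    MvPolynomial.aeval x f ∈ q → f = 0 := by
  have hC : ∀ c : K, MvPolynomial.aeval x (MvPolynomial.C (σ := Fin n) c) ∈ q → c = 0 := by
    intro c hc
    by_contra hne
    apply h1
    have := q.mul_mem_left (algebraMap K C c⁻¹) hc
    rw [MvPolynomial.aeval_C, ← map_mul, inv_mul_cancel₀ hne, map_one] at this
    exact this
  induction m with
  | zero =>
    intro f hf _ hfq
    rw [nonpos_iff_eq_zero, MvPolynomial.totalDegree_eq_zero_iff_eq_C] at hf
    rw [hf] at hfq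
    rw [hf, hC _ hfq, map_zero]
  | succ m ih =>
    intro f hf hred hfq
    have h2 : ∀ j, MvPolynomial.pderiv j f = 0 := by
      intro j
      apply ih
      · rw [MvPolynomial.totalDegree, Finset.sup_le_iff]
        intro s hs
        rw [MvPolynomial.mem_support_iff, MvPolynomial.coeff_pderiv] at hs
        have h3 : MvPolynomial.coeff (s + Finsupp.single j 1) f ≠ 0 := left_ne_zero_of_mul hs
        have h4 := MvPolynomial.le_totalDegree (MvPolynomial.mem_support_iff.2 h3)
        rw [Finsupp.sum_add_index' (by simp) (by simp)] at h4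
        simp only [Finsupp.sum_single_index] at h4
        omega
      · intro s hs i
        rw [MvPolynomial.coeff_pderiv] at hs
        have h3 : MvPolynomial.coeff (s + Finsupp.single j 1) f ≠ 0 := left_ne_zero_of_mul hs
        have h4 := hred _ h3 i
        rw [Finsupp.add_apply] at h4
        omega
      · rw [← der_aeval x (D j) j (hD j)]
        exact hDq j _ hfq
    have h5 : f = MvPolynomial.C (MvPolynomial.coeff 0 f) := by
      ext s
      rw [MvPolynomial.coeff_C]
      split_ifs with hs
      · rw [← hs]
      · by_contra hne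
        have h6 : ∃ j, s j ≠ 0 := by
          by_contra hall
          push Not at hall
          apply hs
          ext j
          rw [hall j]; rfl
        obtain ⟨j, hj⟩ := h6
        have h7 := MvPolynomial.coeff_pderiv (i := j) f (s - Finsupp.single j 1)
        rw [h2 j, MvPolynomial.coeff_zero] at h7
        have h8 : s - Finsupp.single j 1 + Finsupp.single j 1 = s := by
          ext i
          simp only [Finsupp.add_apply, Finsupp.tsub_apply]
          by_cases hij : i = j
          · subst hij
            rw [Finsupp.single_eq_same]; omega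
          · rw [Finsupp.single_eq_of_ne hij]; omega
        rw [h8] at h7
        have h9 : (((s - Finsupp.single j 1 : Fin n →₀ ℕ) j : ℕ) : K) + 1 ≠ 0 := by
          have : (((s - Finsupp.single j 1 : Fin n →₀ ℕ) j : ℕ) : K) + 1 = ((s j : ℕ) : K) := by
            rw [Finsupp.tsub_apply, Finsupp.single_eq_same]
            have : s j = (s j - 1) + 1 := by omega
            conv_rhs => rw [this]
            push_cast
            rfl
          rw [this, Ne, CharP.cast_eq_zero_iff K p]
          intro hdvd
          have := Nat.le_of_dvd (Nat.pos_of_ne_zero hj) hdvd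
          have := hred s hne j
          omega
        rcases mul_eq_zero.1 h7.symm with h | h
        · exact hne h
        · exact h9 h
    rw [h5] at hfq
    rw [h5, hC _ hfq, map_zero]

variable (p : ℕ) [hp : Fact p.Prime] [CharP C p]

theorem der_frobIdeal (D : Derivation K C C) : ∀ u ∈ frobIdeal K p C, D u ∈ frobIdeal K p C := by
  intro u hu
  rw [frobIdeal] at hu ⊢
  refine Submodule.span_induction ?_ ?_ ?_ ?_ hu
  · rintro _ ⟨x, hx, rfl⟩
    rw [frobenius_def, Derivation.leibniz_pow, nsmul_eq_mul, CharP.cast_eq_zero C p]
    simp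
  · simp
  · intro x y _ _ hx hy
    rw [map_add]; exact add_mem hx hy
  · intro a x hx' hx
    rw [smul_eq_mul, Derivation.leibniz]
    refine add_mem (Ideal.mul_mem_left _ _ hx) ?_
    rw [smul_eq_mul]
    exact Ideal.mul_mem_right _ _ hx'

theorem finrank_frobIdeal [CharP K p] [Module.Finite K C] (hnil : IsNilpotent (augIdeal K C)) :
    ∃ n, Module.finrank K (C ⧸ frobIdeal K p C) = p ^ n := by
  obtain ⟨n, x, d, hx, hd, hdx, hI⟩ := exists_coords K C
  obtain ⟨N, hN⟩ := exists_normalized_der x d hd hdx hnil
  have hsurj := aeval_surjective x d hx hI hnil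
  refine ⟨n, ?_⟩
  have h1 : (1 : C) ∉ frobIdeal K p C := by
    intro h
    have := frobIdeal_le (K := K) (C := C) p h
    rw [mem_augIdeal] at this
    simp at this
  let fs : (Fin n → Fin p) → (Fin n →₀ ℕ) := fun α => Finsupp.equivFunOnFinite.symm (fun i => α i)
  have hfs : Function.Injective fs := by
    intro α β h
    ext i
    have := DFunLike.congr_fun h i
    simpa [fs] using this
  let v : (Fin n → Fin p) → C ⧸ frobIdeal K p C :=
    fun α => Ideal.Quotient.mk _ (MvPolynomial.aeval x (MvPolynomial.monomial (fs α) (1 : K)))
  have hli : LinearIndependent K v := by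
    rw [Fintype.linearIndependent_iff]
    intro g hg
    let f : MvPolynomial (Fin n) K := ∑ α, MvPolynomial.monomial (fs α) (g α)
    have hcoeff : ∀ s, MvPolynomial.coeff s f = ∑ α, if fs α = s then g α else 0 := by
      intro s
      simp only [f, MvPolynomial.coeff_sum, MvPolynomial.coeff_monomial]
    have hf : f = 0 := by
      refine eq_zero_of_reduced p x (frobIdeal K p C) h1 _ hN
        (fun j => der_frobIdeal p _) f.totalDegree f le_rfl ?_ ?_
      · intro s hs i
        rw [hcoeff] at hs
        obtain ⟨α, _, hα⟩ := Finset.exists_ne_zero_of_sum_ne_zero hs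
        have : fs α = s := by
          by_contra hne
          rw [if_neg hne] at hα
          exact hα rfl
        rw [← this]
        exact (α i).2
      · rw [← Ideal.Quotient.eq_zero_iff_mem, ← hg]
        simp only [f, map_sum]
        refine Finset.sum_congr rfl fun α _ => ?_
        have : MvPolynomial.monomial (fs α) (g α) = g α • MvPolynomial.monomial (fs α) (1 : K) := by
          rw [MvPolynomial.smul_monomial, smul_eq_mul, mul_one]
        rw [this, map_smul]
        rfl
    intro α
    have := hcoeff (fs α)
    rw [hf, MvPolynomial.coeff_zero, Finset.sum_eq_single α] at this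
    · rw [if_pos rfl] at this; exact this.symm
    · intro β _ hβ
      rw [if_neg (fun h => hβ (hfs h))]
    · intro h; exact absurd (Finset.mem_univ _) h
  have hsp : ⊤ ≤ Submodule.span K (Set.range v) := by
    intro y _
    obtain ⟨c, rfl⟩ := Ideal.Quotient.mk_surjective y
    obtain ⟨f, rfl⟩ := hsurj c
    induction f using MvPolynomial.induction_on' with
    | monomial s a =>
      have : MvPolynomial.monomial s a = a • MvPolynomial.monomial s (1 : K) := by
        rw [MvPolynomial.smul_monomial, smul_eq_mul, mul_one]
      rw [this, map_smul]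
      change a • Ideal.Quotient.mk (frobIdeal K p C) _ ∈ _
      refine Submodule.smul_mem _ _ ?_
      by_cases hs : ∀ i, s i < p
      · refine Submodule.subset_span ⟨fun i => ⟨s i, hs i⟩, ?_⟩
        have hfss : fs (fun i => ⟨s i, hs i⟩) = s := by
          ext i; rfl
        simp only [v, hfss]
      · push Not at hs
        obtain ⟨i, hi⟩ := hs
        have h0 : Ideal.Quotient.mk (frobIdeal K p C)
            (MvPolynomial.aeval x (MvPolynomial.monomial s (1 : K))) = 0 := by
          rw [Ideal.Quotient.eq_zero_iff_mem, MvPolynomial.aeval_monomial, map_one, one_mul,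
            Finsupp.prod]
          have hsi : i ∈ s.support := by
            rw [Finsupp.mem_support_iff]
            have := hp.out.pos
            omega
          rw [← Finset.mul_prod_erase _ _ hsi]
          refine Ideal.mul_mem_right _ _ ?_
          have : s i = p + (s i - p) := by omega
          rw [this, pow_add]
          exact Ideal.mul_mem_right _ _ (pow_mem_frobIdeal p (hx i))
        rw [h0]; exact zero_mem _
    | add f g hf hg =>
      rw [map_add, map_add]
      exact add_mem (hf trivial) (hg trivial)
  let b := Module.Basis.mk hli hsp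
  rw [Module.finrank_eq_card_basis b]
  simp

end

section

theorem augIdeal_quot_le {K C : Type*} [Field K] [CommRing C] [HopfAlgebra K C] (J : Ideal C)
    [J.IsHopfIdeal K] :
    augIdeal K (C ⧸ J) ≤ (augIdeal K C).map (Ideal.Quotient.mk J) := by
  intro y hy
  obtain ⟨c, rfl⟩ := Ideal.Quotient.mk_surjective y
  exact Ideal.mem_map_of_mem _ hy

theorem isNilpotent_augIdeal_quot {K C : Type*} [Field K] [CommRing C] [HopfAlgebra K C]
    (J : Ideal C) [J.IsHopfIdeal K] (h : IsNilpotent (augIdeal K C)) :
    IsNilpotent (augIdeal K (C ⧸ J)) := by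
  obtain ⟨N, hN⟩ := h
  refine ⟨N, ?_⟩
  rw [Ideal.zero_eq_bot, eq_bot_iff]
  refine (Ideal.pow_right_mono (augIdeal_quot_le J) N).trans ?_
  rw [← Ideal.map_pow, hN]
  simp

theorem finrank_eq_one_of_augIdeal {K C : Type*} [Field K] [CommRing C] [HopfAlgebra K C]
    (h : augIdeal K C = ⊥) : Module.finrank K C = 1 := by
  have hinj : Function.Injective (Bialgebra.counitAlgHom K C) :=
    (RingHom.injective_iff_ker_eq_bot _).2 h
  have hsurj : Function.Surjective (Bialgebra.counitAlgHom K C) := fun x =>
    ⟨algebraMap K C x, by simp⟩
  rw [← Module.finrank_self K]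
  exact (AlgEquiv.ofBijective _ ⟨hinj, hsurj⟩).toLinearEquiv.finrank_eq

universe u v

theorem exists_finrank_eq_pow {K : Type u} [Field K] (p : ℕ) [hp : Fact p.Prime] [CharP K p]
    [PerfectRing K p] : ∀ (n : ℕ) (C : Type v) [CommRing C] [HopfAlgebra K C] [Module.Finite K C],
    IsNilpotent (augIdeal K C) → Module.finrank K C = n → ∃ s, n = p ^ s := by
  intro n
  induction n using Nat.strong_induction_on with
  | _ n ih =>
    intro C _ _ _ hnil hn
    by_cases h0 : augIdeal K C = ⊥
    · exact ⟨0, by rw [← hn, finrank_eq_one_of_augIdeal h0, pow_zero]⟩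
    · have : CharP C p := charP_of_hopf K C p
      have : (kerFrob C p).IsHopfIdeal K := isHopfIdeal_kerFrob p
      have hker : kerFrob C p ≠ ⊥ := by
        intro hker
        obtain ⟨y, hy, hy0⟩ := Submodule.exists_mem_ne_zero_of_ne_bot h0
        have h1 : IsNilpotent y := by
          obtain ⟨N, hN⟩ := hnil
          refine ⟨N, ?_⟩
          have h4 := Ideal.pow_mem_pow hy N
          rw [hN] at h4
          simpa using h4
        have hred : ∀ z : C, z ^ p = 0 → z = 0 := by
          intro z hz
          have : z ∈ kerFrob C p := hz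
          rw [hker] at this
          simpa using this
        obtain ⟨N, hN⟩ := h1
        have h2 : ∀ l : ℕ, ∀ z : C, z ^ (p ^ l) = 0 → z = 0 := by
          intro l
          induction l with
          | zero => intro z hz; simpa using hz
          | succ l ihl =>
            intro z hz
            rw [pow_succ, pow_mul] at hz
            exact ihl z (hred _ hz)
        apply hy0
        apply h2 N
        have : N ≤ p ^ N := Nat.le_of_lt (Nat.lt_pow_self hp.out.one_lt)
        rw [← Nat.sub_add_cancel this, pow_add, hN, mul_zero]
      have hlt : Module.finrank K (C ⧸ kerFrob C p) < n := by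
        rw [← hn]
        have h3 : Module.finrank K (C ⧸ (kerFrob C p).restrictScalars K) < Module.finrank K C := by
          have h4 := Submodule.finrank_quotient_add_finrank ((kerFrob C p).restrictScalars K)
          have h5 : Module.finrank K ((kerFrob C p).restrictScalars K) ≠ 0 := by
            rw [Ne, Submodule.finrank_eq_zero]
            intro h4
            apply hker
            exact (Submodule.restrictScalars_eq_bot_iff K C C).1 h4
          omega
        exact h3
      obtain ⟨s, hs⟩ := ih _ hlt (C ⧸ kerFrob C p) (isNilpotent_augIdeal_quot _ hnil) rfl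
      obtain ⟨t, ht⟩ := finrank_frobIdeal (K := K) (C := C) p hnil
      refine ⟨t + s, ?_⟩
      rw [← hn, finrank_eq_mul p hnil, ht, hs, pow_add]

theorem augIdeal_eq_bot_of_charZero {K : Type u} [Field K] [CharZero K]
    (C : Type v) [CommRing C] [HopfAlgebra K C] [Module.Finite K C]
    (hnil : IsNilpotent (augIdeal K C)) : augIdeal K C = ⊥ := by
  obtain ⟨n, x, d, hx, hd, hdx, hI⟩ := exists_coords K C
  have hsurj := aeval_surjective x d hx hI hnil
  rcases Nat.eq_zero_or_pos n with hn | hn
  · subst hn
    rw [eq_bot_iff]
    intro a ha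
    obtain ⟨f, rfl⟩ := hsurj a
    have hf : f = MvPolynomial.C (MvPolynomial.coeff 0 f) := MvPolynomial.eq_C_of_isEmpty f
    rw [hf, MvPolynomial.aeval_C] at ha ⊢
    rw [mem_augIdeal, Bialgebra.counit_algebraMap] at ha
    rw [ha, map_zero]; exact zero_mem _
  · exfalso
    obtain ⟨N, hN⟩ := exists_normalized_der x d hd hdx hnil
    let i : Fin n := ⟨0, hn⟩
    have hxn : IsNilpotent (x i) := by
      obtain ⟨N, hN⟩ := hnil
      refine ⟨N, ?_⟩
      have h4 := Ideal.pow_mem_pow (hx i) N
      rw [hN] at h4
      simpa using h4
    have hnt : Nontrivial C := by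
      refine ⟨1, 0, fun h => ?_⟩
      have := congrArg (counit (R := K)) h
      simp at this
    have hmin : ∃ m, x i ^ m = 0 := hxn
    classical
    have h1 := Nat.find_spec hmin
    set m := Nat.find hmin with hm
    have hm0 : m ≠ 0 := by
      intro h
      rw [h, pow_zero] at h1
      exact one_ne_zero h1
    have h2 : (∑ l, N i l • invDer (d l) (hd l)) (x i ^ m) = 0 := by rw [h1, map_zero]
    rw [Derivation.leibniz_pow, hN, if_pos rfl] at h2
    have h3 : x i ^ (m - 1) = 0 := by
      have h4 : (m : C) * x i ^ (m - 1) = 0 := by simpa using h2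
      have h5 : IsUnit (m : C) := by
        have : (m : C) = algebraMap K C (m : K) := by simp
        rw [this]
        exact (IsUnit.mk0 (m : K) (by exact_mod_cast hm0)).map _
      exact (h5.mul_right_eq_zero).1 h4
    exact Nat.find_min hmin (m := m - 1) (by omega) h3

end

end Groth.Agent.Sga3C.HopfPow
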