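import Groth.Agent.Sga3C.AdRepN
import Mathlib.RingTheory.Jacobson.Artinian
import Mathlib.AlgebraicGeometry.Morphisms.FiniteType

/-!
# An affine neighbourhood of the unit of a group scheme over a field
-/

set_option autoImplicit false

universe u

open CategoryTheory MonoidalCategory CartesianMonoidalCategory AlgebraicGeometry Limits MonObj

namespace Groth.Agent.Sga3C.InfNbhd

open Sga3B.GLn Sga3B.FreeBC Sga3B.LinRep Sga3B.AdRep AdRepN

/-- an affine open neighbourhood of the unit section over a local base -/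
theorem exists_affine_nbhd (k : Type u) [Field k] (G : Over (Spec (CommRingCat.of k)))
    [LocallyOfFiniteType G.hom] (e : 𝟙_ (Over (Spec (CommRingCat.of k))) ⟶ G) :
    ∃ (B : Type u) (_ : CommRing B) (_ : Algebra k B) (w : DE k B ⟶ G)
      (eW : 𝟙_ (Over (Spec (CommRingCat.of k))) ⟶ DE k B),
      IsOpenImmersion w.left ∧ eW ≫ w = e ∧ Algebra.FiniteType k B := by
  let p0 : (𝟙_ (Over (Spec (CommRingCat.of k)))).left := IsLocalRing.closedPoint k
  have hp0 : ∀ p : (𝟙_ (Over (Spec (CommRingCat.of k)))).left, p = p0 := fun p =>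
    Subsingleton.elim (α := PrimeSpectrum k) _ _
  obtain ⟨_, ⟨U, hU, rfl⟩, hxU, -⟩ :=
    G.left.isBasis_affineOpens.exists_subset_of_mem_open (Set.mem_univ (e.left p0)) isOpen_univ
  have hU : IsAffineOpen U := hU
  let φ : CommRingCat.of k ⟶ Γ(G.left, U) := Spec.preimage (hU.fromSpec ≫ G.hom)
  have hφ : Spec.map φ = hU.fromSpec ≫ G.hom := Spec.map_preimage _
  let _ : Algebra k Γ(G.left, U) := φ.hom.toAlgebra
  have hlft : LocallyOfFiniteType (Spec.map φ) := by rw [hφ]; infer_instance
  have hft : Algebra.FiniteType k Γ(G.left, U) :=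
    (HasRingHomProperty.Spec_iff (P := @LocallyOfFiniteType)).mp hlft
  let w : DE k Γ(G.left, U) ⟶ G := Over.homMk hU.fromSpec hφ.symm
  have hwo : IsOpenImmersion w.left := inferInstanceAs (IsOpenImmersion hU.fromSpec)
  have hr : Set.range e.left ⊆ Set.range w.left := by
    rintro _ ⟨p, rfl⟩
    have : Set.range w.left = U := hU.range_fromSpec
    rw [this, hp0 p]
    exact hxU
  refine ⟨Γ(G.left, U), inferInstance, inferInstance, w, Over.homMk (IsOpenImmersion.lift w.left e.left hr) (by
    rw [← Over.w w, IsOpenImmersion.lift_fac_assoc, Over.w]), hwo, ?_, hft⟩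
  ext1
  simp [IsOpenImmersion.lift_fac]

theorem isMaximal_augIdeal (k : Type u) [Field k] (B : Type u) [CommRing B] [Algebra k B]
    (eW : 𝟙_ (Over (Spec (CommRingCat.of k))) ⟶ DE k B) : (augIdeal eW).IsMaximal := by
  let ψ : B →+* k := (Scheme.ΓSpecIso (CommRingCat.of k)).hom.hom.comp (fn eW)
  have h1 : RingHom.ker ψ = augIdeal eW := by
    ext x
    rw [RingHom.mem_ker, augIdeal, RingHom.mem_ker]
    change (Scheme.ΓSpecIso (CommRingCat.of k)).hom (fn eW x) = 0 ↔ _
    constructor
    · intro h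
      have := congr((Scheme.ΓSpecIso (CommRingCat.of k)).inv $h)
      rw [map_zero] at this
      rw [← this]
      exact congr($((Scheme.ΓSpecIso (CommRingCat.of k)).hom_inv_id) (fn eW x)).symm
    · intro h
      rw [h, map_zero]
  have h2 : Function.Surjective ψ := by
    intro r
    refine ⟨algebraMap k B r, ?_⟩
    change (Scheme.ΓSpecIso (CommRingCat.of k)).hom (fn eW (algebraMap k B r)) = r
    rw [fn_algebraMap]
    simp
  rw [← h1]
  exact RingHom.ker_isMaximal_of_surjective ψ h2

theorem finite_quotient_pow (k : Type u) [Field k] (B : Type u) [CommRing B] [Algebra k B]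
    [Algebra.FiniteType k B] (I : Ideal B) [I.IsMaximal] (n : ℕ) :
    Module.Finite k (B ⧸ I ^ (n + 1)) := by
  have : Algebra.FiniteType k (B ⧸ I ^ (n + 1)) :=
    Algebra.FiniteType.of_surjective (Ideal.Quotient.mkₐ k (I ^ (n + 1))) Ideal.Quotient.mk_surjective
  rw [Module.finite_iff_krullDimLE_zero]
  refine Ring.KrullDimLE.mk₀ fun P hP => ?_
  have h1 : I ≤ P.comap (Ideal.Quotient.mk (I ^ (n + 1))) := by
    intro x hx
    have h2 : Ideal.Quotient.mk (I ^ (n + 1)) x ^ (n + 1) ∈ P := by
      rw [← map_pow, Ideal.Quotient.eq_zero_iff_mem.mpr (Ideal.pow_mem_pow hx _)]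
      exact P.zero_mem
    exact hP.mem_of_pow_mem _ h2
  have h2 : (P.comap (Ideal.Quotient.mk (I ^ (n + 1)))).IsPrime := hP.comap _
  have h3 : I = P.comap (Ideal.Quotient.mk (I ^ (n + 1))) :=
    Ideal.IsMaximal.eq_of_le ‹_› h2.ne_top h1
  have h4 : (P.comap (Ideal.Quotient.mk (I ^ (n + 1)))).IsMaximal := by rw [← h3]; infer_instance
  have h5 : (P.comap (Ideal.Quotient.mk (I ^ (n + 1)))).map (Ideal.Quotient.mk (I ^ (n + 1))) = P :=
    Ideal.map_comap_of_surjective _ Ideal.Quotient.mk_surjective P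
  rw [← h5]
  exact (Ideal.map_eq_top_or_isMaximal_of_surjective _ Ideal.Quotient.mk_surjective h4).resolve_left
    (by rw [h5]; exact hP.ne_top)

/-- The conjugation representations on the infinitesimal neighbourhoods of the unit of a group scheme
over a field. -/
theorem exists_reps (k : Type u) [Field k] (G : Over (Spec (CommRingCat.of k))) [GrpObj G]
    [CompactSpace G.left] [QuasiSeparatedSpace G.left]
    (B : Type u) [CommRing B] [Algebra k B] [Algebra.FiniteType k B] (w : DE k B ⟶ G)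
    [IsOpenImmersion w.left]
    (eW : 𝟙_ (Over (Spec (CommRingCat.of k))) ⟶ DE k B) (heW : eW ≫ w = η[G]) (n : ℕ) :
    ∃ (m : Type u) (_ : Fintype m) (_ : DecidableEq m) (f : G ⟶ GLS m (Spec (CommRingCat.of k))),
      IsMonHom f ∧
      ∀ {T : Over (Spec (CommRingCat.of k))} (g : T ⟶ G),
        g ≫ f = 1 ↔ ∀ (X : Over (Spec (CommRingCat.of k))) (p : X ⟶ T)
          (d : X ⟶ DE k (B ⧸ (augIdeal eW) ^ (n + 1))),
          (p ≫ g) * (d ≫ quotMap _ ≫ w) * (p ≫ g)⁻¹ = d ≫ quotMap _ ≫ w := by
  classical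
  have := isMaximal_augIdeal k B eW
  have := finite_quotient_pow k B (augIdeal eW) n
  let b := Module.finBasis k (B ⧸ (augIdeal eW) ^ (n + 1))
  let b' := b.reindex (Equiv.ulift.{u}).symm
  obtain ⟨f, hf, h⟩ := exists_adRep_pow w eW heW n b'
  exact ⟨_, inferInstance, inferInstance, f, hf, h⟩

end Groth.Agent.Sga3C.InfNbhd
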