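import Groth.Prelude.Def_SGA3
import Mathlib.LinearAlgebra.TensorProduct.Basis
import Mathlib.LinearAlgebra.Matrix.Determinant.Basic
import Mathlib.LinearAlgebra.Matrix.Adjugate
import Mathlib.RingTheory.HopfAlgebra.Quotient

/-!
# Comodules given by multiplicative matrices

A matrix `a : ι → ι → A` over a coalgebra with `Δ (a i j) = ∑ l, a i l ⊗ a l j` and
`ε (a i j) = δ i j` makes `ι → k` a comodule.  Tensor powers are given by products of entries.
-/

set_option autoImplicit false
universe u v w w'
open TensorProduct

namespace Groth.Agent.Sga3C.MatComod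

section Coalg

variable (k : Type u) {A : Type v} [CommRing k] [AddCommGroup A] [Module k A] [Coalgebra k A]
variable {ι : Type w} [Fintype ι] [DecidableEq ι]

/-- A multiplicative matrix over a coalgebra. -/
structure IsMult (a : ι → ι → A) : Prop where
  comul : ∀ i j, CoalgebraStruct.comul (R := k) (a i j) = ∑ l, a i l ⊗ₜ[k] a l j
  counit : ∀ i j, CoalgebraStruct.counit (R := k) (a i j) = if i = j then (1 : k) else 0

/-- The coaction on `ι → k` given by a matrix. -/
noncomputable def coactOf (a : ι → ι → A) : (ι → k) →ₗ[k] (ι → k) ⊗[k] A :=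
  (Pi.basisFun k ι).constr k (fun j => ∑ i, (Pi.single i (1 : k) : ι → k) ⊗ₜ[k] a i j)

omit [Coalgebra k A] in
lemma coactOf_single (a : ι → ι → A) (j : ι) :
    coactOf k a (Pi.single j 1) = ∑ i, (Pi.single i (1 : k) : ι → k) ⊗ₜ[k] a i j := by
  rw [coactOf, ← Pi.basisFun_apply k ι j, Module.Basis.constr_basis]

omit [Coalgebra k A] in
lemma coactOf_apply (a : ι → ι → A) (v : ι → k) :
    coactOf k a v = ∑ i, (Pi.single i (1 : k) : ι → k) ⊗ₜ[k] (∑ j, v j • a i j) := by
  have hv : v = ∑ j, v j • (Pi.single j (1 : k) : ι → k) := by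
    ext i
    simp [Finset.sum_apply, Pi.single_apply]
  conv_lhs => rw [hv]
  simp only [map_sum, map_smul, coactOf_single, Finset.smul_sum, TensorProduct.tmul_sum,
    TensorProduct.tmul_smul]
  rw [Finset.sum_comm]

variable {k}

/-- The comodule on `ι → k` attached to a multiplicative matrix. -/
@[reducible] noncomputable def IsMult.comod {a : ι → ι → A} (ha : IsMult k a) :
    HopfRep.Comod k A (ι → k) where
  coact := coactOf k a
  coassoc := by
    refine (Pi.basisFun k ι).ext fun j => ?_
    simp only [Pi.basisFun_apply, LinearMap.comp_apply, coactOf_single, map_sum,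
      LinearMap.rTensor_tmul, LinearMap.lTensor_tmul, ha.comul, TensorProduct.sum_tmul,
      TensorProduct.tmul_sum, LinearEquiv.coe_coe, TensorProduct.assoc_tmul]
    rw [Finset.sum_comm]
  counit_comp := by
    refine (Pi.basisFun k ι).ext fun j => ?_
    simp only [Pi.basisFun_apply, LinearMap.comp_apply, coactOf_single, map_sum,
      LinearMap.lTensor_tmul, ha.counit, LinearMap.flip_apply, TensorProduct.mk_apply]
    rw [Finset.sum_eq_single j]
    · simp
    · intro b _ hb
      simp [hb]
    · simp

end Coalg

section Bialg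

variable {k : Type u} {A : Type v} [CommRing k] [CommRing A] [Bialgebra k A]
variable {ι : Type w} [Fintype ι] [DecidableEq ι] {κ : Type w'} [Fintype κ] [DecidableEq κ]

omit [Bialgebra k A] [Fintype κ] [DecidableEq κ] in
lemma prod_tmul_prod [Algebra k A] {B : Type*} [CommRing B] [Algebra k B] (s : Finset κ)
    (x : κ → A) (y : κ → B) :
    ∏ i ∈ s, (x i ⊗ₜ[k] y i) = (∏ i ∈ s, x i) ⊗ₜ[k] (∏ i ∈ s, y i) := by
  classical
  induction s using Finset.induction_on with
  | empty => simp [Algebra.TensorProduct.one_def]
  | insert a s ha ih =>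
    rw [Finset.prod_insert ha, Finset.prod_insert ha, Finset.prod_insert ha, ih,
      Algebra.TensorProduct.tmul_mul_tmul]

/-- Tensor powers of a multiplicative matrix. -/
lemma IsMult.tensorPow {a : ι → ι → A} (ha : IsMult k a) :
    IsMult k (fun f g : κ → ι => ∏ i, a (f i) (g i)) where
  comul f g := by
    have h1 : CoalgebraStruct.comul (R := k) (∏ i, a (f i) (g i)) =
        ∏ i, CoalgebraStruct.comul (R := k) (a (f i) (g i)) :=
      map_prod (Bialgebra.comulAlgHom k A) _ _
    rw [h1]
    simp only [ha.comul]
    rw [Finset.prod_univ_sum]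
    refine Finset.sum_congr (by simp) fun h _ => ?_
    exact prod_tmul_prod _ (fun i => a (f i) (h i)) (fun i => a (h i) (g i))
  counit f g := by
    have h1 : CoalgebraStruct.counit (R := k) (∏ i, a (f i) (g i)) =
        ∏ i, CoalgebraStruct.counit (R := k) (a (f i) (g i)) :=
      map_prod (Bialgebra.counitAlgHom k A) _ _
    rw [h1]
    simp only [ha.counit]
    by_cases hfg : f = g
    · subst hfg
      simp
    · rw [if_neg hfg]
      obtain ⟨i, hi⟩ := Function.ne_iff.mp hfg
      exact Finset.prod_eq_zero (Finset.mem_univ i) (by simp [hi])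

end Bialg

end Groth.Agent.Sga3C.MatComod
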