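import Groth.Prelude.Def_SGA3
import Groth.Agent.Books.DynBasic
import Mathlib.LinearAlgebra.TensorProduct.Basis
import Mathlib.LinearAlgebra.Eigenspace.Triangularizable
import Mathlib.RingTheory.Jacobson.Ring
import Mathlib.RingTheory.HopfAlgebra.Quotient
import Mathlib.FieldTheory.IsAlgClosed.Basic

/-!
# Semi-invariants of a normal subgroup, part A: points of a Hopf ideal, semi-invariants
-/

set_option autoImplicit false
universe u v
open TensorProduct WithConv

namespace Groth.Agent.Sga3C.NormalHopfA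

open Groth.Agent.Books.DynBasic

section Points

variable {k : Type u} [Field k] {A : Type u} [CommRing A] [HopfAlgebra k A]

/-- a point lies in the closed subscheme `V(I)` -/
def IsN {R : Type u} [CommRing R] [Algebra k R] (I : Ideal A) (n : WithConv (A →ₐ[k] R)) : Prop :=
  ∀ a ∈ I, n.ofConv a = 0

lemma IsN.mapPt {R S : Type u} [CommRing R] [Algebra k R] [CommRing S] [Algebra k S]
    {I : Ideal A} {n : WithConv (A →ₐ[k] R)} (hn : IsN I n) (φ : R →ₐ[k] S) :
    IsN I (mapPt φ n) := fun a ha => by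
  rw [mapPt_apply, hn a ha, map_zero]

lemma mul_apply_eq {R : Type u} [CommRing R] [Algebra k R] (x y : WithConv (A →ₐ[k] R)) (a : A) :
    (x * y).ofConv a = LinearMap.mul' k R
      (TensorProduct.map x.ofConv.toLinearMap y.ofConv.toLinearMap
        (CoalgebraStruct.comul (R := k) a)) := by
  rw [AlgHom.convMul_def]
  rfl

lemma mul_apply_of_comul {R : Type u} [CommRing R] [Algebra k R] (x y : WithConv (A →ₐ[k] R))
    {T : Type} [Fintype T] (a : A) (b c : T → A)
    (h : CoalgebraStruct.comul (R := k) a = ∑ i, b i ⊗ₜ[k] c i) :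
    (x * y).ofConv a = ∑ i, x.ofConv (b i) * y.ofConv (c i) := by
  rw [mul_apply_eq, h]
  simp [map_sum]

lemma one_apply_eq {R : Type u} [CommRing R] [Algebra k R] (a : A) :
    (1 : WithConv (A →ₐ[k] R)).ofConv a = algebraMap k R (CoalgebraStruct.counit (R := k) a) := rfl

lemma inv_apply_eq {R : Type u} [CommRing R] [Algebra k R] (x : WithConv (A →ₐ[k] R)) (a : A) :
    (x⁻¹).ofConv a = x.ofConv (HopfAlgebraStruct.antipode (R := k) a) := rfl

variable {I : Ideal A} [I.IsHopfIdeal k]

lemma IsN.one {R : Type u} [CommRing R] [Algebra k R] : IsN I (1 : WithConv (A →ₐ[k] R)) :=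
  fun a ha => by
    rw [one_apply_eq, Submodule.IsCoideal.counit_eq_zero (I := I.restrictScalars k) ha, map_zero]

lemma IsN.inv {R : Type u} [CommRing R] [Algebra k R] {n : WithConv (A →ₐ[k] R)}
    (hn : IsN I n) : IsN I n⁻¹ := fun a ha => by
  rw [inv_apply_eq]
  exact hn _ (Ideal.IsHopfIdeal.antipode_mem ha)

lemma IsN.mul {R : Type u} [CommRing R] [Algebra k R] {m n : WithConv (A →ₐ[k] R)}
    (hm : IsN I m) (hn : IsN I n) : IsN I (m * n) := fun a ha => by
  rw [mul_apply_eq]
  have h1 : TensorProduct.map m.ofConv.toLinearMap n.ofConv.toLinearMap =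
      TensorProduct.map ((I.restrictScalars k).liftQ m.ofConv.toLinearMap (fun x hx => hm x hx))
        ((I.restrictScalars k).liftQ n.ofConv.toLinearMap (fun x hx => hn x hx)) ∘ₗ
      TensorProduct.map (I.restrictScalars k).mkQ (I.restrictScalars k).mkQ := by
    ext x y
    simp
  rw [h1, LinearMap.comp_apply, Submodule.IsCoideal.map_mkQ_comul_eq_zero (R := k)
    (I := I.restrictScalars k) ha, map_zero, map_zero]

omit [I.IsHopfIdeal k] in
lemma IsN.conj {R : Type u} [CommRing R] [Algebra k R] (hI : SGA3.IsNormalHopfIdeal k A I)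
    {n : WithConv (A →ₐ[k] R)} (hn : IsN I n) (g : WithConv (A →ₐ[k] R)) :
    IsN I (g * n * g⁻¹) := fun a ha => by
  have h := hI R g.ofConv n.ofConv hn a ha
  rw [conv3_eq] at h
  exact h

omit [I.IsHopfIdeal k] in
lemma IsN.conj' {R : Type u} [CommRing R] [Algebra k R] (hI : SGA3.IsNormalHopfIdeal k A I)
    {n : WithConv (A →ₐ[k] R)} (hn : IsN I n) (g : WithConv (A →ₐ[k] R)) :
    IsN I (g⁻¹ * n * g) := by
  have := IsN.conj hI hn g⁻¹
  rwa [inv_inv] at this

end Points

section Universal

variable (k : Type u) [Field k] {A : Type u} [CommRing A] [HopfAlgebra k A] (I : Ideal A)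

/-- the universal point of `G × N`, first component -/
noncomputable def uX : WithConv (A →ₐ[k] A ⊗[k] (A ⧸ I)) :=
  toConv Algebra.TensorProduct.includeLeft

/-- the universal point of `G × N`, second component -/
noncomputable def uN : WithConv (A →ₐ[k] A ⊗[k] (A ⧸ I)) :=
  toConv (Algebra.TensorProduct.includeRight.comp (Ideal.Quotient.mkₐ k I))

lemma uX_apply (a : A) : (uX k I).ofConv a = a ⊗ₜ 1 := rfl

lemma uN_apply (a : A) : (uN k I).ofConv a = 1 ⊗ₜ (Ideal.Quotient.mk I a) := rfl

lemma isN_uN : IsN I (uN k I) := fun a ha => by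
  rw [uN_apply, Ideal.Quotient.eq_zero_iff_mem.mpr ha, TensorProduct.tmul_zero]

variable {k I}

/-- the classifying map of a pair of points -/
noncomputable def cl {R : Type u} [CommRing R] [Algebra k R] (x n : WithConv (A →ₐ[k] R))
    (hn : IsN I n) : A ⊗[k] (A ⧸ I) →ₐ[k] R :=
  Algebra.TensorProduct.lift x.ofConv (Ideal.Quotient.liftₐ I n.ofConv hn)
    (fun _ _ => Commute.all _ _)

lemma cl_tmul {R : Type u} [CommRing R] [Algebra k R] (x n : WithConv (A →ₐ[k] R))
    (hn : IsN I n) (a : A) (c : A ⧸ I) :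
    cl x n hn (a ⊗ₜ c) = x.ofConv a * Ideal.Quotient.liftₐ I n.ofConv hn c := rfl

lemma mapPt_cl_uX {R : Type u} [CommRing R] [Algebra k R] (x n : WithConv (A →ₐ[k] R))
    (hn : IsN I n) : mapPt (cl x n hn) (uX k I) = x := by
  apply WithConv.ofConv_injective
  ext a
  rw [mapPt_apply, uX_apply, cl_tmul, map_one, mul_one]

lemma mapPt_cl_uN {R : Type u} [CommRing R] [Algebra k R] (x n : WithConv (A →ₐ[k] R))
    (hn : IsN I n) : mapPt (cl x n hn) (uN k I) = n := by
  apply WithConv.ofConv_injective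
  ext a
  rw [mapPt_apply, uN_apply, cl_tmul, map_one, one_mul]
  rfl

variable (k I)

/-- `f` is semi-invariant under right translation by `N = V(I)`, with character `e`. -/
def SI (e f : A) : Prop :=
  ∀ (R : Type u) [CommRing R] [Algebra k R] (x n : WithConv (A →ₐ[k] R)), IsN I n →
    (x * n).ofConv f = x.ofConv f * n.ofConv e

variable {k I}

lemma SI.of_universal {e f : A}
    (h : (uX k I * uN k I).ofConv f = (uX k I).ofConv f * (uN k I).ofConv e) : SI k I e f := by
  intro R _ _ x n hn
  have h2 := congrArg (cl x n hn) h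
  rw [map_mul, ← mapPt_apply, ← mapPt_apply, ← mapPt_apply, map_mul, mapPt_cl_uX, mapPt_cl_uN]
    at h2
  exact h2

end Universal

section Eigen

/-- Common eigenvector of multiplication operators. -/
lemma exists_common_eigenvector {K : Type u} [Field K] [IsAlgClosed K] {E : Type v} [CommRing E]
    [Algebra K E] (s : Finset E) :
    ∀ (W : Submodule K E), Module.Finite K W → W ≠ ⊥ → (∀ t ∈ s, ∀ w ∈ W, t * w ∈ W) →
      ∃ c ∈ W, c ≠ 0 ∧ ∀ t ∈ s, ∃ ω : K, t * c = ω • c := by
  classical
  induction s using Finset.induction_on with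
  | empty =>
    intro W _ hW _
    obtain ⟨c, hc, hc0⟩ := Submodule.exists_mem_ne_zero_of_ne_bot hW
    exact ⟨c, hc, hc0, by simp⟩
  | insert a s ha ih =>
    intro W hfin hW hst
    have : Nontrivial W := Submodule.nontrivial_iff_ne_bot.mpr hW
    let f : Module.End K W := ((LinearMap.mulLeft K a).restrict
      (fun w hw => hst a (Finset.mem_insert_self a s) w hw))
    obtain ⟨ω, hω⟩ := Module.End.exists_eigenvalue f
    obtain ⟨v, hv⟩ := hω.exists_hasEigenvector
    -- the eigenspace as a submodule of `E`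
    let W' : Submodule K E := W ⊓ LinearMap.ker (LinearMap.mulLeft K a - ω • LinearMap.id)
    have hmem : ∀ x, x ∈ W' ↔ x ∈ W ∧ a * x = ω • x := by
      intro x
      simp only [W', Submodule.mem_inf, LinearMap.mem_ker, LinearMap.sub_apply,
        LinearMap.mulLeft_apply, LinearMap.smul_apply, LinearMap.id_apply, sub_eq_zero]
    have hfin' : Module.Finite K W' :=
      Submodule.finiteDimensional_of_le (inf_le_left : W' ≤ W)
    have hW' : W' ≠ ⊥ := by
      intro h
      have hv1 : (v : E) ∈ W' := by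
        rw [hmem]
        refine ⟨v.2, ?_⟩
        have := hv.apply_eq_smul
        exact congrArg Subtype.val this
      rw [h, Submodule.mem_bot] at hv1
      exact hv.2 (Subtype.ext hv1)
    obtain ⟨c, hc, hc0, hcs⟩ := ih W' hfin' hW' (by
      intro t ht w hw
      rw [hmem] at hw ⊢
      refine ⟨hst t (Finset.mem_insert_of_mem ht) w hw.1, ?_⟩
      rw [mul_left_comm, hw.2, mul_smul_comm])
    refine ⟨c, ((hmem c).mp hc).1, hc0, fun t ht => ?_⟩
    rcases Finset.mem_insert.mp ht with rfl | ht
    · exact ⟨ω, ((hmem c).mp hc).2⟩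
    · exact hcs t ht

/-- A proper ideal of a finitely generated algebra over an algebraically closed field has a
rational zero. -/
lemma exists_point {K : Type u} [Field K] [IsAlgClosed K] {E : Type v} [CommRing E]
    [Algebra K E] [Algebra.FiniteType K E] (J : Ideal E) (hJ : J ≠ ⊤) :
    ∃ g : E →ₐ[K] K, ∀ x ∈ J, g x = 0 := by
  obtain ⟨m, hm, hJm⟩ := Ideal.exists_le_maximal J hJ
  let _ : Field (E ⧸ m) := Ideal.Quotient.field m
  have : Algebra.FiniteType K (E ⧸ m) := inferInstance
  have : Module.Finite K (E ⧸ m) := finite_of_finite_type_of_isJacobsonRing K (E ⧸ m)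
  let φ : (E ⧸ m) →ₐ[K] K := IsAlgClosed.lift
  refine ⟨φ.comp (Ideal.Quotient.mkₐ K m), fun x hx => ?_⟩
  simp only [AlgHom.comp_apply, Ideal.Quotient.mkₐ_eq_mk]
  rw [Ideal.Quotient.eq_zero_iff_mem.mpr (hJm hx), map_zero]

end Eigen

end Groth.Agent.Sga3C.NormalHopfA
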