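import Groth.Agent.Sga3C.NormalHopfA
import Mathlib.RingTheory.Flat.Basic
import Mathlib.RingTheory.TensorProduct.Finite
import Mathlib.RingTheory.FiniteType
import Mathlib.RingTheory.Flat.FaithfullyFlat.Basic

/-!
# Semi-invariants of a normal subgroup, part B: the inverse of an extendible character is extendible
-/

set_option autoImplicit false
universe u v
open TensorProduct WithConv

namespace Groth.Agent.Sga3C.NormalHopfB

open Groth.Agent.Books.DynBasic Groth.Agent.Sga3C.NormalHopfA

variable {k : Type u} [Field k] {A : Type u} [CommRing A] [HopfAlgebra k A] {I : Ideal A}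
variable {K : Type u} [Field K] [Algebra k K]

section EvK

variable {R : Type u} [CommRing R] [Algebra k R] [Algebra K R] [IsScalarTower k K R]
variable {S : Type u} [CommRing S] [Algebra k S] [Algebra K S] [IsScalarTower k K S]

/-- evaluation of a function on `G_K` at a point with values in a `K`-algebra -/
noncomputable def evK (x : WithConv (A →ₐ[k] R)) : K ⊗[k] A →ₐ[K] R :=
  Algebra.TensorProduct.lift (Algebra.ofId K R) x.ofConv (fun _ _ => Commute.all _ _)

lemma evK_tmul (x : WithConv (A →ₐ[k] R)) (c : K) (a : A) :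
    evK (K := K) x (c ⊗ₜ a) = algebraMap K R c * x.ofConv a := rfl

lemma evK_mapPt (φ : R →ₐ[K] S) (x : WithConv (A →ₐ[k] R)) (c : K ⊗[k] A) :
    evK (K := K) (mapPt (φ.restrictScalars k) x) c = φ (evK (K := K) x c) := by
  induction c using TensorProduct.induction_on with
  | zero => simp
  | tmul c a =>
    rw [evK_tmul, evK_tmul, map_mul, AlgHom.commutes]
    rfl
  | add a b ha hb => rw [map_add, map_add, ha, hb, map_add]

/-- the tautological point of `G` with values in `K ⊗ A` -/
noncomputable def uK : WithConv (A →ₐ[k] K ⊗[k] A) := toConv Algebra.TensorProduct.includeRight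

lemma evK_uK (c : K ⊗[k] A) : evK (K := K) (uK (k := k) (A := A) (K := K)) c = c := by
  induction c using TensorProduct.induction_on with
  | zero => simp
  | tmul c a =>
    rw [evK_tmul]
    change (c ⊗ₜ[k] (1 : A)) * ((1 : K) ⊗ₜ[k] a) = _
    rw [Algebra.TensorProduct.tmul_mul_tmul, mul_one, one_mul]
  | add a b ha hb => rw [map_add, ha, hb]

lemma mapPt_evK_uK (x : WithConv (A →ₐ[k] R)) :
    mapPt ((evK (K := K) x).restrictScalars k) uK = x := by
  apply WithConv.ofConv_injective
  ext a
  change evK (K := K) x (1 ⊗ₜ a) = _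
  rw [evK_tmul, map_one, one_mul]

end EvK

lemma conj_swap {R : Type u} [CommRing R] [Algebra k R] (n x : WithConv (A →ₐ[k] R)) :
    n * x = x * (x⁻¹ * n * x) := by
  rw [← mul_assoc, ← mul_assoc, mul_inv_cancel, one_mul]

section Coeffs

variable (k I)

/-- the conjugated character `ψ(x, n) = e(x⁻¹ n x)` as a function on `G × N` -/
noncomputable def psi (e : A) : A ⊗[k] (A ⧸ I) := ((uX k I)⁻¹ * uN k I * uX k I).ofConv e

variable {k I}

lemma cl_psi (e : A) {R : Type u} [CommRing R] [Algebra k R] (x n : WithConv (A →ₐ[k] R))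
    (hn : IsN I n) : cl x n hn (psi k I e) = (x⁻¹ * n * x).ofConv e := by
  rw [psi, ← mapPt_apply, map_mul, map_mul, map_inv, mapPt_cl_uX, mapPt_cl_uN]

/-- coefficients of `ψ` preserve the span of a left-translation-stable family -/
lemma coeff_mul_mem (hI : SGA3.IsNormalHopfIdeal k A I) {T : Type} [Fintype T] (m : T → A)
    (b : T → T → A)
    (hm : ∀ f, CoalgebraStruct.comul (R := k) (m f) = ∑ h, b f h ⊗ₜ[k] m h)
    (e : A) (hSI : ∀ f, SI k I e (m f)) {κ : Type u} [DecidableEq κ]
    (xb : Module.Basis κ k (A ⧸ I)) (f : T) (j : κ) :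
    TensorProduct.equivFinsuppOfBasisRight (M := A) xb (psi k I e) j * m f ∈
      Submodule.span k (Set.range m) := by
  obtain ⟨t, ht⟩ := TensorProduct.eq_repr_basis_right (R := k) xb (psi k I e)
  rw [Finsupp.sum] at ht
  have ht' : TensorProduct.equivFinsuppOfBasisRight (M := A) xb (psi k I e) = t := by
    rw [← ht]
    ext i
    simp only [map_sum, TensorProduct.equivFinsuppOfBasisRight_apply_tmul, Module.Basis.repr_self,
      Finsupp.coe_finsetSum, Finset.sum_apply, Finsupp.mapRange_apply, Finsupp.single_apply,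
      ite_smul, one_smul, zero_smul, Finset.sum_ite_eq']
    split_ifs with h
    · rfl
    · exact (Finsupp.notMem_support_iff.mp h).symm
  rw [ht']
  have h1 : (uN k I * uX k I).ofConv (m f) = (m f ⊗ₜ 1) * psi k I e := by
    rw [conj_swap (uN k I) (uX k I), hSI f _ (uX k I) _ (IsN.conj' hI (isN_uN k I) (uX k I)), uX_apply]
    rfl
  rw [mul_apply_of_comul _ _ (m f) (b f) m (hm f), ← ht] at h1
  have h2 := congrArg (TensorProduct.equivFinsuppOfBasisRight (M := A) xb) h1
  have h3 := DFunLike.congr_fun h2 j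
  simp only [map_sum, Finset.mul_sum, uX_apply, uN_apply, Finsupp.coe_finsetSum,
    Finset.sum_apply,
    Algebra.TensorProduct.tmul_mul_tmul, one_mul, mul_one,
    TensorProduct.equivFinsuppOfBasisRight_apply_tmul_apply, Module.Basis.repr_self,
    Finsupp.single_apply, ite_smul, one_smul, zero_smul, Finset.sum_ite_eq'] at h3
  rw [mul_comm]
  by_cases hj : j ∈ t.support
  · rw [if_pos hj] at h3
    rw [← h3]
    exact Submodule.sum_mem _ fun h _ => Submodule.smul_mem _ _
      (Submodule.subset_span ⟨h, rfl⟩)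
  · rw [Finsupp.notMem_support_iff.mp hj, mul_zero]
    exact Submodule.zero_mem _

end Coeffs

section Main

/-- the `K`-span of the functions `1 ⊗ m f` -/
noncomputable def WK (K : Type u) [Field K] [Algebra k K] {T : Type} (m : T → A) :
    Submodule K (K ⊗[k] A) := Submodule.span K (Set.range fun f => (1 : K) ⊗ₜ[k] m f)

lemma WK_mul_mem {T : Type} (m : T → A) (t : A)
    (h : ∀ f, t * m f ∈ Submodule.span k (Set.range m)) (w : K ⊗[k] A) (hw : w ∈ WK K m) :
    ((1 : K) ⊗ₜ[k] t) * w ∈ WK K m := by
  have key : Submodule.span k (Set.range m) ≤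
      ((WK K m).restrictScalars k).comap
        (Algebra.TensorProduct.includeRight : A →ₐ[k] K ⊗[k] A).toLinearMap := by
    rw [Submodule.span_le]
    rintro _ ⟨f, rfl⟩
    exact Submodule.subset_span ⟨f, rfl⟩
  have h2 : WK K m ≤ (WK K m).comap (LinearMap.mulLeft K ((1 : K) ⊗ₜ[k] t)) := by
    refine Submodule.span_le.mpr ?_
    rintro _ ⟨f, rfl⟩
    have h3 := key (h f)
    change (1 : K) ⊗ₜ[k] (t * m f) ∈ WK K m at h3
    change ((1 : K) ⊗ₜ[k] t) * ((1 : K) ⊗ₜ[k] m f) ∈ WK K m
    rwa [Algebra.TensorProduct.tmul_mul_tmul, one_mul]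
  exact h2 hw

/-- elements of `WK` are semi-invariant -/
lemma evK_mul_of_mem {T : Type} {m : T → A} {e : A} (hSI : ∀ f, SI k I e (m f))
    {c : K ⊗[k] A} (hc : c ∈ WK K m)
    {R : Type u} [CommRing R] [Algebra k R] [Algebra K R] [IsScalarTower k K R]
    (x n : WithConv (A →ₐ[k] R)) (hn : IsN I n) :
    evK (K := K) (x * n) c = evK (K := K) x c * n.ofConv e := by
  have h : WK K m ≤ LinearMap.ker ((evK (K := K) (x * n)).toLinearMap -
      (LinearMap.mulRight K (n.ofConv e)) ∘ₗ (evK (K := K) x).toLinearMap) := by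
    refine Submodule.span_le.mpr ?_
    rintro _ ⟨f, rfl⟩
    simp only [SetLike.mem_coe, LinearMap.mem_ker, LinearMap.sub_apply, LinearMap.comp_apply,
      AlgHom.toLinearMap_apply, LinearMap.mulRight_apply, evK_tmul, map_one, one_mul, sub_eq_zero]
    exact hSI f R x n hn
  have h2 := h hc
  simp only [LinearMap.mem_ker, LinearMap.sub_apply, LinearMap.comp_apply,
      AlgHom.toLinearMap_apply, LinearMap.mulRight_apply, sub_eq_zero] at h2
  exact h2

/-- a `K`-point, viewed in a `K`-algebra -/
noncomputable def constPt (g : A →ₐ[k] K) (R : Type u) [CommRing R] [Algebra k R] [Algebra K R]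
    [IsScalarTower k K R] : WithConv (A →ₐ[k] R) :=
  toConv ((IsScalarTower.toAlgHom k K R).comp g)

lemma constPt_apply (g : A →ₐ[k] K) (R : Type u) [CommRing R] [Algebra k R] [Algebra K R]
    [IsScalarTower k K R] (a : A) : (constPt g R).ofConv a = algebraMap K R (g a) := rfl

/-- left translation of a common eigenvector of the coefficients of `ψ` -/
lemma evK_left_of_eigen (hI : SGA3.IsNormalHopfIdeal k A I) {T : Type} {m : T → A} {e : A}
    (hSI : ∀ f, SI k I e (m f)) {κ : Type u} [DecidableEq κ]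
    (xb : Module.Basis κ k (A ⧸ I)) {c : K ⊗[k] A} (hc : c ∈ WK K m) (g : A →ₐ[k] K)
    (hg : ∀ j, ((1 : K) ⊗ₜ[k]
      TensorProduct.equivFinsuppOfBasisRight (M := A) xb (psi k I e) j) * c =
      g (TensorProduct.equivFinsuppOfBasisRight (M := A) xb (psi k I e) j) • c)
    {R : Type u} [CommRing R] [Algebra k R] [Algebra K R] [IsScalarTower k K R]
    (x n : WithConv (A →ₐ[k] R)) (hn : IsN I n) :
    evK (K := K) (n * x) c = evK (K := K) x c * ((constPt g R)⁻¹ * n * constPt g R).ofConv e := by
  set t := TensorProduct.equivFinsuppOfBasisRight (M := A) xb (psi k I e) with ht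
  have hψ : psi k I e = ∑ j ∈ t.support, t j ⊗ₜ xb j := by
    rw [← (TensorProduct.equivFinsuppOfBasisRight (M := A) xb).symm_apply_apply (psi k I e),
      ← ht, TensorProduct.equivFinsuppOfBasisRight_symm_apply]
    rfl
  rw [conj_swap n x, evK_mul_of_mem hSI hc x _ (IsN.conj' hI hn x), ← cl_psi e x n hn,
    ← cl_psi e (constPt g R) n hn, hψ, map_sum, map_sum, Finset.mul_sum, Finset.mul_sum]
  refine Finset.sum_congr rfl fun j _ => ?_
  rw [cl_tmul, cl_tmul, constPt_apply, ← mul_assoc, ← mul_assoc]
  congr 1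
  have h2 := congrArg (evK (K := K) x) (hg j)
  rw [map_mul, evK_tmul, map_one, one_mul, map_smul, Algebra.smul_def] at h2
  rw [mul_comm, h2, mul_comm]

end Main

end Groth.Agent.Sga3C.NormalHopfB
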