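import Groth.Agent.Sga3C.NormalHopfB
import Mathlib.FieldTheory.IsAlgClosed.AlgebraicClosure
import Mathlib.RingTheory.Flat.FaithfullyFlat.Basic
import Mathlib.RingTheory.FiniteStability

/-!
# Semi-invariants of a normal subgroup, part C: the inverse of an extendible character is extendible
-/

set_option autoImplicit false
universe u v
open TensorProduct WithConv

namespace Groth.Agent.Sga3C.NormalHopfC

open Groth.Agent.Books.DynBasic Groth.Agent.Sga3C.NormalHopfA Groth.Agent.Sga3C.NormalHopfB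

variable {k : Type u} [Field k] {A : Type u} [CommRing A] [HopfAlgebra k A] {I : Ideal A}
variable {K : Type u} [Field K] [Algebra k K]

/-- existence of the eigenvector and the rational point -/
lemma exists_eigen_point [IsAlgClosed K] [Algebra.FiniteType k A]
    {T : Type} [Fintype T] (m : T → A) {κ : Type u} (t : κ →₀ A)
    (hstab : ∀ f j, t j * m f ∈ Submodule.span k (Set.range m)) (f0 : T) (hf0 : m f0 ≠ 0) :
    ∃ c ∈ WK (k := k) K m, c ≠ 0 ∧ ∃ g : A →ₐ[k] K, ∀ j, ((1 : K) ⊗ₜ[k] t j) * c = g (t j) • c := by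
  classical
  have hfin : Module.Finite K (WK (k := k) K m) := FiniteDimensional.span_of_finite K (Set.finite_range _)
  have hne : WK (k := k) K m ≠ ⊥ := by
    intro h
    have h1 : (1 : K) ⊗ₜ[k] m f0 ∈ WK (k := k) K m := Submodule.subset_span ⟨f0, rfl⟩
    rw [h, Submodule.mem_bot] at h1
    apply hf0
    have hinj : Function.Injective (Algebra.TensorProduct.includeRight : A →ₐ[k] K ⊗[k] A) :=
      Algebra.TensorProduct.includeRight_injective (algebraMap k K).injective
    exact hinj (by rw [map_zero]; exact h1)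
  obtain ⟨c, hcW, hc0, hc⟩ := exists_common_eigenvector
    (t.support.image fun j => (1 : K) ⊗ₜ[k] t j) (WK (k := k) K m) hfin hne (by
      intro z hz w hw
      obtain ⟨j, -, rfl⟩ := Finset.mem_image.mp hz
      exact WK_mul_mem m (t j) (fun f => hstab f j) w hw)
  have hω : ∀ j, ∃ ω : K, ((1 : K) ⊗ₜ[k] t j) * c = ω • c := by
    intro j
    by_cases hj : j ∈ t.support
    · exact hc _ (Finset.mem_image_of_mem _ hj)
    · refine ⟨0, ?_⟩
      rw [Finsupp.notMem_support_iff.mp hj, TensorProduct.tmul_zero, zero_mul, zero_smul]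
  choose ω hω using hω
  set J : Ideal (K ⊗[k] A) := Ideal.span (Set.range fun j =>
    ((1 : K) ⊗ₜ[k] t j) - algebraMap K (K ⊗[k] A) (ω j)) with hJ
  have hJ' : J ≠ ⊤ := by
    intro h
    have h1 : J ≤ LinearMap.ker (LinearMap.toSpanSingleton (K ⊗[k] A) (K ⊗[k] A) c) := by
      rw [hJ, Ideal.span_le]
      rintro _ ⟨j, rfl⟩
      simp only [SetLike.mem_coe, LinearMap.mem_ker, LinearMap.toSpanSingleton_apply, smul_eq_mul,
        sub_mul, hω, ← Algebra.smul_def, sub_self]
    have h2 : (1 : K ⊗[k] A) ∈ J := h ▸ Submodule.mem_top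
    have h3 := h1 h2
    simp only [LinearMap.mem_ker, LinearMap.toSpanSingleton_apply, one_smul] at h3
    exact hc0 h3
  have : Algebra.FiniteType K (K ⊗[k] A) := inferInstance
  obtain ⟨g, hg⟩ := exists_point (K := K) J hJ'
  refine ⟨c, hcW, hc0, (g.restrictScalars k).comp Algebra.TensorProduct.includeRight,
    fun j => ?_⟩
  have h1 := hg _ (Ideal.subset_span ⟨j, rfl⟩)
  simp only [map_sub, AlgHom.commutes, sub_eq_zero, Algebra.algebraMap_self, RingHom.id_apply]
    at h1
  change _ = g ((1 : K) ⊗ₜ[k] t j) • c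
  rw [h1, hω]

/-- translation-inversion of a function on `G_K` -/
noncomputable def trInv (g : A →ₐ[k] K) (c : K ⊗[k] A) : K ⊗[k] A :=
  evK (K := K) (constPt g (K ⊗[k] A) * (uK (k := k) (A := A) (K := K))⁻¹) c

lemma mapPt_constPt (g : A →ₐ[k] K)
    {R : Type u} [CommRing R] [Algebra k R] [Algebra K R] [IsScalarTower k K R]
    {S : Type u} [CommRing S] [Algebra k S] [Algebra K S] [IsScalarTower k K S]
    (φ : R →ₐ[K] S) : mapPt (φ.restrictScalars k) (constPt g R) = constPt g S := by
  apply WithConv.ofConv_injective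
  ext a
  change φ (algebraMap K R (g a)) = algebraMap K S (g a)
  rw [AlgHom.commutes]

lemma evK_trInv (g : A →ₐ[k] K) (c : K ⊗[k] A)
    {R : Type u} [CommRing R] [Algebra k R] [Algebra K R] [IsScalarTower k K R]
    (y : WithConv (A →ₐ[k] R)) :
    evK (K := K) y (trInv g c) = evK (K := K) (constPt g R * y⁻¹) c := by
  rw [trInv, ← evK_mapPt (evK (K := K) y), map_mul, map_inv, mapPt_constPt, mapPt_evK_uK]

lemma trInv_ne_zero (g : A →ₐ[k] K) {c : K ⊗[k] A} (hc : c ≠ 0) : trInv g c ≠ 0 := by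
  intro h
  apply hc
  have h1 := evK_trInv g c ((uK (k := k) (A := A) (K := K))⁻¹ * constPt g (K ⊗[k] A))
  rw [h, map_zero] at h1
  have h2 : constPt g (K ⊗[k] A) * ((uK (k := k) (A := A) (K := K))⁻¹ * constPt g (K ⊗[k] A))⁻¹ =
      uK := by
    rw [mul_inv_rev, inv_inv, ← mul_assoc, mul_inv_cancel, one_mul]
  rw [h2, evK_uK] at h1
  exact h1.symm

/-- the translated-inverted eigenvector is semi-invariant for the inverse character -/
lemma trInv_semiInv [I.IsHopfIdeal k] (hI : SGA3.IsNormalHopfIdeal k A I) {T : Type} {m : T → A}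
    {e : A} (hSI : ∀ f, SI k I e (m f)) {κ : Type u} [DecidableEq κ]
    (xb : Module.Basis κ k (A ⧸ I)) {c : K ⊗[k] A} (hc : c ∈ WK (k := k) K m) (g : A →ₐ[k] K)
    (hg : ∀ j, ((1 : K) ⊗ₜ[k]
      TensorProduct.equivFinsuppOfBasisRight (M := A) xb (psi k I e) j) * c =
      g (TensorProduct.equivFinsuppOfBasisRight (M := A) xb (psi k I e) j) • c)
    {R : Type u} [CommRing R] [Algebra k R] [Algebra K R] [IsScalarTower k K R]
    (y n : WithConv (A →ₐ[k] R)) (hn : IsN I n) :
    evK (K := K) (y * n) (trInv g c) =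
      evK (K := K) y (trInv g c) * n.ofConv (HopfAlgebraStruct.antipode (R := k) e) := by
  rw [evK_trInv, evK_trInv]
  have h1 : constPt g R * (y * n)⁻¹ =
      (constPt g R * n⁻¹ * (constPt g R)⁻¹) * (constPt g R * y⁻¹) := by
    rw [mul_inv_rev, mul_assoc (constPt g R * n⁻¹), inv_mul_cancel_left, mul_assoc]
  rw [h1, evK_left_of_eigen hI hSI xb hc g hg _ _ (IsN.conj hI hn.inv (constPt g R))]
  have h2 : (constPt g R)⁻¹ * (constPt g R * n⁻¹ * (constPt g R)⁻¹) * constPt g R = n⁻¹ := by
    rw [mul_assoc, inv_mul_cancel_right, inv_mul_cancel_left]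
  rw [h2, inv_apply_eq]

/-- descent of a nonzero solution of a semi-invariance equation from `K` to `k` -/
lemma exists_of_evK_aux {D : Type u} [CommRing D] [Algebra k D] (X N : WithConv (A →ₐ[k] D))
    (e' : A) (z : K ⊗[k] A) (hz : z ≠ 0)
    (h : evK (K := K) (mapPt (Algebra.TensorProduct.includeRight : D →ₐ[k] K ⊗[k] D) X *
        mapPt (Algebra.TensorProduct.includeRight : D →ₐ[k] K ⊗[k] D) N) z =
      evK (K := K) (mapPt (Algebra.TensorProduct.includeRight : D →ₐ[k] K ⊗[k] D) X) z *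
        (mapPt (Algebra.TensorProduct.includeRight : D →ₐ[k] K ⊗[k] D) N).ofConv e') :
    ∃ h : A, h ≠ 0 ∧ (X * N).ofConv h = X.ofConv h * N.ofConv e' := by
  -- the linear map whose kernel is the space of semi-invariants
  let φ : A →ₗ[k] D := (X * N).ofConv.toLinearMap -
    LinearMap.mulRight k (N.ofConv e') ∘ₗ X.ofConv.toLinearMap
  have hφ : ∀ h, φ h = 0 → (X * N).ofConv h = X.ofConv h * N.ofConv e' := by
    intro h hh
    simpa [φ, sub_eq_zero] using hh
  by_contra hcon
  push Not at hcon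
  have hφinj : Function.Injective φ := by
    rw [← LinearMap.ker_eq_bot, LinearMap.ker_eq_bot']
    intro h hh
    by_contra h0
    exact hcon h h0 (hφ h hh)
  have hφK : Function.Injective (φ.baseChange K) :=
    Module.Flat.lTensor_preserves_injective_linearMap (M := K) φ hφinj
  apply hz
  apply hφK
  rw [map_zero]
  -- compute
  rw [← sub_eq_zero] at h
  rw [← h]
  clear h hz
  induction z using TensorProduct.induction_on with
  | zero => simp
  | tmul a b =>
    rw [LinearMap.baseChange_tmul, evK_tmul, evK_tmul, ← map_mul, mapPt_apply, mapPt_apply,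
      mapPt_apply]
    change a ⊗ₜ[k] (φ b) = (a ⊗ₜ[k] 1) * ((1 : K) ⊗ₜ[k] _) -
      (a ⊗ₜ[k] 1) * ((1 : K) ⊗ₜ[k] _) * ((1 : K) ⊗ₜ[k] _)
    simp only [Algebra.TensorProduct.tmul_mul_tmul, mul_one, one_mul, ← TensorProduct.tmul_sub]
    rfl
  | add a b ha hb =>
    rw [map_add, map_add, map_add, ha, hb]
    ring

/-- descent of nonzero semi-invariants from `K` to `k` -/
lemma exists_of_evK (e' : A) (z : K ⊗[k] A) (hz : z ≠ 0)
    (h : ∀ (R : Type u) [CommRing R] [Algebra k R] [Algebra K R] [IsScalarTower k K R]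
      (y n : WithConv (A →ₐ[k] R)), IsN I n →
      evK (K := K) (y * n) z = evK (K := K) y z * n.ofConv e') :
    ∃ h : A, h ≠ 0 ∧ SI k I e' h := by
  obtain ⟨h0, hne, hh⟩ := exists_of_evK_aux (K := K) (uX k I) (uN k I) e' z hz
    (h _ _ _ ((isN_uN k I).mapPt _))
  exact ⟨h0, hne, SI.of_universal hh⟩

/-- The key lemma: if the right semi-invariants of character `e` contain a nonzero finite family
stable under left translation, then there are nonzero semi-invariants of character `e⁻¹`. -/
theorem exists_semiInv_inv [I.IsHopfIdeal k] (hI : SGA3.IsNormalHopfIdeal k A I)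
    [Algebra.FiniteType k A] {T : Type} [Fintype T] (m : T → A) (b : T → T → A)
    (hm : ∀ f, CoalgebraStruct.comul (R := k) (m f) = ∑ h, b f h ⊗ₜ[k] m h)
    (e : A) (hSI : ∀ f, SI k I e (m f)) (f0 : T) (hf0 : m f0 ≠ 0) :
    ∃ h : A, h ≠ 0 ∧ SI k I (HopfAlgebraStruct.antipode (R := k) e) h := by
  classical
  let xb := Module.Free.chooseBasis k (A ⧸ I)
  obtain ⟨c, hcW, hc0, g, hg⟩ := exists_eigen_point (K := AlgebraicClosure k) m
    (TensorProduct.equivFinsuppOfBasisRight (M := A) xb (psi k I e))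
    (coeff_mul_mem hI m b hm e hSI xb) f0 hf0
  exact exists_of_evK _ (trInv g c) (trInv_ne_zero g hc0) fun R _ _ _ _ y n hn =>
    trInv_semiInv hI hSI xb hcW g hg y n hn

end Groth.Agent.Sga3C.NormalHopfC
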