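import Groth.Agent.Sga3C.SubHopf
import Groth.Agent.MiscA.HopfRange
import Mathlib.LinearAlgebra.TensorProduct.RightExactness

/-!
# Coinvariants of a normal Hopf ideal
-/

set_option autoImplicit false
universe u v
open TensorProduct WithConv

namespace Groth.Agent.Sga3C.NormalHopfD

open Groth.Agent.Books.DynBasic Groth.Agent.Sga3C.NormalHopfA Groth.Agent.Sga3C.SubHopf

variable {k : Type u} [Field k] {A : Type u} [CommRing A] [HopfAlgebra k A]

section Slices

/-- `(θ ⊗ id) ∘ Δ` -/
noncomputable def sliceL (θ : A →ₗ[k] k) : A →ₗ[k] A :=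
  (TensorProduct.lid k A).toLinearMap ∘ₗ θ.rTensor A ∘ₗ CoalgebraStruct.comul (R := k)

/-- `(id ⊗ θ) ∘ Δ` -/
noncomputable def sliceR (θ : A →ₗ[k] k) : A →ₗ[k] A :=
  (TensorProduct.rid k A).toLinearMap ∘ₗ θ.lTensor A ∘ₗ CoalgebraStruct.comul (R := k)

/-- value of a slice at a point -/
lemma apply_sliceL (θ : A →ₗ[k] k) {R : Type u} [CommRing R] [Algebra k R]
    (x : WithConv (A →ₐ[k] R)) (a : A) :
    x.ofConv (sliceL θ a) = TensorProduct.lid k R (θ.rTensor R
      ((toConv (Algebra.TensorProduct.includeLeft : A →ₐ[k] A ⊗[k] R) *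
        mapPt (Algebra.TensorProduct.includeRight : R →ₐ[k] A ⊗[k] R) x).ofConv a)) := by
  rw [points_comul]
  simp only [sliceL, LinearMap.comp_apply, LinearEquiv.coe_coe]
  generalize CoalgebraStruct.comul (R := k) a = z
  induction z using TensorProduct.induction_on with
  | zero => simp
  | tmul u v =>
    simp only [LinearMap.rTensor_tmul, TensorProduct.lid_tmul, map_smul,
      Algebra.TensorProduct.lift_tmul, mapPt_apply, Algebra.TensorProduct.includeLeft_apply,
      Algebra.TensorProduct.includeRight_apply, Algebra.TensorProduct.tmul_mul_tmul, mul_one,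
      one_mul]
  | add u v hu hv => simp only [map_add, hu, hv]

/-- value of a slice at a point -/
lemma apply_sliceR (θ : A →ₗ[k] k) {R : Type u} [CommRing R] [Algebra k R]
    (x : WithConv (A →ₐ[k] R)) (a : A) :
    x.ofConv (sliceR θ a) = TensorProduct.lid k R (θ.rTensor R
      ((mapPt (Algebra.TensorProduct.includeRight : R →ₐ[k] A ⊗[k] R) x *
        toConv (Algebra.TensorProduct.includeLeft : A →ₐ[k] A ⊗[k] R)).ofConv a)) := by
  rw [points_comul]
  simp only [sliceR, LinearMap.comp_apply, LinearEquiv.coe_coe]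
  generalize CoalgebraStruct.comul (R := k) a = z
  induction z using TensorProduct.induction_on with
  | zero => simp
  | tmul u v =>
    simp only [LinearMap.rTensor_tmul, LinearMap.lTensor_tmul, TensorProduct.lid_tmul,
      TensorProduct.rid_tmul, map_smul,
      Algebra.TensorProduct.lift_tmul, mapPt_apply, Algebra.TensorProduct.includeLeft_apply,
      Algebra.TensorProduct.includeRight_apply, Algebra.TensorProduct.tmul_mul_tmul, mul_one,
      one_mul]
  | add u v hu hv => simp only [map_add, hu, hv]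

end Slices

section SIslice

variable {I : Ideal A}

lemma SI.sliceL {e a : A} (h : SI k I e a) (θ : A →ₗ[k] k) : SI k I e (sliceL θ a) := by
  intro R _ _ x n hn
  rw [apply_sliceL, apply_sliceL, map_mul, ← mul_assoc,
    h (A ⊗[k] R) _ _ (hn.mapPt _), mapPt_apply]
  generalize (toConv (Algebra.TensorProduct.includeLeft : A →ₐ[k] A ⊗[k] R) *
    mapPt (Algebra.TensorProduct.includeRight : R →ₐ[k] A ⊗[k] R) x).ofConv a = z
  induction z using TensorProduct.induction_on with
  | zero => simp
  | tmul u v =>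
    rw [Algebra.TensorProduct.includeRight_apply, Algebra.TensorProduct.tmul_mul_tmul]
    simp
  | add u v hu hv => simp only [map_add, add_mul, hu, hv]

/-- left invariance of right coinvariants (normality) -/
lemma SI.left (hI : SGA3.IsNormalHopfIdeal k A I) {a : A} (h : SI k I 1 a)
    {R : Type u} [CommRing R] [Algebra k R] (x n : WithConv (A →ₐ[k] R)) (hn : IsN I n) :
    (n * x).ofConv a = x.ofConv a := by
  have h1 : n * x = x * (x⁻¹ * n * x) := by
    rw [← mul_assoc, ← mul_assoc, mul_inv_cancel, one_mul]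
  rw [h1, h R x _ (IsN.conj' hI hn x), map_one, mul_one]

lemma SI.of_left (hI : SGA3.IsNormalHopfIdeal k A I) {a : A}
    (h : ∀ (R : Type u) [CommRing R] [Algebra k R] (x n : WithConv (A →ₐ[k] R)), IsN I n →
      (n * x).ofConv a = x.ofConv a) : SI k I 1 a := by
  intro R _ _ x n hn
  have h1 : x * n = (x * n * x⁻¹) * x := by
    rw [inv_mul_cancel_right]
  rw [h1, h R x _ (IsN.conj hI hn x), map_one, mul_one]

lemma SI.sliceR (hI : SGA3.IsNormalHopfIdeal k A I) {a : A} (h : SI k I 1 a) (θ : A →ₗ[k] k) :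
    SI k I 1 (sliceR θ a) := by
  apply SI.of_left hI
  intro R _ _ x n hn
  rw [apply_sliceR, apply_sliceR, map_mul, mul_assoc, SI.left hI h _ _ (hn.mapPt _)]

lemma SI.antipode (hI : SGA3.IsNormalHopfIdeal k A I) [I.IsHopfIdeal k] {a : A}
    (h : SI k I 1 a) : SI k I 1 (HopfAlgebraStruct.antipode (R := k) a) := by
  intro R _ _ x n hn
  rw [← inv_apply_eq, ← inv_apply_eq, mul_inv_rev, SI.left hI h _ _ hn.inv, map_one, mul_one]

end SIslice

section Coinv

variable (k) (I : Ideal A)

/-- the subalgebra of right coinvariants -/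
def coinv : Subalgebra k A where
  carrier := {a | SI k I 1 a}
  mul_mem' := by
    intro a b ha hb R _ _ x n hn
    rw [map_mul, ha R x n hn, hb R x n hn, map_mul, map_one, mul_one, mul_one, mul_one]
  add_mem' := by
    intro a b ha hb R _ _ x n hn
    rw [map_add, ha R x n hn, hb R x n hn, map_add, map_one, mul_one, mul_one, mul_one]
  algebraMap_mem' := by
    intro r R _ _ x n hn
    rw [AlgHom.commutes, AlgHom.commutes, map_one, mul_one]

lemma mem_coinv {a : A} : a ∈ coinv k I ↔ SI k I 1 a := Iff.rfl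

/-- elements of `B ⊗ A ∩ A ⊗ B` lie in `B ⊗ B` -/
lemma mem_range_map {V : Type u} [AddCommGroup V] [Module k V] (W : Submodule k V) (z : V ⊗[k] V)
    (h1 : z ∈ LinearMap.range (W.subtype.rTensor V)) (h2 : W.mkQ.lTensor V z = 0) :
    z ∈ LinearMap.range (TensorProduct.map W.subtype W.subtype) := by
  obtain ⟨t, rfl⟩ := h1
  have h3 : W.mkQ.lTensor W t = 0 := by
    have hinj : Function.Injective (W.subtype.rTensor (V ⧸ W)) :=
      Module.Flat.rTensor_preserves_injective_linearMap _ Subtype.val_injective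
    apply hinj
    rw [map_zero, ← LinearMap.comp_apply, LinearMap.rTensor_comp_lTensor,
      ← LinearMap.lTensor_comp_rTensor, LinearMap.comp_apply, h2]
  have hex : Function.Exact (W.subtype.lTensor W) (W.mkQ.lTensor W) :=
    lTensor_exact W (LinearMap.exact_subtype_mkQ W) W.mkQ_surjective
  obtain ⟨s, rfl⟩ := (hex t).1 h3
  refine ⟨s, ?_⟩
  rw [← LinearMap.comp_apply, LinearMap.rTensor_comp_lTensor]

/-- an element all of whose left slices lie in `W` is in `V ⊗ W` -/
lemma lTensor_mkQ_eq_zero {V : Type u} [AddCommGroup V] [Module k V] (W : Submodule k V)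
    (z : V ⊗[k] V) (h : ∀ θ : V →ₗ[k] k, TensorProduct.lid k V (θ.rTensor V z) ∈ W) :
    W.mkQ.lTensor V z = 0 := by
  classical
  let b := Module.Free.chooseBasis k V
  apply (TensorProduct.equivFinsuppOfBasisLeft (N := V ⧸ W) b).injective
  rw [map_zero]
  ext i
  rw [TensorProduct.equivFinsuppOfBasisLeft_apply, Finsupp.zero_apply]
  have h2 : ∀ z : V ⊗[k] V, TensorProduct.lid k (V ⧸ W) ((b.coord i).rTensor (V ⧸ W)
      (W.mkQ.lTensor V z)) = W.mkQ (TensorProduct.lid k V ((b.coord i).rTensor V z)) := by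
    intro z
    induction z using TensorProduct.induction_on with
    | zero => simp
    | tmul x y => simp
    | add x y hx hy => simp only [map_add, hx, hy]
  rw [h2]
  exact (Submodule.Quotient.mk_eq_zero _).mpr (h _)

/-- an element all of whose right slices lie in `W` is in `W ⊗ V` -/
lemma mem_range_rTensor {V : Type u} [AddCommGroup V] [Module k V] (W : Submodule k V)
    (z : V ⊗[k] V) (h : ∀ θ : V →ₗ[k] k, TensorProduct.rid k V (θ.lTensor V z) ∈ W) :
    z ∈ LinearMap.range (W.subtype.rTensor V) := by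
  classical
  let b := Module.Free.chooseBasis k V
  have hex : Function.Exact (W.subtype.rTensor V) (W.mkQ.rTensor V) :=
    rTensor_exact V (LinearMap.exact_subtype_mkQ W) W.mkQ_surjective
  refine (hex z).1 ?_
  apply (TensorProduct.equivFinsuppOfBasisRight (M := V ⧸ W) b).injective
  rw [map_zero]
  ext i
  rw [TensorProduct.equivFinsuppOfBasisRight_apply, Finsupp.zero_apply]
  have h2 : ∀ z : V ⊗[k] V, TensorProduct.rid k (V ⧸ W) ((b.coord i).lTensor (V ⧸ W)
      (W.mkQ.rTensor V z)) = W.mkQ (TensorProduct.rid k V ((b.coord i).lTensor V z)) := by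
    intro z
    induction z using TensorProduct.induction_on with
    | zero => simp
    | tmul x y => simp
    | add x y hx hy => simp only [map_add, hx, hy]
  rw [h2]
  exact (Submodule.Quotient.mk_eq_zero _).mpr (h _)

/-- the coinvariants form a sub-Hopf-algebra -/
theorem isHopfSubalgebra_coinv (hI : SGA3.IsNormalHopfIdeal k A I) [I.IsHopfIdeal k] :
    SGA3.IsHopfSubalgebra k A (coinv k I) := by
  refine ⟨fun b hb => ?_, fun b hb => SI.antipode hI hb⟩
  exact mem_range_map (k := k) (Subalgebra.toSubmodule (coinv k I)) _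
    (mem_range_rTensor (k := k) (Subalgebra.toSubmodule (coinv k I)) _
      (fun θ => SI.sliceR hI hb θ))
    (lTensor_mkQ_eq_zero (k := k) (Subalgebra.toSubmodule (coinv k I)) _
      (fun θ => SI.sliceL hb θ))

/-- the augmentation ideal of the coinvariants is contained in `I` -/
theorem augIdealSpan_coinv_le [I.IsHopfIdeal k] : SGA3.augIdealSpan k A (coinv k I) ≤ I := by
  rw [SGA3.augIdealSpan, Ideal.span_le]
  rintro a ⟨ha, h0⟩
  have h := ha (A ⧸ I) 1 (toConv (Ideal.Quotient.mkₐ k I))
    (fun a ha => Ideal.Quotient.eq_zero_iff_mem.mpr ha)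
  rw [one_mul, map_one, mul_one, one_apply_eq, h0, map_zero] at h
  exact Ideal.Quotient.eq_zero_iff_mem.mp h

end Coinv

end Groth.Agent.Sga3C.NormalHopfD
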