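import Groth.Agent.Sga3C.NormalHopfC
import Groth.Agent.Sga3C.NormalHopfD
import Groth.Agent.Sga3C.LineStab
import Mathlib.RingTheory.FiniteType
import Mathlib.LinearAlgebra.Dual.Lemmas

/-!
# Normal Hopf ideals are generated by the augmentation ideal of the coinvariants (f.g. case)
-/

set_option autoImplicit false
universe u v
open TensorProduct WithConv

namespace Groth.Agent.Sga3C.NormalHopfE

open Groth.Agent.Books.DynBasic Groth.Agent.Sga3C.NormalHopfA Groth.Agent.Sga3C.SubHopf
  Groth.Agent.Sga3C.NormalHopfC Groth.Agent.Sga3C.NormalHopfD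
  Groth.Agent.Sga3C.MatComod Groth.Agent.Sga3C.LineStab

variable {k : Type u} [Field k] {A : Type u} [CommRing A] [HopfAlgebra k A]

/-- a point maps minors to minors -/
lemma map_minor {R : Type u} [CommRing R] [Algebra k R] (x : WithConv (A →ₐ[k] R)) {d m : ℕ}
    (a : (Fin d ⊕ Fin m) → (Fin d ⊕ Fin m) → A) (f : Fin d → Fin d ⊕ Fin m) :
    x.ofConv (minor a f) = minor (fun i j => x.ofConv (a i j)) f := by
  rw [minor, minor, AlgHom.map_det]
  rfl

/-- from a nonzero semi-invariant to one with value one at the identity -/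
lemma exists_counit_one {I : Ideal A} {e h : A} (h0 : h ≠ 0) (hh : SI k I e h) :
    ∃ h' : A, CoalgebraStruct.counit (R := k) h' = 1 ∧ SI k I e h' := by
  obtain ⟨θ, hθ⟩ : ∃ θ : A →ₗ[k] k, θ h = 1 := Module.Projective.exists_dual_eq_one k h0
  refine ⟨sliceL θ h, ?_, SI.sliceL hh θ⟩
  have h1 := LinearMap.congr_fun (Coalgebra.lTensor_counit_comp_comul (R := k) (A := A)) h
  have h2 : ∀ z : A ⊗[k] A, CoalgebraStruct.counit (R := k)
      (TensorProduct.lid k A (θ.rTensor A z)) =
      θ (TensorProduct.rid k A ((CoalgebraStruct.counit (R := k) (A := A)).lTensor A z)) := by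
    intro z
    induction z using TensorProduct.induction_on with
    | zero => simp
    | tmul x y => simp [mul_comm]
    | add x y hx hy => simp only [map_add, hx, hy]
  rw [sliceL, LinearMap.comp_apply, LinearMap.comp_apply, LinearEquiv.coe_coe, h2]
  rw [LinearMap.comp_apply] at h1
  rw [h1]
  simp [hθ]

/-- a semi-invariant with value one at the identity generates the unit ideal with its
translates -/
lemma exists_sum_eq_one {I : Ideal A} {e h : A} (h1 : CoalgebraStruct.counit (R := k) h = 1)
    (hh : SI k I e h) : ∃ (κ : Type u) (s : Finset κ) (u v : κ → A), (∀ i, SI k I e (v i)) ∧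
      ∑ i ∈ s, u i * v i = 1 := by
  classical
  let b := Module.Free.chooseBasis k A
  set c := TensorProduct.equivFinsuppOfBasisLeft (N := A) b (CoalgebraStruct.comul (R := k) h)
    with hc
  have hc2 : CoalgebraStruct.comul (R := k) h = ∑ i ∈ c.support, b i ⊗ₜ c i := by
    rw [← (TensorProduct.equivFinsuppOfBasisLeft (N := A) b).symm_apply_apply
      (CoalgebraStruct.comul (R := k) h), ← hc,
      TensorProduct.equivFinsuppOfBasisLeft_symm_apply]
    rfl
  refine ⟨_, c.support, fun i => HopfAlgebraStruct.antipode (R := k) (b i), fun i => c i,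
    fun i => ?_, ?_⟩
  · have : c i = sliceL (b.coord i) h := by
      rw [hc, TensorProduct.equivFinsuppOfBasisLeft_apply]
      rfl
    change SI k I e (c i)
    rw [this]
    exact SI.sliceL hh _
  · have h3 := HopfAlgebra.mul_antipode_rTensor_comul_apply (R := k) h
    rw [hc2, h1, map_one] at h3
    simpa [map_sum] using h3

/-- The semi-invariant family attached to a finitely generated Hopf ideal. -/
lemma exists_family (I : Ideal A) [I.IsHopfIdeal k] (hIfg : I.FG) :
    ∃ (T : Type) (_ : Fintype T) (m : T → A) (b : T → T → A) (f0 : T),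
      (∀ f, CoalgebraStruct.comul (R := k) (m f) = ∑ h, b f h ⊗ₜ[k] m h) ∧
      (∀ f, SI k I (m f0) (m f)) ∧ CoalgebraStruct.counit (R := k) (m f0) = 1 ∧
      (∀ (R : Type u) [CommRing R] [Algebra k R] (x : WithConv (A →ₐ[k] R)) (c : R),
        (∀ f, x.ofConv (m f) = algebraMap k R (CoalgebraStruct.counit (R := k) (m f)) * c) →
        IsN I x) := by
  classical
  obtain ⟨d, m, w, a, ha, hcom, hcou, hspan, haI⟩ :=
    Groth.Agent.Sga3C.Chevalley.exists_adapted k A I hIfg
  have hw : ∀ j, w (Sum.inl j) ∈ I := fun j => by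
    rw [hspan]
    exact Ideal.subset_span ⟨j, rfl⟩
  have hb := ha.tensorPow (κ := Fin d)
  -- the minors in terms of `b`
  have hminor : ∀ f : Fin d → Fin d ⊕ Fin m, minor a f =
      ∑ h, alt k d m h • ∏ i, a (f i) (h i) := by
    intro f
    rw [minor_eq]
    refine Finset.sum_congr rfl fun h _ => ?_
    rw [Algebra.smul_def, algebraMap_alt]
  have hε : ∀ f, CoalgebraStruct.counit (R := k) (minor a f) = alt k d m f := by
    intro f
    rw [hminor, map_sum]
    simp only [map_smul, hb.counit, smul_eq_mul, mul_ite, mul_one, mul_zero]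
    rw [Finset.sum_ite_eq]
    simp
  refine ⟨Fin d → Fin d ⊕ Fin m, inferInstance, minor a, fun f h => ∏ i, a (f i) (h i),
    fun i => Sum.inl i, ?_, ?_, ?_, ?_⟩
  · intro f
    rw [hminor f, map_sum]
    simp only [map_smul, hb.comul, hminor, TensorProduct.tmul_sum, TensorProduct.tmul_smul,
      Finset.smul_sum]
    rw [Finset.sum_comm]
  · intro f R _ _ x n hn
    have h1 : CoalgebraStruct.comul (R := k) (minor a f) =
        ∑ h, (∏ i, a (f i) (h i)) ⊗ₜ[k] minor a h := by
      rw [hminor f, map_sum]
      simp only [map_smul, hb.comul, hminor, TensorProduct.tmul_sum, TensorProduct.tmul_smul,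
        Finset.smul_sum]
      rw [Finset.sum_comm]
    rw [mul_apply_eq, h1]
    simp only [map_sum, TensorProduct.map_tmul, LinearMap.mul'_apply, AlgHom.toLinearMap_apply]
    have h2 : ∀ h, n.ofConv (minor a h) = alt R d m h * n.ofConv (minor a fun i => Sum.inl i) := by
      intro h
      rw [map_minor, map_minor]
      exact minor_of_block _ (fun i j => hn _ (haI i j)) h
    rw [hminor f, map_sum, Finset.sum_mul]
    refine Finset.sum_congr rfl fun h _ => ?_
    rw [h2 h, map_smul, Algebra.smul_def, algebraMap_alt]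
    ring
  · rw [hε, alt_inl]
  · intro R _ _ x c hx
    have hNM : ∀ i j, ∑ l, x.ofConv (HopfAlgebraStruct.antipode (R := k) (a i l)) *
        x.ofConv (a l j) = if i = j then 1 else 0 := by
      intro i j
      have h1 := HopfAlgebra.mul_antipode_rTensor_comul_apply (R := k) (a i j)
      rw [ha.comul, ha.counit] at h1
      simp only [map_sum, LinearMap.rTensor_tmul, LinearMap.mul'_apply] at h1
      have h2 := congrArg x.ofConv h1
      simp only [map_sum, map_mul] at h2
      rw [h2]
      split_ifs <;> simp
    have hblock := block_of_minor (fun i j => x.ofConv (a i j))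
      (fun i j => x.ofConv (HopfAlgebraStruct.antipode (R := k) (a i j))) hNM c (by
        intro f
        rw [← map_minor, hx, hε, algebraMap_alt])
    have hgw : ∀ j, x.ofConv (w (Sum.inl j)) = 0 := by
      intro j
      rw [hcou (Sum.inl j), map_sum, Fintype.sum_sum_type]
      have hε : ∀ i, CoalgebraStruct.counit (R := k) (w (Sum.inl i)) = 0 := fun i =>
        Submodule.IsCoideal.counit_eq_zero (I := I.restrictScalars k) (hw i)
      simp only [hε, zero_smul, map_zero, Finset.sum_const_zero, map_smul, hblock, smul_zero,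
        add_zero]
    intro y hy
    rw [hspan] at hy
    have h3 : Ideal.span (Set.range fun j => w (Sum.inl j)) ≤ RingHom.ker x.ofConv := by
      rw [Ideal.span_le]
      rintro _ ⟨j, rfl⟩
      exact hgw j
    exact h3 hy

/-- The finitely generated case: a normal Hopf ideal is contained in the ideal generated by the
augmentation ideal of its coinvariants. -/
theorem le_augIdealSpan_coinv [Algebra.FiniteType k A] (I : Ideal A) [I.IsHopfIdeal k]
    (hI : SGA3.IsNormalHopfIdeal k A I) : I ≤ SGA3.augIdealSpan k A (coinv k I) := by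
  classical
  have : IsNoetherianRing A := Algebra.FiniteType.isNoetherianRing k A
  obtain ⟨T, _, m, b, f0, hm, hSI, hf0, hker⟩ :=
    exists_family (k := k) I (IsNoetherian.noetherian I)
  have hne : m f0 ≠ 0 := by
    intro h
    rw [h, map_zero] at hf0
    exact zero_ne_one hf0
  obtain ⟨h, h0, hh⟩ := exists_semiInv_inv hI m b hm (m f0) hSI f0 hne
  obtain ⟨h', h1, hh'⟩ := exists_counit_one h0 hh
  obtain ⟨κ, s, u, v, hv, huv⟩ := exists_sum_eq_one h1 hh'
  set J := SGA3.augIdealSpan k A (coinv k I) with hJ
  -- products are coinvariant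
  have hprod : ∀ f i, SI k I 1 (m f * v i) := by
    intro f i R _ _ x n hn
    rw [map_mul, hSI f R x n hn, hv i R x n hn, map_mul, map_one, mul_one]
    have h2 : n.ofConv (m f0) * n.ofConv (HopfAlgebraStruct.antipode (R := k) (m f0)) = 1 := by
      have h3 := hSI f0 R n n⁻¹ hn.inv
      rw [mul_inv_cancel, one_apply_eq, hf0, map_one, inv_apply_eq] at h3
      exact h3.symm
    calc x.ofConv (m f) * n.ofConv (m f0) *
          (x.ofConv (v i) * n.ofConv (HopfAlgebraStruct.antipode (R := k) (m f0)))
        = x.ofConv (m f) * x.ofConv (v i) *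
          (n.ofConv (m f0) * n.ofConv (HopfAlgebraStruct.antipode (R := k) (m f0))) := by ring
      _ = _ := by rw [h2, mul_one]
  -- the quotient point
  have hq : ∀ a ∈ coinv k I, Ideal.Quotient.mk J a =
      algebraMap k (A ⧸ J) (CoalgebraStruct.counit (R := k) a) := by
    intro a ha
    have h2 : a - algebraMap k A (CoalgebraStruct.counit (R := k) a) ∈ J := by
      refine Ideal.subset_span ⟨Subalgebra.sub_mem _ ha (Subalgebra.algebraMap_mem _ _), ?_⟩
      rw [map_sub, Bialgebra.counit_algebraMap, sub_self]
    rw [← sub_eq_zero, IsScalarTower.algebraMap_apply k A (A ⧸ J)]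
    change Ideal.Quotient.mk J a - Ideal.Quotient.mk J _ = 0
    rw [← map_sub]
    exact Ideal.Quotient.eq_zero_iff_mem.mpr h2
  have hN := hker (A ⧸ J) (toConv (Ideal.Quotient.mkₐ k J))
    (∑ i ∈ s, Ideal.Quotient.mk J (u i) *
      algebraMap k (A ⧸ J) (CoalgebraStruct.counit (R := k) (v i))) (by
    intro f
    change Ideal.Quotient.mk J (m f) = _
    have h2 : m f = ∑ i ∈ s, u i * (m f * v i) := by
      calc m f = m f * ∑ i ∈ s, u i * v i := by rw [huv, mul_one]
        _ = _ := by
          rw [Finset.mul_sum]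
          exact Finset.sum_congr rfl fun i _ => by ring
    conv_lhs => rw [h2]
    rw [map_sum, Finset.mul_sum]
    refine Finset.sum_congr rfl fun i _ => ?_
    rw [map_mul, hq _ (hprod f i), Bialgebra.counit_mul, map_mul]
    ring)
  intro x hx
  exact Ideal.Quotient.eq_zero_iff_mem.mp (hN x hx)

end Groth.Agent.Sga3C.NormalHopfE
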