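import Groth.Agent.Sga3C.NormalHopfE
import Mathlib.RingTheory.RingHom.FaithfullyFlat
import Mathlib.RingTheory.Adjoin.FG

/-!
# Normal Hopf ideals: reduction to the finitely generated case, faithful flatness
-/

set_option autoImplicit false
universe u v
open TensorProduct WithConv

namespace Groth.Agent.Sga3C.NormalHopfF

open Groth.Agent.Books.DynBasic Groth.Agent.Sga3C.NormalHopfA Groth.Agent.Sga3C.SubHopf
  Groth.Agent.Sga3C.NormalHopfC Groth.Agent.Sga3C.NormalHopfD Groth.Agent.Sga3C.NormalHopfE
  Groth.Agent.Sga3C.MatComod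

section LocFin

variable {k : Type u} [Field k] {A : Type u} [CommRing A] [HopfAlgebra k A]

/-- Every finite subset of a commutative Hopf algebra over a field is contained in a finitely
generated sub-Hopf-algebra. -/
theorem exists_fg_hopfSubalgebra (s : Finset A) :
    ∃ B : Subalgebra k A, SGA3.IsHopfSubalgebra k A B ∧ B.FG ∧ (s : Set A) ⊆ B := by
  classical
  obtain ⟨W, hW, hsW, hWfg⟩ := Groth.Agent.S3032.result k A A (Submodule.span k (s : Set A))
    ⟨s, rfl⟩
  have : Module.Finite k W := Module.Finite.iff_fg.mpr hWfg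
  let b := Module.finBasis k W
  obtain ⟨a, ha, -, hcou⟩ := Groth.Agent.Sga3C.Chevalley.exists_coeff W hW b
  set G : Set A := (Set.range fun p : Fin (Module.finrank k W) × Fin (Module.finrank k W) =>
      a p.1 p.2) ∪ (Set.range fun p : Fin (Module.finrank k W) × Fin (Module.finrank k W) =>
      HopfAlgebraStruct.antipode (R := k) (a p.1 p.2)) with hG
  set B : Subalgebra k A := Algebra.adjoin k G with hB
  have haB : ∀ i j, a i j ∈ B := fun i j => Algebra.subset_adjoin (Or.inl ⟨(i, j), rfl⟩)
  have hSB : ∀ i j, HopfAlgebraStruct.antipode (R := k) (a i j) ∈ B := fun i j =>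
    Algebra.subset_adjoin (Or.inr ⟨(i, j), rfl⟩)
  refine ⟨B, ⟨?_, ?_⟩, ?_, ?_⟩
  · have h1 : B ≤ (jj B).range.comap (Bialgebra.comulAlgHom k A) := by
      refine Algebra.adjoin_le ?_
      rintro _ (⟨⟨i, j⟩, rfl⟩ | ⟨⟨i, j⟩, rfl⟩)
      · refine ⟨∑ l, (⟨a i l, haB i l⟩ : B) ⊗ₜ[k] (⟨a l j, haB l j⟩ : B), ?_⟩
        change jj B _ = CoalgebraStruct.comul (R := k) (a i j)
        rw [ha.comul, map_sum]
        rfl
      · refine ⟨∑ l, (⟨HopfAlgebraStruct.antipode (R := k) (a l j), hSB l j⟩ : B) ⊗ₜ[k]
          (⟨HopfAlgebraStruct.antipode (R := k) (a i l), hSB i l⟩ : B), ?_⟩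
        change jj B _ = CoalgebraStruct.comul (R := k)
          (HopfAlgebraStruct.antipode (R := k) (a i j))
        rw [comul_antipode, ha.comul, map_sum, map_sum, map_sum]
        rfl
    intro b hb
    obtain ⟨z, hz⟩ := h1 hb
    exact ⟨z, hz⟩
  · have h1 : B ≤ B.comap (HopfAlgebra.antipodeAlgHom k A) := by
      refine Algebra.adjoin_le ?_
      rintro _ (⟨⟨i, j⟩, rfl⟩ | ⟨⟨i, j⟩, rfl⟩)
      · exact hSB i j
      · change HopfAlgebraStruct.antipode (R := k) (HopfAlgebraStruct.antipode (R := k) (a i j)) ∈ B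
        rw [antipode_antipode]
        exact haB i j
    exact fun b hb => h1 hb
  · exact Subalgebra.fg_def.mpr ⟨G, (Set.finite_range _).union (Set.finite_range _), rfl⟩
  · intro x hx
    have hxW : x ∈ W := hsW (Submodule.subset_span hx)
    have h1 := b.sum_repr ⟨x, hxW⟩
    have h2 := congrArg Subtype.val h1
    have h3 : x = ∑ i, b.repr ⟨x, hxW⟩ i • (b i : A) := by
      refine Eq.trans h2.symm ?_
      exact map_sum W.subtype (fun i => b.repr ⟨x, hxW⟩ i • b i) Finset.univ
    rw [h3]
    refine Subalgebra.sum_mem _ fun i _ => Subalgebra.smul_mem _ ?_ _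
    rw [hcou i]
    exact Subalgebra.sum_mem _ fun j _ => Subalgebra.smul_mem _ (haB _ _) _

end LocFin

section Pull

variable {k : Type u} [Field k] {A : Type u} [CommRing A] [HopfAlgebra k A]
  {B : Type u} [CommRing B] [HopfAlgebra k B] (f : B →ₐc[k] A)

/-- pull back points along a bialgebra map -/
noncomputable def pull {R : Type u} [CommRing R] [Algebra k R] (x : WithConv (A →ₐ[k] R)) :
    WithConv (B →ₐ[k] R) := toConv (x.ofConv.comp (f : B →ₐ[k] A))

lemma pull_apply {R : Type u} [CommRing R] [Algebra k R] (x : WithConv (A →ₐ[k] R)) (b : B) :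
    (pull f x).ofConv b = x.ofConv (f b) := rfl

lemma pull_mul {R : Type u} [CommRing R] [Algebra k R] (x y : WithConv (A →ₐ[k] R)) :
    pull f (x * y) = pull f x * pull f y := by
  apply WithConv.ofConv_injective
  exact AlgHom.convMul_comp_bialgHom_distrib x y f

lemma pull_inv {R : Type u} [CommRing R] [Algebra k R] (x : WithConv (A →ₐ[k] R)) :
    pull f x⁻¹ = (pull f x)⁻¹ := by
  apply WithConv.ofConv_injective
  apply AlgHom.ext
  intro b
  rw [pull_apply, inv_apply_eq, inv_apply_eq, pull_apply,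
    Groth.Agent.MiscA.HopfRange.map_antipode f b]

variable (I : Ideal A)

/-- the contraction of the ideal `I` -/
def contr : Ideal B := I.comap (f : B →ₐ[k] A)

lemma mem_contr {b : B} : b ∈ contr f I ↔ f b ∈ I := Iff.rfl

lemma isHopfIdeal_contr [I.IsHopfIdeal k] : (contr f I).IsHopfIdeal k := by
  have h : contr f I =
      Groth.Agent.MiscA.HopfRange.kerI ((Bialgebra.Quotient.mkBialgHom (R := k) I).comp f) := by
    ext b
    rw [mem_contr]
    exact Ideal.Quotient.eq_zero_iff_mem.symm
  rw [h]
  infer_instance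

lemma isN_pull {R : Type u} [CommRing R] [Algebra k R] {n : WithConv (A →ₐ[k] R)}
    (hn : IsN I n) : IsN (contr f I) (pull f n) := fun _ hb => hn _ hb

/-- the embedding `B ⊗ B/I_B → A ⊗ A/I` -/
noncomputable def emb : B ⊗[k] (B ⧸ contr f I) →ₐ[k] A ⊗[k] (A ⧸ I) :=
  Algebra.TensorProduct.map (f : B →ₐ[k] A)
    (Ideal.quotientMapₐ I (f : B →ₐ[k] A) le_rfl)

lemma emb_injective (hf : Function.Injective f) : Function.Injective (emb f I) := by
  have h1 : Function.Injective (Ideal.quotientMapₐ I (f : B →ₐ[k] A) (le_refl (contr f I))) :=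
    Ideal.quotientMap_injective
  exact map_val_injective' (f : B →ₐ[k] A).toLinearMap
    (Ideal.quotientMapₐ I (f : B →ₐ[k] A) (le_refl (contr f I))).toLinearMap hf h1

lemma emb_uX : mapPt (emb f I) (uX k (contr f I)) = pull f (uX k I) := by
  apply WithConv.ofConv_injective
  ext b
  rw [mapPt_apply, uX_apply, pull_apply, uX_apply, emb, Algebra.TensorProduct.map_tmul, map_one]
  rfl

lemma emb_uN : mapPt (emb f I) (uN k (contr f I)) = pull f (uN k I) := by
  apply WithConv.ofConv_injective
  ext b
  rw [mapPt_apply, uN_apply, pull_apply, uN_apply, emb, Algebra.TensorProduct.map_tmul, map_one]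
  rfl

lemma isNormal_contr (hf : Function.Injective f) (hI : SGA3.IsNormalHopfIdeal k A I) :
    SGA3.IsNormalHopfIdeal k B (contr f I) := by
  intro R _ _ g h hh b hb
  -- universal case
  have h1 : (uX k (contr f I) * uN k (contr f I) * (uX k (contr f I))⁻¹).ofConv b = 0 := by
    apply emb_injective f I hf
    rw [map_zero, ← mapPt_apply, map_mul, map_mul, map_inv, emb_uX, emb_uN, ← pull_inv,
      ← pull_mul, ← pull_mul, pull_apply]
    exact IsN.conj hI (isN_uN k I) (uX k I) _ hb
  have h2 := congrArg (cl (toConv g) (toConv h) (fun a ha => hh a ha)) h1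
  rw [← mapPt_apply, map_mul, map_mul, map_inv, mapPt_cl_uX, mapPt_cl_uN, map_zero] at h2
  rw [conv3_eq]
  exact h2

lemma coinv_contr_le (b : B) (hb : b ∈ coinv k (contr f I)) : f b ∈ coinv k I := by
  intro R _ _ x n hn
  have h := hb R (pull f x) (pull f n) (isN_pull f I hn)
  rw [← pull_mul, pull_apply, pull_apply] at h
  rw [h, map_one, map_one]

end Pull

section Final

variable {k : Type u} [Field k] {A : Type u} [CommRing A] [HopfAlgebra k A]

/-- The general case: a normal Hopf ideal is generated by the augmentation ideal of its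
coinvariants. -/
theorem eq_augIdealSpan_coinv (I : Ideal A) [I.IsHopfIdeal k]
    (hI : SGA3.IsNormalHopfIdeal k A I) : I = SGA3.augIdealSpan k A (coinv k I) := by
  apply le_antisymm _ (augIdealSpan_coinv_le k I)
  intro x hx
  obtain ⟨B, hB, hBfg, hxB⟩ := exists_fg_hopfSubalgebra (k := k) ({x} : Finset A)
  have hxB' : x ∈ B := hxB (by simp)
  let _ := hopfB hB
  have hft : Algebra.FiniteType k B := B.fg_iff_finiteType.mp hBfg
  let f : B →ₐc[k] A := valB hB
  have hf : Function.Injective f := Subtype.val_injective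
  have := isHopfIdeal_contr f I
  have h1 := le_augIdealSpan_coinv (contr f I) (isNormal_contr f I hf hI)
  have h2 : (⟨x, hxB'⟩ : B) ∈ contr f I := hx
  have h3 : SGA3.augIdealSpan k B (coinv k (contr f I)) ≤
      (SGA3.augIdealSpan k A (coinv k I)).comap (f : B →ₐ[k] A) := by
    rw [SGA3.augIdealSpan, Ideal.span_le]
    rintro b ⟨hb, hb0⟩
    refine Ideal.subset_span ⟨coinv_contr_le f I b hb, ?_⟩
    rw [← hb0]
    exact CoalgHomClass.counit_comp_apply f b
  exact h3 (h1 h2)

/-- A commutative Hopf algebra over a field is faithfully flat over its sub-Hopf-algebras. -/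
theorem faithfullyFlat_of_isHopfSubalgebra {B : Subalgebra k A}
    (hB : SGA3.IsHopfSubalgebra k A B) : Module.FaithfullyFlat B A := by
  let _ := hopfB hB
  have h := Groth.Agent.MiscA.HopfFlat.faithfullyFlat (valB hB) Subtype.val_injective
  have h2 : ((valB hB : B →ₐc[k] A) : B →+* A) = algebraMap B A := rfl
  rw [h2] at h
  exact RingHom.faithfullyFlat_algebraMap_iff.mp h

end Final

end Groth.Agent.Sga3C.NormalHopfF
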