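import Mathlib.AlgebraicGeometry.Sites.Fpqc
import Mathlib.AlgebraicGeometry.Morphisms.FlatDescent
import Mathlib.AlgebraicGeometry.Morphisms.LocalFlatDescent
import Mathlib.AlgebraicGeometry.Morphisms.UniversallyOpen
import Groth.Agent.S1128

/-!
# Quotients of schemes by flat equivalence relations: basic formalism

`s t : R ⟶ U` is thought of as a relation on `U`.  `Rel s t x y` says that the `T`-points `x`, `y`
of `U` are related.  `IsQuotOn s t f q` says that `q : U' ⟶ Y` is an fppf effective quotient of `U'`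
by the restriction along `f : U' ⟶ U` of the relation `R`.
-/

set_option autoImplicit false

universe u

open CategoryTheory CategoryTheory.Limits AlgebraicGeometry

namespace Groth.Agent.Sga3C.QuotBase

variable {R U U' W Y Z : Scheme.{u}}

/-- `Rel s t x y`: the `T`-points `x`, `y` of `U` are related by `R`. -/
def Rel (s t : R ⟶ U) {T : Scheme.{u}} (x y : T ⟶ U) : Prop :=
  ∃ r : T ⟶ R, r ≫ s = x ∧ r ≫ t = y

/-- `s t : R ⟶ U` are jointly monic and define an equivalence relation on `T`-points. -/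
structure IsEqRel (s t : R ⟶ U) : Prop where
  hom_ext : ∀ {T : Scheme.{u}} (a b : T ⟶ R), a ≫ s = b ≫ s → a ≫ t = b ≫ t → a = b
  refl : ∀ {T : Scheme.{u}} (x : T ⟶ U), Rel s t x x
  symm : ∀ {T : Scheme.{u}} {x y : T ⟶ U}, Rel s t x y → Rel s t y x
  trans : ∀ {T : Scheme.{u}} {x y z : T ⟶ U}, Rel s t x y → Rel s t y z → Rel s t x z

/-- `q : U' ⟶ Y` is an fppf effective quotient of `U'` by the restriction of `R` along
`f : U' ⟶ U`. -/
structure IsQuotOn (s t : R ⟶ U) (f : U' ⟶ U) (q : U' ⟶ Y) : Prop where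
  flat : Flat q
  surj : Surjective q
  lfp : LocallyOfFinitePresentation q
  rel_iff : ∀ {T : Scheme.{u}} (x y : T ⟶ U'), Rel s t (x ≫ f) (y ≫ f) ↔ x ≫ q = y ≫ q

theorem Rel.precomp {s t : R ⟶ U} {T T' : Scheme.{u}} {x y : T ⟶ U} (h : Rel s t x y) (g : T' ⟶ T) :
    Rel s t (g ≫ x) (g ≫ y) := by
  obtain ⟨r, rfl, rfl⟩ := h
  exact ⟨g ≫ r, by simp, by simp⟩

/-- Morphisms descend along fppf covers. -/
theorem exists_desc (q : U ⟶ Y) [Flat q] [Surjective q] [LocallyOfFinitePresentation q]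
    (g : U ⟶ Z) (h : ∀ {T : Scheme.{u}} (x y : T ⟶ U), x ≫ q = y ≫ q → x ≫ g = y ≫ g) :
    ∃ g' : Y ⟶ Z, q ≫ g' = g :=
  ⟨EffectiveEpi.desc q g fun a b hab => h a b hab, EffectiveEpi.fac q g _⟩

/-- Being related is fppf local. -/
theorem IsEqRel.rel_of_cover {s t : R ⟶ U} (hR : IsEqRel s t) {T T' : Scheme.{u}} (π : T' ⟶ T)
    [Flat π] [Surjective π] [LocallyOfFinitePresentation π] {x y : T ⟶ U}
    (h : Rel s t (π ≫ x) (π ≫ y)) : Rel s t x y := by
  obtain ⟨r, hr₁, hr₂⟩ := h
  obtain ⟨r', hr'⟩ := exists_desc π r fun a b hab => hR.hom_ext _ _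
    (by rw [Category.assoc, Category.assoc, hr₁, reassoc_of% hab])
    (by rw [Category.assoc, Category.assoc, hr₂, reassoc_of% hab])
  have : Epi π := Flat.epi_of_flat_of_surjective π
  refine ⟨r', ?_, ?_⟩
  · rw [← cancel_epi π, reassoc_of% hr', hr₁]
  · rw [← cancel_epi π, reassoc_of% hr', hr₂]

/-- An fppf quotient is determined up to unique isomorphism. -/
theorem IsQuotOn.exists_iso {s t : R ⟶ U} {f : U' ⟶ U} {q : U' ⟶ Y} {q' : U' ⟶ Z}
    (hq : IsQuotOn s t f q) (hq' : IsQuotOn s t f q') : ∃ e : Y ≅ Z, q ≫ e.hom = q' := by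
  have := hq.flat
  have := hq.surj
  have := hq.lfp
  have := hq'.flat
  have := hq'.surj
  have := hq'.lfp
  obtain ⟨a, ha⟩ := exists_desc q q' fun x y h => (hq'.rel_iff x y).1 ((hq.rel_iff x y).2 h)
  obtain ⟨b, hb⟩ := exists_desc q' q fun x y h => (hq.rel_iff x y).1 ((hq'.rel_iff x y).2 h)
  have : Epi q := Flat.epi_of_flat_of_surjective q
  have : Epi q' := Flat.epi_of_flat_of_surjective q'
  refine ⟨⟨a, b, ?_, ?_⟩, ha⟩
  · rw [← cancel_epi q, reassoc_of% ha, hb, Category.comp_id]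
  · rw [← cancel_epi q', reassoc_of% hb, ha, Category.comp_id]

/-- Cartesian squares by points. -/
theorem isPullback_of_points {C : Type*} [Category C] {A B D E : C} {a : A ⟶ B} {b : A ⟶ D}
    {c : B ⟶ E} {d : D ⟶ E} (w : a ≫ c = b ≫ d)
    (ex : ∀ {T : C} (x : T ⟶ B) (y : T ⟶ D), x ≫ c = y ≫ d → ∃ z : T ⟶ A, z ≫ a = x ∧ z ≫ b = y)
    (un : ∀ {T : C} (z z' : T ⟶ A), z ≫ a = z' ≫ a → z ≫ b = z' ≫ b → z = z') :
    IsPullback a b c d := by
  refine ⟨⟨w⟩, ⟨PullbackCone.IsLimit.mk _ (fun σ => (ex σ.fst σ.snd σ.condition).choose)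
    (fun σ => (ex σ.fst σ.snd σ.condition).choose_spec.1)
    (fun σ => (ex σ.fst σ.snd σ.condition).choose_spec.2) (fun σ m h1 h2 => ?_)⟩⟩
  exact un _ _ (h1.trans (ex σ.fst σ.snd σ.condition).choose_spec.1.symm)
    (h2.trans (ex σ.fst σ.snd σ.condition).choose_spec.2.symm)

/-- The cartesian square of a quotient. -/
theorem IsQuotOn.isPullback {s t : R ⟶ U} {q : U ⟶ Y} (hR : IsEqRel s t)
    (hq : IsQuotOn s t (𝟙 U) q) : IsPullback s t q q := by
  have h0 : s ≫ q = t ≫ q := (hq.rel_iff s t).1 ⟨𝟙 R, by simp, by simp⟩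
  refine isPullback_of_points h0 (fun x y hxy => ?_) (fun z z' => hR.hom_ext z z')
  have := (hq.rel_iff x y).2 hxy
  rw [Category.comp_id, Category.comp_id] at this
  exact this

/-- Two points of `U'` with the same image in the quotient are related by a point of `R`. -/
theorem IsQuotOn.exists_point {s t : R ⟶ U} {f : U' ⟶ U} {q : U' ⟶ Y} (hq : IsQuotOn s t f q)
    (a b : U') (h : q a = q b) : ∃ r : R, s r = f a ∧ t r = f b := by
  obtain ⟨z, hz₁, hz₂⟩ := Scheme.Pullback.exists_preimage_pullback a b h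
  obtain ⟨r, hr₁, hr₂⟩ := (hq.rel_iff (pullback.fst q q) (pullback.snd q q)).2 pullback.condition
  refine ⟨r z, ?_, ?_⟩
  · rw [← hz₁, ← Scheme.Hom.comp_apply, ← Scheme.Hom.comp_apply, hr₁]
  · rw [← hz₂, ← Scheme.Hom.comp_apply, ← Scheme.Hom.comp_apply, hr₂]

/-- Restriction of a quotient along a flat, locally finitely presented `g : U'' ⟶ U'` whose composite
with `q` is surjective. -/
theorem IsQuotOn.comp_of_surjective {s t : R ⟶ U} {f : U' ⟶ U} {q : U' ⟶ Y}
    (hq : IsQuotOn s t f q) (g : W ⟶ U') [Flat g] [LocallyOfFinitePresentation g]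
    (hs : Surjective (g ≫ q)) : IsQuotOn s t (g ≫ f) (g ≫ q) := by
  have := hq.flat
  have := hq.lfp
  refine ⟨inferInstance, hs, inferInstance, fun x y => ?_⟩
  have := hq.rel_iff (x ≫ g) (y ≫ g)
  simpa only [Category.assoc] using this

/-- The covering lemma: if `g : U' ⟶ W` is flat, locally finitely presented and every point of `W`
is related to a point of the image of `g`, a quotient of `U'` is also a quotient of `W`. -/
theorem IsQuotOn.of_cover {s t : R ⟶ U} (hR : IsEqRel s t) [Flat s]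
    [LocallyOfFinitePresentation s] [Flat t] [LocallyOfFinitePresentation t]
    (f : W ⟶ U) [Flat f] [LocallyOfFinitePresentation f]
    (g : U' ⟶ W) [Flat g] [LocallyOfFinitePresentation g]
    (hg : ∀ w : W, ∃ (a : U') (r : R), s r = f (g a) ∧ t r = f w)
    {q' : U' ⟶ Y} (hq' : IsQuotOn s t (g ≫ f) q') : ∃ q : W ⟶ Y, g ≫ q = q' ∧ IsQuotOn s t f q := by
  have := hq'.flat
  have := hq'.surj
  have := hq'.lfp
  let P := pullback (pullback.snd (g ≫ f) s ≫ t) f
  let π : P ⟶ W := pullback.snd _ _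
  let p : P ⟶ U' := pullback.fst _ _ ≫ pullback.fst (g ≫ f) s
  let ρ : P ⟶ R := pullback.fst _ _ ≫ pullback.snd (g ≫ f) s
  have hπ1 : Flat π := inferInstance
  have hπ2 : LocallyOfFinitePresentation π := inferInstance
  have hp1 : Flat p := inferInstance
  have hp2 : LocallyOfFinitePresentation p := inferInstance
  have hρs : ρ ≫ s = p ≫ g ≫ f := by
    simp only [ρ, p, Category.assoc, pullback.condition]
  have hρt : ρ ≫ t = π ≫ f := by
    simp only [ρ, π, Category.assoc, pullback.condition]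
  have hπs : Surjective π := by
    refine ⟨fun w => ?_⟩
    obtain ⟨a, r, h1, h2⟩ := hg w
    obtain ⟨z, hz1, hz2⟩ := Scheme.Pullback.exists_preimage_pullback (f := g ≫ f) (g := s) a r
      (by rw [Scheme.Hom.comp_apply, h1])
    obtain ⟨z', hz'1, hz'2⟩ := Scheme.Pullback.exists_preimage_pullback
      (f := pullback.snd (g ≫ f) s ≫ t) (g := f) z w (by rw [Scheme.Hom.comp_apply, hz2, h2])
    exact ⟨z', hz'2⟩
  have : Epi π := Flat.epi_of_flat_of_surjective π
  -- points of `P`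
  have hpt : ∀ {T : Scheme.{u}} (a : T ⟶ U') (x : T ⟶ W), Rel s t (a ≫ g ≫ f) (x ≫ f) →
      ∃ z : T ⟶ P, z ≫ p = a ∧ z ≫ π = x := by
    rintro T a x ⟨r, hr1, hr2⟩
    refine ⟨pullback.lift (pullback.lift a r hr1.symm) x ?_, ?_, ?_⟩
    · rw [pullback.lift_snd_assoc, hr2]
    · simp only [p, pullback.lift_fst_assoc, pullback.lift_fst]
    · simp only [π, pullback.lift_snd]
  have hrel : ∀ {T : Scheme.{u}} (z : T ⟶ P), Rel s t (z ≫ p ≫ g ≫ f) (z ≫ π ≫ f) := by
    intro T z
    exact ⟨z ≫ ρ, by rw [Category.assoc, hρs], by rw [Category.assoc, hρt]⟩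
  -- relation on `U'`
  have hU' : ∀ {T : Scheme.{u}} (a b : T ⟶ U'), Rel s t (a ≫ g ≫ f) (b ≫ g ≫ f) ↔
      a ≫ q' = b ≫ q' := fun a b => hq'.rel_iff a b
  obtain ⟨q, hq⟩ := exists_desc π (p ≫ q') fun {T} a b hab => by
    have h1 := hrel a
    have h2 := hrel b
    rw [reassoc_of% hab] at h1
    have h3 := (hU' (a ≫ p) (b ≫ p)).1 (by
      simpa only [Category.assoc] using hR.trans h1 (hR.symm h2))
    simpa only [Category.assoc] using h3
  have hgq : g ≫ q = q' := by
    obtain ⟨z, hz1, hz2⟩ := hpt (𝟙 U') g (by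
      rw [Category.id_comp]; exact hR.refl _)
    rw [← hz2, Category.assoc, hq, reassoc_of% hz1]
  have hle : ∀ {T : Scheme.{u}} (x y : T ⟶ W), Rel s t (x ≫ f) (y ≫ f) → x ≫ q = y ≫ q := by
    intro T x y hxy
    have : Epi (pullback.fst y π) := Flat.epi_of_flat_of_surjective _
    rw [← cancel_epi (pullback.fst y π)]
    have h1 := hrel (pullback.snd y π)
    rw [← pullback.condition_assoc] at h1
    have h2 := hR.trans h1 (hR.symm (hxy.precomp (pullback.fst y π)))
    obtain ⟨z, hz1, hz2⟩ := hpt (pullback.snd y π ≫ p) (pullback.fst y π ≫ x)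
      (by simpa only [Category.assoc] using h2)
    calc pullback.fst y π ≫ x ≫ q = z ≫ π ≫ q := by rw [← Category.assoc, ← hz2, Category.assoc]
      _ = z ≫ p ≫ q' := by rw [hq]
      _ = (pullback.snd y π ≫ p) ≫ q' := by rw [← Category.assoc, hz1]
      _ = pullback.snd y π ≫ π ≫ q := by rw [Category.assoc, hq]
      _ = pullback.fst y π ≫ y ≫ q := by rw [← pullback.condition_assoc]
  have hge : ∀ {T : Scheme.{u}} (x y : T ⟶ W), x ≫ q = y ≫ q → Rel s t (x ≫ f) (y ≫ f) := by
    intro T x y hxy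
    -- lift `x` and `y` to `P` after an fppf cover
    let T₁ := pullback x π
    let c₁ : T₁ ⟶ T := pullback.fst x π
    let T₂ := pullback (c₁ ≫ y) π
    let c₂ : T₂ ⟶ T₁ := pullback.fst (c₁ ≫ y) π
    have h1 : Rel s t ((c₂ ≫ pullback.snd x π) ≫ p ≫ g ≫ f) ((c₂ ≫ c₁) ≫ x ≫ f) := by
      have := hrel (c₂ ≫ pullback.snd x π)
      simpa only [c₁, Category.assoc, ← pullback.condition_assoc] using this
    have h2 : Rel s t (pullback.snd (c₁ ≫ y) π ≫ p ≫ g ≫ f) ((c₂ ≫ c₁) ≫ y ≫ f) := by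
      have := hrel (pullback.snd (c₁ ≫ y) π)
      rw [← pullback.condition_assoc] at this
      simpa only [c₂, Category.assoc] using this
    have h3 : Rel s t ((c₂ ≫ pullback.snd x π) ≫ p ≫ g ≫ f)
        (pullback.snd (c₁ ≫ y) π ≫ p ≫ g ≫ f) := by
      have := (hU' ((c₂ ≫ pullback.snd x π) ≫ p) (pullback.snd (c₁ ≫ y) π ≫ p)).2 (by
        simp only [Category.assoc, ← hq]
        rw [← pullback.condition_assoc, ← pullback.condition_assoc]
        simp only [c₁, c₂, Category.assoc, hxy])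
      simpa only [Category.assoc] using this
    have h4 := hR.trans (hR.symm h1) (hR.trans h3 h2)
    have : Surjective (c₂ ≫ c₁) := inferInstance
    exact hR.rel_of_cover (c₂ ≫ c₁) h4
  have hsq : IsPullback p π q' q := by
    refine isPullback_of_points hq.symm (fun x y hxy => hpt x y ?_) (fun z z' h1 h2 => ?_)
    · have := hge (x ≫ g) y (by rw [Category.assoc, hgq, hxy])
      simpa only [Category.assoc] using this
    · have h3 : z ≫ ρ = z' ≫ ρ := by
        refine hR.hom_ext _ _ ?_ ?_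
        · calc (z ≫ ρ) ≫ s = z ≫ (ρ ≫ s) := Category.assoc _ _ _
            _ = (z ≫ p) ≫ g ≫ f := by rw [hρs]; exact (Category.assoc z p (g ≫ f)).symm
            _ = (z' ≫ p) ≫ g ≫ f := by rw [h1]
            _ = z' ≫ (ρ ≫ s) := by rw [hρs]; exact Category.assoc z' p (g ≫ f)
            _ = _ := (Category.assoc _ _ _).symm
        · calc (z ≫ ρ) ≫ t = z ≫ (ρ ≫ t) := Category.assoc _ _ _
            _ = (z ≫ π) ≫ f := by rw [hρt]; exact (Category.assoc z π f).symm
            _ = (z' ≫ π) ≫ f := by rw [h2]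
            _ = z' ≫ (ρ ≫ t) := by rw [hρt]; exact Category.assoc z' π f
            _ = _ := (Category.assoc _ _ _).symm
      refine pullback.hom_ext (pullback.hom_ext ?_ ?_) ?_
      · simpa only [p, Category.assoc] using h1
      · simpa only [ρ, Category.assoc] using h3
      · exact h2
  have hflat : Flat q := by
    have : Flat (π ≫ q) := by rw [hq]; infer_instance
    exact Groth.Agent.S1128.result π q
  have hlfp : LocallyOfFinitePresentation q :=
    MorphismProperty.of_isPullback_of_descendsAlong (P := @LocallyOfFinitePresentation)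
      (Q := @Surjective ⊓ @Flat ⊓ @LocallyOfFinitePresentation) hsq ⟨⟨hq'.surj, hq'.flat⟩, hq'.lfp⟩
      hp2
  refine ⟨q, hgq, hflat, ?_, hlfp, fun x y => ⟨hle x y, hge x y⟩⟩
  have : Surjective (g ≫ q) := by rw [hgq]; infer_instance
  exact Surjective.of_comp g q

end Groth.Agent.Sga3C.QuotBase
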