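import Groth.Agent.Ega3A.FlatSES
import Mathlib.LinearAlgebra.DirectSum.Finsupp
import Mathlib.LinearAlgebra.TensorProduct.RightExactness
import Mathlib.LinearAlgebra.Basis.VectorSpace
import Mathlib.Algebra.Module.Torsion.Basic
import Mathlib.RingTheory.Flat.Basic

/-!
# Complexes of flat modules `C ⟶ D ⟶ E` over a ring with nilpotent maximal ideal `m`, exact mod `m`

If `C ⟶ D ⟶ E` is a complex of flat `A`-modules which is exact (at `D`) after tensoring with `A/m`,
`m` a nilpotent maximal ideal, then it is exact after tensoring with any `A`-module, the kernel `B`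
of `C ⟶ D` is flat and its formation commutes with any base change.
-/

set_option autoImplicit false

namespace Groth.Agent.Sga3C.QuotNil

universe u

open TensorProduct

variable {A : Type u} [CommRing A] (m : Ideal A)
  {C D E : Type u} [AddCommGroup C] [AddCommGroup D] [AddCommGroup E]
  [Module A C] [Module A D] [Module A E] (α : C →ₗ[A] D) (β : D →ₗ[A] E)

theorem exact_lTensor_finsupp (K : Type u) [AddCommGroup K] [Module A K] (ι : Type u)
    (h0 : Function.Exact (α.lTensor K) (β.lTensor K)) :
    Function.Exact (α.lTensor (ι →₀ K)) (β.lTensor (ι →₀ K)) := by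
  classical
  have nat : ∀ {C D : Type u} [AddCommGroup C] [AddCommGroup D] [Module A C] [Module A D]
      (f : C →ₗ[A] D) (x : (ι →₀ K) ⊗[A] C),
      TensorProduct.finsuppLeft A A K D ι (f.lTensor (ι →₀ K) x) =
        (TensorProduct.finsuppLeft A A K C ι x).mapRange (f.lTensor K) (map_zero _) := by
    intro C D _ _ _ _ f x
    induction x using TensorProduct.induction_on with
    | zero => simp
    | tmul x c =>
      ext i
      simp [TensorProduct.finsuppLeft_apply_tmul_apply]
    | add x y hx hy =>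
      ext i
      simp [hx, hy]
  intro x
  constructor
  · intro hx
    have h1 : ∀ i, (β.lTensor K) (TensorProduct.finsuppLeft A A K D ι x i) = 0 := by
      intro i
      have := DFunLike.congr_fun (nat β x) i
      rw [hx, map_zero] at this
      simpa using this.symm
    have h2 : ∀ i, ∃ y, (α.lTensor K) y = TensorProduct.finsuppLeft A A K D ι x i := fun i =>
      (h0 _).1 (h1 i)
    let g : K ⊗[A] D → K ⊗[A] C := fun z =>
      if h : ∃ y, (α.lTensor K) y = z ∧ z ≠ 0 then h.choose else 0
    have hg0 : g 0 = 0 := by simp [g]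
    have hg : ∀ z, (∃ y, (α.lTensor K) y = z) → (α.lTensor K) (g z) = z := by
      rintro z ⟨y, hy⟩
      by_cases hz : z = 0
      · subst hz
        rw [hg0, map_zero]
      · have h : ∃ y, (α.lTensor K) y = z ∧ z ≠ 0 := ⟨y, hy, hz⟩
        simp only [g, dif_pos h]
        exact h.choose_spec.1
    let y : ι →₀ (K ⊗[A] C) := (TensorProduct.finsuppLeft A A K D ι x).mapRange g hg0
    refine ⟨(TensorProduct.finsuppLeft A A K C ι).symm y, ?_⟩
    apply (TensorProduct.finsuppLeft A A K D ι).injective
    rw [nat, LinearEquiv.apply_symm_apply]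
    ext i
    simp only [y, Finsupp.mapRange_apply]
    exact hg _ (h2 i)
  · rintro ⟨y, rfl⟩
    apply (TensorProduct.finsuppLeft A A K E ι).injective
    rw [nat, nat, map_zero]
    ext i
    simpa using h0.apply_apply_eq_zero _

/-- exactness is invariant under isomorphism of the tensoring module -/
theorem exact_lTensor_of_equiv {M N : Type u} [AddCommGroup M] [Module A M] [AddCommGroup N]
    [Module A N] (e : M ≃ₗ[A] N) (h0 : Function.Exact (α.lTensor N) (β.lTensor N)) :
    Function.Exact (α.lTensor M) (β.lTensor M) := by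
  have nat : ∀ {C D : Type u} [AddCommGroup C] [AddCommGroup D] [Module A C] [Module A D]
      (f : C →ₗ[A] D) (x : M ⊗[A] C),
      (f.lTensor N) (e.toLinearMap.rTensor C x) = e.toLinearMap.rTensor D (f.lTensor M x) := by
    intro C D _ _ _ _ f x
    rw [← LinearMap.comp_apply, LinearMap.lTensor_comp_rTensor, ← LinearMap.rTensor_comp_lTensor,
      LinearMap.comp_apply]
  have hinj : ∀ {C : Type u} [AddCommGroup C] [Module A C],
      Function.Bijective (e.toLinearMap.rTensor C) := fun {C} _ _ =>
    (LinearEquiv.rTensor C e).bijective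
  intro x
  constructor
  · intro hx
    have h1 : (β.lTensor N) (e.toLinearMap.rTensor D x) = 0 := by rw [nat, hx, map_zero]
    obtain ⟨y, hy⟩ := (h0 _).1 h1
    obtain ⟨y', rfl⟩ := hinj.2 y
    refine ⟨y', hinj.1 ?_⟩
    rw [← nat, hy]
  · rintro ⟨y, rfl⟩
    apply hinj.1
    rw [← nat, ← nat, map_zero, h0.apply_apply_eq_zero]

/-- modules killed by `m` -/
theorem exact_lTensor_of_killed [m.IsMaximal]
    (h0 : Function.Exact (α.lTensor (A ⧸ m)) (β.lTensor (A ⧸ m)))
    (M : Type u) [AddCommGroup M] [Module A M] (hM : ∀ a ∈ m, ∀ x : M, a • x = 0) :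
    Function.Exact (α.lTensor M) (β.lTensor M) := by
  have htors : Module.IsTorsionBySet A M m := fun x a => hM a a.2 x
  let : Field (A ⧸ m) := Ideal.Quotient.field m
  let : Module (A ⧸ m) M := htors.module
  have : IsScalarTower A (A ⧸ m) M := htors.isScalarTower
  let b := Module.Basis.ofVectorSpace (A ⧸ m) M
  let e : M ≃ₗ[A] (Module.Basis.ofVectorSpaceIndex (A ⧸ m) M →₀ (A ⧸ m)) :=
    b.repr.restrictScalars A
  exact exact_lTensor_of_equiv α β e (exact_lTensor_finsupp α β _ _ h0)

variable (hαβ : β ∘ₗ α = 0)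
include hαβ

/-- exactness after tensoring with modules killed by a power of `m` -/
theorem exact_lTensor_of_pow_killed [m.IsMaximal] [Module.Flat A E]
    (h0 : Function.Exact (α.lTensor (A ⧸ m)) (β.lTensor (A ⧸ m))) (n : ℕ) :
    ∀ (M : Type u) [AddCommGroup M] [Module A M], (∀ a ∈ m ^ n, ∀ x : M, a • x = 0) →
      Function.Exact (α.lTensor M) (β.lTensor M) := by
  have hcomp : ∀ (M : Type u) [AddCommGroup M] [Module A M] (x : M ⊗[A] C),
      (β.lTensor M) (α.lTensor M x) = 0 := by
    intro M _ _ x
    rw [← LinearMap.comp_apply, ← LinearMap.lTensor_comp, hαβ]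
    simp
  induction n with
  | zero =>
    intro M _ _ hM
    have : Subsingleton M := ⟨fun x y => by
      have hx := hM 1 (by simp) x
      have hy := hM 1 (by simp) y
      rw [one_smul] at hx hy
      rw [hx, hy]⟩
    intro x
    have : Subsingleton (M ⊗[A] D) := inferInstance
    constructor
    · intro _
      exact ⟨0, Subsingleton.elim _ _⟩
    · intro _
      have : x = 0 := Subsingleton.elim _ _
      rw [this, map_zero]
  | succ n ih =>
    intro M _ _ hM
    let N : Submodule A M := m • ⊤
    have hN : ∀ a ∈ m ^ n, ∀ x : N, a • x = 0 := by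
      rintro a ha ⟨x, hx⟩
      apply Subtype.ext
      change a • x = 0
      refine Submodule.smul_induction_on hx ?_ ?_
      · intro b hb y _
        rw [← mul_smul]
        exact hM _ (by rw [pow_succ]; exact Ideal.mul_mem_mul ha hb) y
      · intro x y hx hy
        rw [smul_add, hx, hy, add_zero]
    have hMN : ∀ a ∈ m, ∀ x : M ⧸ N, a • x = 0 := by
      intro a ha x
      obtain ⟨y, rfl⟩ := Submodule.mkQ_surjective N x
      rw [← map_smul]
      simp only [Submodule.mkQ_apply, Submodule.Quotient.mk_eq_zero]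
      exact Submodule.smul_mem_smul ha trivial
    have hexN := ih N hN
    have hexQ := exact_lTensor_of_killed m α β h0 (M ⧸ N) hMN
    intro x
    constructor
    · intro hx
      have h1 : (β.lTensor (M ⧸ N)) (N.mkQ.rTensor D x) = 0 := by
        rw [← LinearMap.comp_apply, LinearMap.lTensor_comp_rTensor,
          ← LinearMap.rTensor_comp_lTensor, LinearMap.comp_apply, hx, map_zero]
      obtain ⟨y, hy⟩ := (hexQ _).1 h1
      obtain ⟨c, rfl⟩ := LinearMap.rTensor_surjective C (Submodule.mkQ_surjective N) y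
      have h2 : N.mkQ.rTensor D (x - α.lTensor M c) = 0 := by
        rw [map_sub, ← hy, ← LinearMap.comp_apply, ← LinearMap.comp_apply,
          LinearMap.lTensor_comp_rTensor, ← LinearMap.rTensor_comp_lTensor, sub_self]
      obtain ⟨y', hy'⟩ := ((rTensor_exact D (LinearMap.exact_subtype_mkQ N)
        (Submodule.mkQ_surjective N)) _).1 h2
      have h3 : (β.lTensor N) y' = 0 := by
        apply Module.Flat.rTensor_preserves_injective_linearMap (M := E) N.subtype
          N.injective_subtype
        rw [map_zero, ← LinearMap.comp_apply, LinearMap.rTensor_comp_lTensor,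
          ← LinearMap.lTensor_comp_rTensor, LinearMap.comp_apply, hy', map_sub, hx, hcomp, sub_zero]
      obtain ⟨c', hc'⟩ := (hexN _).1 h3
      refine ⟨c + N.subtype.rTensor C c', ?_⟩
      rw [map_add, ← LinearMap.comp_apply (α.lTensor M) (N.subtype.rTensor C),
        LinearMap.lTensor_comp_rTensor, ← LinearMap.rTensor_comp_lTensor, LinearMap.comp_apply,
        hc', hy']
      abel
    · rintro ⟨y, rfl⟩
      exact hcomp M y

/-- exactness after tensoring with any module, `m` nilpotent -/
theorem exact_lTensor [m.IsMaximal] (hm : IsNilpotent m) [Module.Flat A E]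
    (h0 : Function.Exact (α.lTensor (A ⧸ m)) (β.lTensor (A ⧸ m)))
    (M : Type u) [AddCommGroup M] [Module A M] :
    Function.Exact (α.lTensor M) (β.lTensor M) := by
  obtain ⟨n, hn⟩ := hm
  refine exact_lTensor_of_pow_killed m α β hαβ h0 n M fun a ha x => ?_
  rw [hn] at ha
  rw [show a = 0 from ha, zero_smul]

theorem lTensor_liftQ_injective [m.IsMaximal] (hm : IsNilpotent m) [Module.Flat A E]
    (h0 : Function.Exact (α.lTensor (A ⧸ m)) (β.lTensor (A ⧸ m)))
    (M : Type u) [AddCommGroup M] [Module A M] :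
    Function.Injective (((LinearMap.range α).liftQ β
      (LinearMap.range_le_ker_iff.mpr hαβ)).lTensor M) := by
  rw [injective_iff_map_eq_zero]
  intro z hz
  obtain ⟨x, rfl⟩ := LinearMap.lTensor_surjective M (Submodule.mkQ_surjective (LinearMap.range α)) z
  rw [← LinearMap.comp_apply, ← LinearMap.lTensor_comp, Submodule.liftQ_mkQ] at hz
  obtain ⟨y, rfl⟩ := ((exact_lTensor m α β hαβ hm h0 M) x).1 hz
  rw [← LinearMap.comp_apply, ← LinearMap.lTensor_comp]
  have : (LinearMap.range α).mkQ ∘ₗ α = 0 := by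
    ext x
    simp
  rw [this]
  simp

theorem flat_coker [m.IsMaximal] (hm : IsNilpotent m) [Module.Flat A E]
    (h0 : Function.Exact (α.lTensor (A ⧸ m)) (β.lTensor (A ⧸ m))) :
    Module.Flat A (D ⧸ LinearMap.range α) := by
  rw [Module.Flat.iff_lTensor_preserves_injective_linearMap]
  intro M N _ _ _ _ f hf
  let β' := (LinearMap.range α).liftQ β (LinearMap.range_le_ker_iff.mpr hαβ)
  have h1 : ∀ (M : Type u) [AddCommGroup M] [Module A M], Function.Injective (β'.rTensor M) := by
    intro M _ _
    rw [← LinearMap.lTensor_inj_iff_rTensor_inj]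
    exact lTensor_liftQ_injective m α β hαβ hm h0 M
  have h2 : (β'.rTensor N) ∘ₗ (f.lTensor (D ⧸ LinearMap.range α)) =
      (f.lTensor E) ∘ₗ (β'.rTensor M) := by
    rw [LinearMap.rTensor_comp_lTensor, LinearMap.lTensor_comp_rTensor]
  have h3 : Function.Injective ((β'.rTensor N) ∘ₗ (f.lTensor (D ⧸ LinearMap.range α))) := by
    rw [h2]
    exact (Module.Flat.lTensor_preserves_injective_linearMap (M := E) f hf).comp (h1 M)
  exact Function.Injective.of_comp h3

theorem flat_range [m.IsMaximal] (hm : IsNilpotent m) [Module.Flat A E] [Module.Flat A D]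
    (h0 : Function.Exact (α.lTensor (A ⧸ m)) (β.lTensor (A ⧸ m))) :
    Module.Flat A (LinearMap.range α) := by
  have := flat_coker m α β hαβ hm h0
  exact Ega3A.FlatSES.flat_left (LinearMap.range α).injective_subtype
    (LinearMap.exact_subtype_mkQ _) (Submodule.mkQ_surjective _)

theorem flat_ker [m.IsMaximal] (hm : IsNilpotent m) [Module.Flat A E] [Module.Flat A D]
    [Module.Flat A C]
    (h0 : Function.Exact (α.lTensor (A ⧸ m)) (β.lTensor (A ⧸ m))) :
    Module.Flat A (LinearMap.ker α) := by
  have := flat_range m α β hαβ hm h0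
  refine Ega3A.FlatSES.flat_left (g := α.rangeRestrict) (LinearMap.ker α).injective_subtype ?_
    α.surjective_rangeRestrict
  intro x
  rw [← LinearMap.mem_ker, LinearMap.ker_rangeRestrict]
  simp

theorem injective_ker [m.IsMaximal] (hm : IsNilpotent m) [Module.Flat A E] [Module.Flat A D]
    (h0 : Function.Exact (α.lTensor (A ⧸ m)) (β.lTensor (A ⧸ m)))
    (M : Type u) [AddCommGroup M] [Module A M] :
    Function.Injective ((LinearMap.ker α).subtype.lTensor M) := by
  have := flat_range m α β hαβ hm h0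
  refine Ega3A.FlatSES.lTensor_injective_of_flat (g := α.rangeRestrict)
    (LinearMap.ker α).injective_subtype ?_ α.surjective_rangeRestrict M
  intro x
  rw [← LinearMap.mem_ker, LinearMap.ker_rangeRestrict]
  simp

theorem exact_ker [m.IsMaximal] (hm : IsNilpotent m) [Module.Flat A E]
    (h0 : Function.Exact (α.lTensor (A ⧸ m)) (β.lTensor (A ⧸ m)))
    (M : Type u) [AddCommGroup M] [Module A M] :
    Function.Exact ((LinearMap.ker α).subtype.lTensor M) (α.lTensor M) := by
  have := flat_coker m α β hαβ hm h0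
  have h1 : Function.Injective ((LinearMap.range α).subtype.lTensor M) :=
    Ega3A.FlatSES.lTensor_injective_of_flat (LinearMap.range α).injective_subtype
    (LinearMap.exact_subtype_mkQ _) (Submodule.mkQ_surjective _) M
  have hex : Function.Exact (LinearMap.ker α).subtype α.rangeRestrict := by
    intro x
    rw [← LinearMap.mem_ker, LinearMap.ker_rangeRestrict]
    simp
  have h2 := lTensor_exact M hex α.surjective_rangeRestrict
  intro x
  rw [← h2 x]
  have h3 : (α.lTensor M) x = ((LinearMap.range α).subtype.lTensor M) (α.rangeRestrict.lTensor M x) := by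
    rw [← LinearMap.comp_apply, ← LinearMap.lTensor_comp]
    rfl
  rw [h3, map_eq_zero_iff _ h1]

omit hαβ in
theorem one_tmul_eq_zero_iff {X : Type u} [AddCommGroup X] [Module A X] (x : X) :
    (1 : A ⧸ m) ⊗ₜ[A] x = 0 ↔ x ∈ m • (⊤ : Submodule A X) := by
  rw [← LinearMap.ker_tensorProductMk, LinearMap.mem_ker]
  rfl

omit hαβ in
theorem exists_one_tmul {X : Type u} [AddCommGroup X] [Module A X] (z : (A ⧸ m) ⊗[A] X) :
    ∃ x : X, (1 : A ⧸ m) ⊗ₜ[A] x = z :=
  TensorProduct.mk_surjective A X (A ⧸ m) Ideal.Quotient.mk_surjective z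

theorem exact_of_forall
    (h : ∀ d : D, β d ∈ m • (⊤ : Submodule A E) → ∃ x : C, α x - d ∈ m • (⊤ : Submodule A D)) :
    Function.Exact (α.lTensor (A ⧸ m)) (β.lTensor (A ⧸ m)) := by
  intro z
  constructor
  · intro hz
    obtain ⟨d, rfl⟩ := exists_one_tmul m z
    rw [LinearMap.lTensor_tmul, one_tmul_eq_zero_iff] at hz
    obtain ⟨x, hx⟩ := h d hz
    refine ⟨1 ⊗ₜ x, ?_⟩
    rw [← sub_eq_zero, LinearMap.lTensor_tmul, ← TensorProduct.tmul_sub, one_tmul_eq_zero_iff]
    exact hx
  · rintro ⟨y, rfl⟩
    rw [← LinearMap.comp_apply, ← LinearMap.lTensor_comp, hαβ]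
    simp

theorem exists_ker_lift [m.IsMaximal] (hm : IsNilpotent m) [Module.Flat A E]
    (h : ∀ d : D, β d ∈ m • (⊤ : Submodule A E) → ∃ x : C, α x - d ∈ m • (⊤ : Submodule A D))
    (x : C) (hx : α x ∈ m • (⊤ : Submodule A D)) :
    ∃ b ∈ LinearMap.ker α, x - b ∈ m • (⊤ : Submodule A C) := by
  have h1 := exact_ker m α β hαβ hm (exact_of_forall m α β hαβ h) (A ⧸ m)
  obtain ⟨z, hz⟩ := (h1 (1 ⊗ₜ x)).1 (by rwa [LinearMap.lTensor_tmul, one_tmul_eq_zero_iff])
  obtain ⟨b, rfl⟩ := exists_one_tmul m z
  refine ⟨b, b.2, ?_⟩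
  rw [← one_tmul_eq_zero_iff, TensorProduct.tmul_sub, ← hz]
  simp

theorem mem_smul_ker [m.IsMaximal] (hm : IsNilpotent m) [Module.Flat A E] [Module.Flat A D]
    (h : ∀ d : D, β d ∈ m • (⊤ : Submodule A E) → ∃ x : C, α x - d ∈ m • (⊤ : Submodule A D))
    (b : LinearMap.ker α) (hb : (b : C) ∈ m • (⊤ : Submodule A C)) :
    b ∈ m • (⊤ : Submodule A (LinearMap.ker α)) := by
  have h1 := injective_ker m α β hαβ hm (exact_of_forall m α β hαβ h) (A ⧸ m)
  rw [← one_tmul_eq_zero_iff]
  apply h1
  rw [map_zero, LinearMap.lTensor_tmul, one_tmul_eq_zero_iff]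
  exact hb

end Groth.Agent.Sga3C.QuotNil
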