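import Mathlib.Algebra.Category.Ring.Constructions
import Mathlib.RingTheory.RingHom.FaithfullyFlat
import Mathlib.CategoryTheory.Limits.Shapes.Pullback.IsPullback.Basic
import Mathlib.LinearAlgebra.TensorProduct.RightExactness

/-!
# Exactness in degree one of the Amitsur complex, in terms of pushout squares of rings
-/

set_option autoImplicit false

namespace Groth.Agent.Sga3C.QuotNilRing

universe u

open TensorProduct CategoryTheory

/-- A pushout of commutative rings is the tensor product. -/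
theorem exists_equiv_of_isPushout {B X Y P : CommRingCat.{u}} {f : B ⟶ X} {g : B ⟶ Y}
    {a : X ⟶ P} {b : Y ⟶ P} (h : IsPushout f g a b) :
    letI := f.hom.toAlgebra
    letI := g.hom.toAlgebra
    ∃ e : X ⊗[B] Y ≃+* P, ∀ x y, e (x ⊗ₜ y) = a.hom x * b.hom y := by
  letI := f.hom.toAlgebra
  letI := g.hom.toAlgebra
  have h0 : IsPushout f g _ _ := CommRingCat.isPushout_tensorProduct B X Y
  let i := h0.isoIsPushout _ _ h
  refine ⟨i.commRingCatIsoToRingEquiv, fun x y => ?_⟩
  have h1 : i.hom.hom (x ⊗ₜ 1) = a.hom x := by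
    have := h0.inl_isoIsPushout_hom _ _ h
    exact congr($(this).hom x)
  have h2 : i.hom.hom (1 ⊗ₜ y) = b.hom y := by
    have := h0.inr_isoIsPushout_hom _ _ h
    exact congr($(this).hom y)
  have h3 : (x ⊗ₜ[B] y : X ⊗[B] Y) = (x ⊗ₜ 1) * (1 ⊗ₜ y) := by simp
  change i.hom.hom (x ⊗ₜ y) = _
  rw [h3, map_mul, h1, h2]

theorem exact_of_faithfullyFlat {B C D E : CommRingCat.{u}} {ι : B ⟶ C} {s t : C ⟶ D}
    {inl inr d1 : D ⟶ E} (hι : ι.hom.FaithfullyFlat) (h1 : IsPushout ι ι s t)
    (h2 : IsPushout ι (ι ≫ s) (s ≫ inl) inr)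
    (e1 : s ≫ d1 = s ≫ inl) (e2 : t ≫ d1 = t ≫ inr) (e3 : t ≫ inl = s ≫ inr)
    (x : D) (hx : inr.hom x - d1.hom x + inl.hom x = 0) : ∃ c, t.hom c - s.hom c = x := by
  let := ι.hom.toAlgebra
  let := (ι ≫ s).hom.toAlgebra
  have hff : Module.FaithfullyFlat B C := hι
  obtain ⟨ψ, hψ⟩ := exists_equiv_of_isPushout h1
  obtain ⟨γ, hγ⟩ := exists_equiv_of_isPushout h2
  let α : C →ₗ[B] D :=
    { toFun := fun c => t.hom c - s.hom c
      map_add' := fun a b => by simp only [map_add]; ring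
      map_smul' := fun b c => by
        have hst : t.hom (ι.hom b) = s.hom (ι.hom b) := congr($(h1.w).hom b).symm
        change t.hom (ι.hom b * c) - s.hom (ι.hom b * c) = s.hom (ι.hom b) * (t.hom c - s.hom c)
        rw [map_mul, map_mul, hst, mul_sub] }
  have key : ∀ x' : C ⊗[B] C, d1.hom (ψ x') - inl.hom (ψ x') = γ (α.lTensor C x') := by
    intro x'
    induction x' using TensorProduct.induction_on with
    | zero => simp
    | add x y hx hy =>
      simp only [map_add, ← hx, ← hy]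
      ring
    | tmul a b =>
      rw [LinearMap.lTensor_tmul, hγ, hψ]
      have f1 : d1.hom (s.hom a) = inl.hom (s.hom a) := congr($(e1).hom a)
      have f2 : d1.hom (t.hom b) = inr.hom (t.hom b) := congr($(e2).hom b)
      have f3 : inl.hom (t.hom b) = inr.hom (s.hom b) := congr($(e3).hom b)
      change _ = inl.hom (s.hom a) * inr.hom (t.hom b - s.hom b)
      rw [map_mul, map_mul, f1, f2, f3, map_sub]
      ring
  obtain ⟨x', rfl⟩ := ψ.surjective x
  have h3 : γ ((1 : C) ⊗ₜ ψ x') = γ (α.lTensor C x') := by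
    rw [hγ, map_one, one_mul, ← key]
    linear_combination hx
  have h4 : (1 : C) ⊗ₜ[B] ψ x' = α.lTensor C x' := γ.injective h3
  have h5 : (1 : C) ⊗ₜ[B] ((LinearMap.range α).mkQ (ψ x')) = 0 := by
    have : (1 : C) ⊗ₜ[B] ((LinearMap.range α).mkQ (ψ x')) =
        (LinearMap.range α).mkQ.lTensor C ((1 : C) ⊗ₜ[B] ψ x') := by simp
    rw [this, h4, ← LinearMap.comp_apply, ← LinearMap.lTensor_comp]
    have : (LinearMap.range α).mkQ ∘ₗ α = 0 := by
      ext x
      simp
    rw [this]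
    simp
  rw [Module.FaithfullyFlat.one_tmul_eq_zero_iff] at h5
  have h6 : ψ x' ∈ LinearMap.range α := by simpa using h5
  exact h6

/-- The equalizer of the coprojections is the base ring. -/
theorem exists_of_eq {B C D : CommRingCat.{u}} {ι : B ⟶ C} {s t : C ⟶ D}
    (hι : ι.hom.FaithfullyFlat) (h1 : IsPushout ι ι s t) (c : C) (hc : s.hom c = t.hom c) :
    ∃ b, ι.hom b = c := by
  let := ι.hom.toAlgebra
  have hff : Module.FaithfullyFlat B C := hι
  obtain ⟨ψ, hψ⟩ := exists_equiv_of_isPushout h1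
  have h2 : c ⊗ₜ[B] (1 : C) = (1 : C) ⊗ₜ[B] c := by
    apply ψ.injective
    rw [hψ, hψ, map_one, map_one, mul_one, one_mul, hc]
  let q := (LinearMap.range (Algebra.linearMap B C)).mkQ
  have h3 : (1 : C) ⊗ₜ[B] q c = 0 := by
    have : (1 : C) ⊗ₜ[B] q c = q.lTensor C ((1 : C) ⊗ₜ[B] c) := by simp
    rw [this, ← h2, LinearMap.lTensor_tmul]
    have : q 1 = 0 := by
      simp only [q, Submodule.mkQ_apply, Submodule.Quotient.mk_eq_zero]
      exact ⟨1, by simp⟩
    rw [this, TensorProduct.tmul_zero]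
  rw [Module.FaithfullyFlat.one_tmul_eq_zero_iff] at h3
  have h4 : c ∈ LinearMap.range (Algebra.linearMap B C) := by simpa [q] using h3
  obtain ⟨b, hb⟩ := h4
  exact ⟨b, hb⟩

end Groth.Agent.Sga3C.QuotNilRing
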