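import Groth.Agent.Sga3C.QuotNil
import Groth.Agent.Sga3C.QuotNilRing
import Groth.Agent.Flat2D.NilpAlg
import Groth.Agent.Flat2D.NilpFlat2

/-!
# Lifting faithfully flat quotients of affine equivalence relations along nilpotent thickenings
-/

set_option autoImplicit false

namespace Groth.Agent.Sga3C.QuotNilMain

universe u

open TensorProduct CategoryTheory Limits

section ModM

variable {A K C D E B0 C0 D0 : CommRingCat.{u}} {φ : A ⟶ K} {c : A ⟶ C} {s t : C ⟶ D}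
  {c₀ : K ⟶ C0} {χC : C ⟶ C0} {s₀ t₀ : C0 ⟶ D0} {χD : D ⟶ D0} {ι₀ : B0 ⟶ C0}
  {inl inr d1 : D ⟶ E}

theorem exact_mod (hC : Function.Surjective χC.hom)
    (hs : IsPushout χC s s₀ χD) (ht : IsPushout χC t t₀ χD)
    (hE : IsPushout t s inl inr) (e1 : s ≫ d1 = s ≫ inl) (e2 : t ≫ d1 = t ≫ inr)
    (hι : ι₀.hom.FaithfullyFlat) (h0 : IsPushout ι₀ ι₀ s₀ t₀)
    {E0 : CommRingCat.{u}} {inl₀ : D0 ⟶ E0} {χE : E ⟶ E0} (hE0 : IsPushout χD inl inl₀ χE)
    (d : D) (hd : χE.hom (inr.hom d - d1.hom d + inl.hom d) = 0) :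
    ∃ x : C, χD.hom (t.hom x - s.hom x) = χD.hom d := by
  have hepi : Epi χC := by
    apply ConcreteCategory.epi_of_surjective
    exact hC
  let inr₀ : D0 ⟶ E0 := hs.desc (t₀ ≫ inl₀) (inr ≫ χE) (by
    rw [← Category.assoc, ht.w, Category.assoc, hE0.w, ← Category.assoc, hE.w, Category.assoc])
  let d1₀ : D0 ⟶ E0 := hs.desc (s₀ ≫ inl₀) (d1 ≫ χE) (by
    rw [← Category.assoc, hs.w, Category.assoc, hE0.w, ← Category.assoc, ← e1, Category.assoc])
  have f1 : s₀ ≫ inr₀ = t₀ ≫ inl₀ := hs.inl_desc _ _ _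
  have f2 : χD ≫ inr₀ = inr ≫ χE := hs.inr_desc _ _ _
  have f3 : s₀ ≫ d1₀ = s₀ ≫ inl₀ := hs.inl_desc _ _ _
  have f4 : χD ≫ d1₀ = d1 ≫ χE := hs.inr_desc _ _ _
  have f5 : t₀ ≫ d1₀ = t₀ ≫ inr₀ := by
    rw [← cancel_epi χC, ← Category.assoc, ← Category.assoc, ht.w, Category.assoc, Category.assoc,
      f4, f2, ← Category.assoc, ← Category.assoc, e2]
  have g1 : IsPushout t₀ s₀ inl₀ inr₀ := by
    have g2 : IsPushout (t ≫ χD) s inl₀ (inr ≫ χE) := hE.paste_horiz hE0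
    rw [← ht.w, ← f2] at g2
    exact g2.of_left f1.symm hs
  have g3 : IsPushout ι₀ (ι₀ ≫ s₀) (s₀ ≫ inl₀) inr₀ := h0.paste_vert g1
  obtain ⟨x₀, hx₀⟩ := QuotNilRing.exact_of_faithfullyFlat hι h0 g3 f3 f5 f1.symm (χD.hom d) (by
    have k1 : inr₀.hom (χD.hom d) = χE.hom (inr.hom d) := congr($(f2).hom d)
    have k2 : d1₀.hom (χD.hom d) = χE.hom (d1.hom d) := congr($(f4).hom d)
    have k3 : inl₀.hom (χD.hom d) = χE.hom (inl.hom d) := congr($(hE0.w).hom d)
    rw [k1, k2, k3, ← map_sub, ← map_add, hd])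
  obtain ⟨x, rfl⟩ := hC x₀
  refine ⟨x, ?_⟩
  have k1 : t₀.hom (χC.hom x) = χD.hom (t.hom x) := congr($(ht.w).hom x)
  have k2 : s₀.hom (χC.hom x) = χD.hom (s.hom x) := congr($(hs.w).hom x)
  rw [map_sub, ← k1, ← k2, hx₀]

end ModM

/-- A commutative square of rings with surjective horizontal arrows and generated kernel is a
pushout. -/
theorem isPushout_of_surjective {A K B B0 : CommRingCat.{u}} {φ : A ⟶ K} {a : A ⟶ B} {c' : K ⟶ B0}
    {ψ : B ⟶ B0} (w : φ ≫ c' = a ≫ ψ) (hφ : Function.Surjective φ.hom)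
    (hψ : Function.Surjective ψ.hom)
    (hker : RingHom.ker ψ.hom ≤ (RingHom.ker φ.hom).map a.hom) : IsPushout φ a c' ψ := by
  have hepi : Epi φ := ConcreteCategory.epi_of_surjective _ hφ
  have hepi' : Epi ψ := ConcreteCategory.epi_of_surjective _ hψ
  have key : ∀ (T : CommRingCat.{u}) (x : K ⟶ T) (y : B ⟶ T), φ ≫ x = a ≫ y →
      ∃ z : B0 ⟶ T, ψ ≫ z = y := by
    intro T x y hxy
    have h1 : RingHom.ker ψ.hom ≤ RingHom.ker y.hom := by
      refine hker.trans ?_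
      rw [Ideal.map_le_iff_le_comap]
      intro r hr
      rw [RingHom.mem_ker] at hr
      rw [Ideal.mem_comap, RingHom.mem_ker]
      have : y.hom (a.hom r) = x.hom (φ.hom r) := congr($(hxy).hom r).symm
      rw [this, hr, map_zero]
    refine ⟨CommRingCat.ofHom (RingHom.liftOfSurjective ψ.hom hψ ⟨y.hom, h1⟩), ?_⟩
    ext b
    exact RingHom.liftOfRightInverse_comp_apply _ _ (Function.rightInverse_surjInv hψ) _ _
  refine ⟨⟨w⟩, ⟨PushoutCocone.IsColimit.mk _ (fun s => (key s.pt s.inl s.inr s.condition).choose)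
    ?_ ?_ ?_⟩⟩
  · intro s
    have := (key s.pt s.inl s.inr s.condition).choose_spec
    rw [← cancel_epi φ, ← Category.assoc, w, Category.assoc, this, s.condition]
  · intro s
    exact (key s.pt s.inl s.inr s.condition).choose_spec
  · intro s m hm1 hm2
    have := (key s.pt s.inl s.inr s.condition).choose_spec
    rw [← cancel_epi ψ, this, hm2]

theorem exists_quot_aux {A K C D E B0 C0 D0 : CommRingCat.{u}} {φ : A ⟶ K} {c : A ⟶ C}
    {s t : C ⟶ D} {c₀ : K ⟶ C0} {χC : C ⟶ C0} {s₀ t₀ : C0 ⟶ D0} {χD : D ⟶ D0} {c' : K ⟶ B0}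
    {ι₀ : B0 ⟶ C0} {inl inr d1 : D ⟶ E}
    (hφ : Function.Surjective φ.hom) (hmax : (RingHom.ker φ.hom).IsMaximal)
    (hnil : IsNilpotent (RingHom.ker φ.hom)) (hcst : c ≫ s = c ≫ t)
    (hflC : c.hom.Flat) (hflD : (c ≫ s).hom.Flat) (hflE : (c ≫ s ≫ inl).hom.Flat)
    (hC : IsPushout φ c c₀ χC) (hs : IsPushout χC s s₀ χD) (ht : IsPushout χC t t₀ χD)
    (hE : IsPushout t s inl inr) (e1 : s ≫ d1 = s ≫ inl) (e2 : t ≫ d1 = t ≫ inr)
    (hι : ι₀.hom.FaithfullyFlat) (h0 : IsPushout ι₀ ι₀ s₀ t₀) (hc' : c' ≫ ι₀ = c₀) :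
    ∃ (B : CommRingCat.{u}) (a : A ⟶ B) (q : B ⟶ C) (ψ : B ⟶ B0),
      a ≫ q = c ∧ q ≫ s = q ≫ t ∧ IsPushout φ a c' ψ ∧ ψ ≫ ι₀ = q ≫ χC ∧ a.hom.Flat := by
  have hχC : Function.Surjective χC.hom := Flat2D.NilpFlat2.surjective_of_isPushout hC hφ
  -- the algebra structures
  let _ : Algebra A C := c.hom.toAlgebra
  let _ : Algebra A D := (c ≫ s).hom.toAlgebra
  let _ : Algebra A E := (c ≫ s ≫ inl).hom.toAlgebra
  have flC : Module.Flat A C := hflC
  have flD : Module.Flat A D := hflD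
  have flE : Module.Flat A E := hflE
  set m : Ideal A := RingHom.ker φ.hom with hm
  have hst : ∀ a, t.hom (c.hom a) = s.hom (c.hom a) := fun a => congr($(hcst).hom a).symm
  have he1 : ∀ x, d1.hom (s.hom x) = inl.hom (s.hom x) := fun x => congr($(e1).hom x)
  have he2 : ∀ x, d1.hom (t.hom x) = inr.hom (t.hom x) := fun x => congr($(e2).hom x)
  have he3 : ∀ x, inl.hom (t.hom x) = inr.hom (s.hom x) := fun x => congr($(hE.w).hom x)
  let α : C →ₗ[A] D :=
    { toFun := fun x => t.hom x - s.hom x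
      map_add' := fun a b => by simp only [map_add]; ring
      map_smul' := fun b x => by
        change t.hom (c.hom b * x) - s.hom (c.hom b * x) = s.hom (c.hom b) * (t.hom x - s.hom x)
        rw [map_mul, map_mul, hst, mul_sub] }
  let β : D →ₗ[A] E :=
    { toFun := fun x => inr.hom x - d1.hom x + inl.hom x
      map_add' := fun a b => by simp only [map_add]; ring
      map_smul' := fun b x => by
        change inr.hom (s.hom (c.hom b) * x) - d1.hom (s.hom (c.hom b) * x) +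
          inl.hom (s.hom (c.hom b) * x) =
          inl.hom (s.hom (c.hom b)) * (inr.hom x - d1.hom x + inl.hom x)
        rw [map_mul, map_mul, map_mul, he1, ← he3, hst]
        ring }
  have hαβ : β ∘ₗ α = 0 := by
    ext x
    change inr.hom (t.hom x - s.hom x) - d1.hom (t.hom x - s.hom x) +
      inl.hom (t.hom x - s.hom x) = 0
    simp only [map_sub, he1, he2, he3]
    ring
  -- kernels
  have pD : IsPushout φ (c ≫ s) (c₀ ≫ s₀) χD := hC.paste_vert hs
  have hE0 : IsPushout χD inl (pushout.inl χD inl) (pushout.inr χD inl) := IsPushout.of_hasPushout _ _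
  have pE : IsPushout φ ((c ≫ s) ≫ inl) ((c₀ ≫ s₀) ≫ pushout.inl χD inl) (pushout.inr χD inl) :=
    pD.paste_vert hE0
  have kC : ∀ x : C, x ∈ m • (⊤ : Submodule A C) ↔ χC.hom x = 0 := by
    intro x
    rw [Ideal.smul_top_eq_map, ← RingHom.mem_ker, Flat2D.NilpFlat2.ker_of_isPushout hC hφ]
    rfl
  have kD : ∀ x : D, x ∈ m • (⊤ : Submodule A D) ↔ χD.hom x = 0 := by
    intro x
    rw [Ideal.smul_top_eq_map, ← RingHom.mem_ker, Flat2D.NilpFlat2.ker_of_isPushout pD hφ]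
    rfl
  have kE : ∀ x : E, x ∈ m • (⊤ : Submodule A E) ↔ (pushout.inr χD inl).hom x = 0 := by
    intro x
    rw [Ideal.smul_top_eq_map, ← RingHom.mem_ker, Flat2D.NilpFlat2.ker_of_isPushout pE hφ]
    rfl
  have hex : ∀ d : D, β d ∈ m • (⊤ : Submodule A E) →
      ∃ x : C, α x - d ∈ m • (⊤ : Submodule A D) := by
    intro d hd
    rw [kE] at hd
    obtain ⟨x, hx⟩ := exact_mod hχC hs ht hE e1 e2 hι h0 hE0 d hd
    refine ⟨x, ?_⟩
    rw [kD, map_sub, sub_eq_zero]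
    exact hx
  -- the equalizer
  let B' : Subring C := RingHom.eqLocus s.hom t.hom
  let B : CommRingCat.{u} := CommRingCat.of B'
  let q : B ⟶ C := CommRingCat.ofHom B'.subtype
  let a : A ⟶ B := CommRingCat.ofHom (c.hom.codRestrict B' fun x => (hst x).symm)
  have haq : a ≫ q = c := by ext x; rfl
  have hqs : ∀ b : B, s.hom (q.hom b) = t.hom (q.hom b) := fun b => b.2
  have hqst : q ≫ s = q ≫ t := by ext b; exact hqs b
  have hιinj : Function.Injective ι₀.hom := hι.injective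
  have hrange : ∀ b : B, χC.hom (q.hom b) ∈ ι₀.hom.range := by
    intro b
    obtain ⟨y, hy⟩ := QuotNilRing.exists_of_eq hι h0 (χC.hom (q.hom b)) (by
      have k1 : s₀.hom (χC.hom (q.hom b)) = χD.hom (s.hom (q.hom b)) := congr($(hs.w).hom (q.hom b))
      have k2 : t₀.hom (χC.hom (q.hom b)) = χD.hom (t.hom (q.hom b)) := congr($(ht.w).hom (q.hom b))
      rw [k1, k2, hqs])
    exact ⟨y, hy⟩
  let ρ : B0 ≃+* ι₀.hom.range := RingEquiv.ofBijective ι₀.hom.rangeRestrict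
    ⟨fun x y h => hιinj (congrArg Subtype.val h), ι₀.hom.rangeRestrict_surjective⟩
  let ψ : B ⟶ B0 := CommRingCat.ofHom
    (ρ.symm.toRingHom.comp ((χC.hom.comp q.hom).codRestrict ι₀.hom.range hrange))
  have hψ : ∀ b, ι₀.hom (ψ.hom b) = χC.hom (q.hom b) := by
    intro b
    change ((ρ (ρ.symm _)) : C0) = _
    rw [RingEquiv.apply_symm_apply]
    rfl
  have hψ' : ψ ≫ ι₀ = q ≫ χC := by ext b; exact hψ b
  -- flatness of `B`
  let _ : Algebra A B := a.hom.toAlgebra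
  let e : LinearMap.ker α ≃ₗ[A] B :=
    { toFun := fun x => ⟨x.1, (sub_eq_zero.mp x.2).symm⟩
      invFun := fun x => ⟨x.1, sub_eq_zero.mpr (hqs x).symm⟩
      map_add' := fun _ _ => rfl
      map_smul' := fun _ _ => rfl
      left_inv := fun _ => rfl
      right_inv := fun _ => rfl }
  have hflB : Module.Flat A B := by
    have := QuotNil.flat_ker m α β hαβ hnil (QuotNil.exact_of_forall m α β hαβ hex)
    exact Module.Flat.of_linearEquiv e.symm
  refine ⟨B, a, q, ψ, haq, hqst, ?_, hψ', hflB⟩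
  apply isPushout_of_surjective
  · have : Mono ι₀ := ConcreteCategory.mono_of_injective _ hιinj
    rw [← cancel_mono ι₀, Category.assoc, Category.assoc, hψ', hc', hC.w, ← Category.assoc, haq]
  · exact hφ
  · intro b0
    obtain ⟨x, hx⟩ := hχC (ι₀.hom b0)
    have hx1 : α x ∈ m • (⊤ : Submodule A D) := by
      rw [kD]
      change χD.hom (t.hom x - s.hom x) = 0
      have k1 : s₀.hom (χC.hom x) = χD.hom (s.hom x) := congr($(hs.w).hom x)
      have k2 : t₀.hom (χC.hom x) = χD.hom (t.hom x) := congr($(ht.w).hom x)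
      have k3 : s₀.hom (ι₀.hom b0) = t₀.hom (ι₀.hom b0) := congr($(h0.w).hom b0)
      rw [map_sub, ← k1, ← k2, hx, k3, sub_self]
    obtain ⟨b, hb, hb'⟩ := QuotNil.exists_ker_lift m α β hαβ hnil hex x hx1
    refine ⟨e ⟨b, hb⟩, hιinj ?_⟩
    rw [hψ, ← hx]
    rw [kC, map_sub, sub_eq_zero] at hb'
    exact hb'.symm
  · intro b hb
    rw [RingHom.mem_ker] at hb
    have hb1 : ((e.symm b : LinearMap.ker α) : C) ∈ m • (⊤ : Submodule A C) := by
      rw [kC]
      change χC.hom (q.hom b) = 0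
      rw [← hψ, hb, map_zero]
    have hb2 := QuotNil.mem_smul_ker m α β hαβ hnil hex (e.symm b) hb1
    have hb3 : b ∈ m • (⊤ : Submodule A B) := by
      have := Submodule.mem_map_of_mem (f := e.toLinearMap) hb2
      rw [Submodule.map_smul''] at this
      simpa using this
    rw [Ideal.smul_top_eq_map] at hb3
    exact hb3

/-- Lifting of faithfully flat quotients of affine equivalence relations along nilpotent
thickenings. -/
theorem exists_quot {A K C D E B0 C0 D0 : CommRingCat.{u}} {φ : A ⟶ K} {c : A ⟶ C}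
    {s t : C ⟶ D} {c₀ : K ⟶ C0} {χC : C ⟶ C0} {s₀ t₀ : C0 ⟶ D0} {χD : D ⟶ D0} {c' : K ⟶ B0}
    {ι₀ : B0 ⟶ C0} {inl inr d1 : D ⟶ E}
    (hφ : Function.Surjective φ.hom) (hmax : (RingHom.ker φ.hom).IsMaximal)
    (hnil : IsNilpotent (RingHom.ker φ.hom)) (hcst : c ≫ s = c ≫ t)
    (hflC : c.hom.Flat) (hflD : (c ≫ s).hom.Flat) (hflE : (c ≫ s ≫ inl).hom.Flat)
    (hC : IsPushout φ c c₀ χC) (hs : IsPushout χC s s₀ χD) (ht : IsPushout χC t t₀ χD)
    (hE : IsPushout t s inl inr) (e1 : s ≫ d1 = s ≫ inl) (e2 : t ≫ d1 = t ≫ inr)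
    (hι : ι₀.hom.FaithfullyFlat) (h0 : IsPushout ι₀ ι₀ s₀ t₀) (hc' : c' ≫ ι₀ = c₀) :
    ∃ (B : CommRingCat.{u}) (a : A ⟶ B) (q : B ⟶ C) (ψ : B ⟶ B0),
      a ≫ q = c ∧ a.hom.Flat ∧ IsPushout φ a c' ψ ∧ IsPushout ψ q ι₀ χC ∧
      q.hom.FaithfullyFlat ∧ IsPushout q q s t ∧
      (ι₀.hom.FinitePresentation → q.hom.FinitePresentation) := by
  obtain ⟨B, a, q, ψ, haq, hqst, hB, hψ, hfla⟩ := exists_quot_aux hφ hmax hnil hcst hflC hflD hflE
    hC hs ht hE e1 e2 hι h0 hc'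
  have hX : IsPushout ψ q ι₀ χC := by
    refine IsPushout.of_top (h₁₁ := φ) (v₁₁ := a) (v₁₂ := c') ?_ hψ hB
    rw [haq, hc']
    exact hC
  have hflq : q.hom.Flat := by
    refine Flat2D.NilpFlat2.ringHom_flat_of_isPushout hB hX hφ hnil ?_ hι.flat
    rw [haq]
    exact hflC
  have hψsurj : Function.Surjective ψ.hom := Flat2D.NilpFlat2.surjective_of_isPushout hB hφ
  have hχC : Function.Surjective χC.hom := Flat2D.NilpFlat2.surjective_of_isPushout hC hφ
  have hkerψ : RingHom.ker ψ.hom = (RingHom.ker φ.hom).map a.hom :=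
    Flat2D.NilpFlat2.ker_of_isPushout hB hφ
  have hkerχ : RingHom.ker χC.hom = (RingHom.ker φ.hom).map (q.hom.comp a.hom) := by
    rw [← CommRingCat.hom_comp, haq]
    exact Flat2D.NilpFlat2.ker_of_isPushout hC hφ
  refine ⟨B, a, q, ψ, haq, hfla, hB, hX, ?_, ?_, ?_⟩
  · rw [RingHom.FaithfullyFlat.iff_flat_and_comap_surjective]
    refine ⟨hflq, ?_⟩
    intro p
    -- `ker ψ` is nilpotent so `p` comes from `B0`
    have hle : RingHom.ker ψ.hom ≤ p.asIdeal := by
      obtain ⟨n, hn⟩ := hnil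
      intro x hx
      have hx' : x ^ n ∈ (RingHom.ker ψ.hom) ^ n := Ideal.pow_mem_pow hx n
      rw [hkerψ, ← Ideal.map_pow, hn] at hx'
      have hx0 : x ^ n = 0 := by simpa using hx'
      exact p.2.mem_of_pow_mem n (by rw [hx0]; exact p.asIdeal.zero_mem)
    obtain ⟨p0, hp0⟩ : p ∈ Set.range (PrimeSpectrum.comap ψ.hom) := by
      rw [_root_.range_comap_of_surjective _ _ hψsurj]
      exact hle
    obtain ⟨y0, hy0⟩ := (RingHom.FaithfullyFlat.iff_flat_and_comap_surjective.mp hι).2 p0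
    refine ⟨PrimeSpectrum.comap χC.hom y0, ?_⟩
    rw [← hp0, ← hy0]
    have h1 : PrimeSpectrum.comap q.hom (PrimeSpectrum.comap χC.hom y0) =
        PrimeSpectrum.comap (χC.hom.comp q.hom) y0 := rfl
    have h2 : PrimeSpectrum.comap ψ.hom (PrimeSpectrum.comap ι₀.hom y0) =
        PrimeSpectrum.comap (ι₀.hom.comp ψ.hom) y0 := rfl
    rw [h1, h2, ← CommRingCat.hom_comp, ← CommRingCat.hom_comp, hψ]
  · -- the pushout `C ⊗_B C`
    let i1 := pushout.inl q q
    let i2 := pushout.inr q q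
    have hP : IsPushout q q i1 i2 := IsPushout.of_hasPushout _ _
    let f : pushout q q ⟶ D := hP.desc s t hqst
    have hf1 : i1 ≫ f = s := hP.inl_desc _ _ _
    have hf2 : i2 ≫ f = t := hP.inr_desc _ _ _
    have hbig : IsPushout (q ≫ χC) q s₀ (χC ≫ t₀) := by
      rw [← hψ]
      exact hX.paste_horiz h0
    have hb1 : IsPushout χC i1 s₀ (f ≫ χD) := by
      have h3 : i2 ≫ (f ≫ χD) = χC ≫ t₀ := by rw [← Category.assoc, hf2, ht.w]
      have h4 : χC ≫ s₀ = i1 ≫ (f ≫ χD) := by rw [← Category.assoc, hf1, hs.w]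
      refine IsPushout.of_left (h₁₁ := q) (v₁₁ := q) (h₂₁ := i2) ?_ h4 hP
      rw [h3]
      exact hbig
    have hPA : IsPushout φ (c ≫ i1) (c₀ ≫ s₀) (f ≫ χD) := hC.paste_vert hb1
    have hDA : IsPushout φ (c ≫ s) (c₀ ≫ s₀) χD := hC.paste_vert hs
    have hbij : Function.Bijective f.hom := by
      refine Flat2D.NilpAlg.bijective_of_nilpotent φ.hom (f ≫ χD).hom χD.hom (c ≫ i1).hom f.hom
        (RingHom.id D0) (Flat2D.NilpFlat2.surjective_of_isPushout hPA hφ) hnil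
        (Flat2D.NilpFlat2.ker_of_isPushout hPA hφ) ?_ rfl ?_ Function.bijective_id
      · rw [← CommRingCat.hom_comp, Category.assoc, hf1]
        exact Flat2D.NilpFlat2.ker_of_isPushout hDA hφ
      · rw [← CommRingCat.hom_comp, Category.assoc, hf1]
        exact hflD
    have : IsIso f := (ConcreteCategory.isIso_iff_bijective f).mpr hbij
    refine hP.of_iso (Iso.refl _) (Iso.refl _) (Iso.refl _) (asIso f) (by simp) (by simp) ?_ ?_
    · simp [hf1]
    · simp [hf2]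
  · intro hfp
    refine Flat2D.NilpAlg.finitePresentation_of_nilpotent φ.hom ψ.hom χC.hom a.hom q.hom ι₀.hom
      hψsurj hχC hnil hkerψ hkerχ ?_ ?_ hfp
    · rw [← CommRingCat.hom_comp, ← CommRingCat.hom_comp, hψ]
    · rw [← CommRingCat.hom_comp, haq]
      exact hflC

end Groth.Agent.Sga3C.QuotNilMain
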