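import Groth.Prelude.Def_SGA3
import Groth.Agent.Sga3C.NormalHopfA
import Mathlib.RingTheory.Flat.Basic
import Mathlib.RingTheory.Bialgebra.Hom
import Mathlib.LinearAlgebra.Basis.VectorSpace

/-!
# Sub-Hopf-algebras of a commutative Hopf algebra over a field

Hopf algebra structure on a subalgebra stable under comultiplication and antipode.
-/

set_option autoImplicit false
universe u v
open TensorProduct WithConv

namespace Groth.Agent.Sga3C.SubHopf

open Groth.Agent.Books.DynBasic Groth.Agent.Sga3C.NormalHopfA

section Antipode

variable {k : Type u} [Field k] {A : Type u} [CommRing A] [HopfAlgebra k A]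

lemma antipode_antipode (a : A) :
    HopfAlgebraStruct.antipode (R := k) (HopfAlgebraStruct.antipode (R := k) a) = a := by
  have h := inv_inv (toConv (AlgHom.id k A))
  have h2 := congrArg (fun x : WithConv (A →ₐ[k] A) => x.ofConv a) h
  exact h2

lemma points_comul {R : Type u} [CommRing R] [Algebra k R] (x y : WithConv (A →ₐ[k] R)) (a : A) :
    (x * y).ofConv a = Algebra.TensorProduct.lift x.ofConv y.ofConv (fun _ _ => Commute.all _ _)
      (CoalgebraStruct.comul (R := k) a) := by
  rw [mul_apply_eq]
  generalize CoalgebraStruct.comul (R := k) a = z
  induction z using TensorProduct.induction_on with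
  | zero => simp
  | tmul x y => simp
  | add x y hx hy => rw [map_add, map_add, hx, hy, map_add]

lemma comul_antipode (a : A) :
    CoalgebraStruct.comul (R := k) (HopfAlgebraStruct.antipode (R := k) a) =
      TensorProduct.map (HopfAlgebraStruct.antipode (R := k)) (HopfAlgebraStruct.antipode (R := k))
        (TensorProduct.comm k A A (CoalgebraStruct.comul (R := k) a)) := by
  -- generic version
  have key : ∀ (R : Type u) [CommRing R] [Algebra k R] (x y : WithConv (A →ₐ[k] R)),
      Algebra.TensorProduct.lift x.ofConv y.ofConv (fun _ _ => Commute.all _ _)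
        (CoalgebraStruct.comul (R := k) (HopfAlgebraStruct.antipode (R := k) a)) =
      Algebra.TensorProduct.lift x.ofConv y.ofConv (fun _ _ => Commute.all _ _)
        (TensorProduct.map (HopfAlgebraStruct.antipode (R := k))
          (HopfAlgebraStruct.antipode (R := k))
          (TensorProduct.comm k A A (CoalgebraStruct.comul (R := k) a))) := by
    intro R _ _ x y
    rw [← points_comul, ← inv_apply_eq, mul_inv_rev, points_comul]
    generalize CoalgebraStruct.comul (R := k) a = z
    induction z using TensorProduct.induction_on with
    | zero => simp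
    | tmul u v =>
      simp only [Algebra.TensorProduct.lift_tmul, TensorProduct.comm_tmul,
        TensorProduct.map_tmul]
      rw [mul_comm]
      rfl
    | add u v hu hv => rw [map_add, hu, hv, map_add, map_add, map_add]
  have h := key (A ⊗[k] A) (toConv Algebra.TensorProduct.includeLeft)
    (toConv Algebra.TensorProduct.includeRight)
  have hid : Algebra.TensorProduct.lift
      (Algebra.TensorProduct.includeLeft : A →ₐ[k] A ⊗[k] A)
      (Algebra.TensorProduct.includeRight : A →ₐ[k] A ⊗[k] A) (fun _ _ => Commute.all _ _) =
      AlgHom.id k _ := by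
    ext <;> simp
  have h2 : ∀ z : A ⊗[k] A, Algebra.TensorProduct.lift
      (Algebra.TensorProduct.includeLeft : A →ₐ[k] A ⊗[k] A)
      (Algebra.TensorProduct.includeRight : A →ₐ[k] A ⊗[k] A) (fun _ _ => Commute.all _ _) z =
      z := fun z => by rw [hid]; rfl
  exact (h2 _).symm.trans (h.trans (h2 _))

end Antipode

section Sub

variable {k : Type u} [Field k] {A : Type u} [CommRing A] [HopfAlgebra k A] (B : Subalgebra k A)

lemma map_val_injective' {M N : Type*} [AddCommMonoid M] [Module k M] [AddCommMonoid N]
    [Module k N] {M' N' : Type*} [AddCommMonoid M'] [Module k M'] [AddCommMonoid N'] [Module k N']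
    [Module.Flat k M'] [Module.Flat k N] (f : M →ₗ[k] M') (g : N →ₗ[k] N')
    (hf : Function.Injective f) (hg : Function.Injective g) :
    Function.Injective (TensorProduct.map f g) := by
  rw [← LinearMap.lTensor_comp_rTensor]
  exact (Module.Flat.lTensor_preserves_injective_linearMap g hg).comp
    (Module.Flat.rTensor_preserves_injective_linearMap f hf)

/-- the inclusion `B ⊗ B → A ⊗ A` -/
noncomputable def jj : B ⊗[k] B →ₐ[k] A ⊗[k] A := Algebra.TensorProduct.map B.val B.val

lemma jj_tmul (x y : B) : jj B (x ⊗ₜ y) = (x : A) ⊗ₜ[k] (y : A) := rfl

lemma jj_injective : Function.Injective (jj B) :=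
  map_val_injective' B.val.toLinearMap B.val.toLinearMap Subtype.val_injective
    Subtype.val_injective

/-- the inclusion `B ⊗ (B ⊗ B) → A ⊗ (A ⊗ A)` -/
noncomputable def jjj : B ⊗[k] (B ⊗[k] B) →ₐ[k] A ⊗[k] (A ⊗[k] A) :=
  Algebra.TensorProduct.map B.val (jj B)

lemma jjj_injective : Function.Injective (jjj B) :=
  map_val_injective' B.val.toLinearMap (jj B).toLinearMap Subtype.val_injective
    (jj_injective B)

lemma jjj_assoc (w : B ⊗[k] B) (y : B) :
    jjj B (Algebra.TensorProduct.assoc k k k B B B (w ⊗ₜ y)) =
      Algebra.TensorProduct.assoc k k k A A A (jj B w ⊗ₜ (y : A)) := by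
  induction w using TensorProduct.induction_on with
  | zero => simp
  | tmul a b => rfl
  | add a b ha hb => rw [TensorProduct.add_tmul, map_add, map_add, ha, hb, map_add,
      TensorProduct.add_tmul, map_add]

variable {B} (hB : SGA3.IsHopfSubalgebra k A B)

include hB in
lemma comul_mem_range (b : B) :
    ((Bialgebra.comulAlgHom k A).comp B.val) b ∈ (jj B).range := by
  obtain ⟨z, hz⟩ := hB.1 b.1 b.2
  exact ⟨z, hz⟩

/-- the comultiplication of a sub-Hopf-algebra -/
noncomputable def comulB : B →ₐ[k] B ⊗[k] B :=
  (AlgEquiv.ofInjective (jj B) (jj_injective B)).symm.toAlgHom.comp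
    (((Bialgebra.comulAlgHom k A).comp B.val).codRestrict (jj B).range (comul_mem_range hB))

lemma jj_comulB (b : B) : jj B (comulB hB b) = CoalgebraStruct.comul (R := k) (b : A) := by
  have h := (AlgEquiv.ofInjective (jj B) (jj_injective B)).apply_symm_apply
    ((((Bialgebra.comulAlgHom k A).comp B.val).codRestrict (jj B).range (comul_mem_range hB)) b)
  exact congrArg Subtype.val h

/-- the bialgebra structure of a sub-Hopf-algebra -/
@[reducible] noncomputable def bialgebraB : Bialgebra k B :=
  Bialgebra.ofAlgHom (comulB hB) ((Bialgebra.counitAlgHom k A).comp B.val)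
    (by
      apply AlgHom.ext
      intro b
      apply jjj_injective B
      have h1 : ∀ z : B ⊗[k] B, jjj B (Algebra.TensorProduct.assoc k k k B B B
          (Algebra.TensorProduct.map (comulB hB) (AlgHom.id k B) z)) =
          Algebra.TensorProduct.assoc k k k A A A
            (Algebra.TensorProduct.map (Bialgebra.comulAlgHom k A) (AlgHom.id k A) (jj B z)) := by
        intro z
        induction z using TensorProduct.induction_on with
        | zero => simp
        | tmul x y =>
          rw [Algebra.TensorProduct.map_tmul, jj_tmul, Algebra.TensorProduct.map_tmul]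
          change jjj B (Algebra.TensorProduct.assoc k k k B B B (comulB hB x ⊗ₜ y)) = _
          rw [jjj_assoc, jj_comulB]
          rfl
        | add x y hx hy => simp only [map_add, hx, hy]
      have h2 : ∀ z : B ⊗[k] B, jjj B
          (Algebra.TensorProduct.map (AlgHom.id k B) (comulB hB) z) =
            (Algebra.TensorProduct.map (AlgHom.id k A) (Bialgebra.comulAlgHom k A) (jj B z)) := by
        intro z
        induction z using TensorProduct.induction_on with
        | zero => simp
        | tmul x y =>
          rw [Algebra.TensorProduct.map_tmul, jj_tmul, Algebra.TensorProduct.map_tmul]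
          change (x : A) ⊗ₜ[k] (jj B (comulB hB y)) = _
          rw [jj_comulB]
          rfl
        | add x y hx hy => simp only [map_add, hx, hy]
      refine (h1 (comulB hB b)).trans (Eq.trans ?_ (h2 (comulB hB b)).symm)
      rw [jj_comulB]
      exact LinearMap.congr_fun (Coalgebra.coassoc (R := k) (A := A)) (b : A))
    (by
      apply AlgHom.ext
      intro b
      have hinj : Function.Injective (TensorProduct.map (LinearMap.id : k →ₗ[k] k)
          B.val.toLinearMap) :=
        map_val_injective' _ _ Function.injective_id Subtype.val_injective
      apply hinj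
      have h1 : ∀ z : B ⊗[k] B, TensorProduct.map (LinearMap.id : k →ₗ[k] k)
          B.val.toLinearMap (Algebra.TensorProduct.map ((Bialgebra.counitAlgHom k A).comp B.val)
            (AlgHom.id k B) z) =
          Algebra.TensorProduct.map (Bialgebra.counitAlgHom k A) (AlgHom.id k A) (jj B z) := by
        intro z
        induction z using TensorProduct.induction_on with
        | zero => simp
        | tmul x y => rfl
        | add x y hx hy => simp only [map_add, hx, hy]
      refine (h1 (comulB hB b)).trans ?_
      rw [jj_comulB]
      exact LinearMap.congr_fun (Coalgebra.rTensor_counit_comp_comul (R := k) (A := A)) (b : A))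
    (by
      apply AlgHom.ext
      intro b
      have hinj : Function.Injective (TensorProduct.map 
          B.val.toLinearMap (LinearMap.id : k →ₗ[k] k)) :=
        map_val_injective' _ _ Subtype.val_injective Function.injective_id 
      apply hinj
      have h1 : ∀ z : B ⊗[k] B, TensorProduct.map 
          B.val.toLinearMap (LinearMap.id : k →ₗ[k] k) (Algebra.TensorProduct.map (AlgHom.id k B)
            ((Bialgebra.counitAlgHom k A).comp B.val) z) =
          Algebra.TensorProduct.map (AlgHom.id k A) (Bialgebra.counitAlgHom k A) (jj B z) := by
        intro z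
        induction z using TensorProduct.induction_on with
        | zero => simp
        | tmul x y => rfl
        | add x y hx hy => simp only [map_add, hx, hy]
      refine (h1 (comulB hB b)).trans ?_
      rw [jj_comulB]
      exact LinearMap.congr_fun (Coalgebra.lTensor_counit_comp_comul (R := k) (A := A)) (b : A))

lemma bialgebraB_comul (b : B) :
    jj B (@CoalgebraStruct.comul k B _ _ _ (bialgebraB hB).toCoalgebraStruct b) =
      CoalgebraStruct.comul (R := k) (b : A) := jj_comulB hB b

lemma bialgebraB_counit (b : B) :
    @CoalgebraStruct.counit k B _ _ _ (bialgebraB hB).toCoalgebraStruct b =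
      CoalgebraStruct.counit (R := k) (b : A) := rfl

/-- the antipode of a sub-Hopf-algebra -/
noncomputable def antipodeB : B →ₐ[k] B :=
  ((HopfAlgebra.antipodeAlgHom k A).comp B.val).codRestrict B (fun b => hB.2 b.1 b.2)

lemma antipodeB_coe (b : B) : (antipodeB hB b : A) =
    HopfAlgebraStruct.antipode (R := k) (b : A) := rfl

/-- the Hopf algebra structure of a sub-Hopf-algebra -/
@[reducible] noncomputable def hopfB : HopfAlgebra k B :=
  letI := bialgebraB hB
  HopfAlgebra.ofAlgHom (antipodeB hB)
    (by
      apply AlgHom.ext
      intro b
      apply Subtype.val_injective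
      have h1 : ∀ z : B ⊗[k] B, ((Algebra.TensorProduct.lift (antipodeB hB) (AlgHom.id k B)
          (fun _ => Commute.all _) z : B) : A) =
          LinearMap.mul' k A (LinearMap.rTensor A (HopfAlgebraStruct.antipode (R := k))
            (jj B z)) := by
        intro z
        induction z using TensorProduct.induction_on with
        | zero => simp
        | tmul x y => rfl
        | add x y hx hy => rw [map_add, map_add, map_add, map_add, ← hx, ← hy]; rfl
      refine (h1 (comulB hB b)).trans ?_
      rw [jj_comulB]
      exact HopfAlgebra.mul_antipode_rTensor_comul_apply (R := k) (b : A))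
    (by
      apply AlgHom.ext
      intro b
      apply Subtype.val_injective
      have h1 : ∀ z : B ⊗[k] B, ((Algebra.TensorProduct.lift (AlgHom.id k B) (antipodeB hB)
          (fun _ _ => Commute.all _ _) z : B) : A) =
          LinearMap.mul' k A (LinearMap.lTensor A (HopfAlgebraStruct.antipode (R := k))
            (jj B z)) := by
        intro z
        induction z using TensorProduct.induction_on with
        | zero => simp
        | tmul x y => rfl
        | add x y hx hy => rw [map_add, map_add, map_add, map_add, ← hx, ← hy]; rfl
      refine (h1 (comulB hB b)).trans ?_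
      rw [jj_comulB]
      exact HopfAlgebra.mul_antipode_lTensor_comul_apply (R := k) (b : A))

/-- the inclusion of a sub-Hopf-algebra as a bialgebra map -/
noncomputable def valB : letI := hopfB hB; B →ₐc[k] A :=
  letI := hopfB hB
  BialgHom.ofAlgHom B.val rfl (by
    apply AlgHom.ext
    intro b
    exact jj_comulB hB b)

lemma valB_apply (b : B) : letI := hopfB hB; valB hB b = (b : A) := rfl

end Sub

end Groth.Agent.Sga3C.SubHopf
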