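import Groth.Agent.Sga3C.DDLocal
import Groth.Agent.Fga.SecComp
import Groth.Agent.Desc.ModSec

/-!
# Zariski effectivity of descent data of modules
-/

set_option autoImplicit false
set_option backward.isDefEq.respectTransparency false
set_option backward.isDefEq.respectTransparency.types false

universe t u

open CategoryTheory CategoryTheory.Limits AlgebraicGeometry TopologicalSpace Opposite

namespace Groth.Agent.Sga3C.ZarEff

open Groth.Agent.VarietyB.PullSec Groth.Agent.Ega1 Groth.Agent.Ega1.SubSheaf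
  Groth.Agent.Fga.SecComp
open Groth.Agent.Sga3C.DDGlue
open CategoryTheory.Pseudofunctor CategoryTheory.Pseudofunctor.LocallyDiscreteOpToCat
open _root_.Desc

theorem modPF_cHom {X Y Z : Scheme.{u}} (f : Y ⟶ X) (g : Z ⟶ Y) (M : X.Modules) :
    cHom (F := modPF.{u}) f g (g ≫ f) rfl M = (Scheme.Modules.pullbackComp g f).inv.app M := by
  unfold cHom
  change (modPF.mapComp' f.op.toLoc g.op.toLoc (f.op.toLoc ≫ g.op.toLoc) rfl).hom.toNatTrans.app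
      M = _
  rw [Pseudofunctor.mapComp'_eq_mapComp]
  exact Desc.ModSec.modPF_mapComp f g M

theorem modPF_cInv {X Y Z : Scheme.{u}} (f : Y ⟶ X) (g : Z ⟶ Y) (M : X.Modules) :
    cInv (F := modPF.{u}) f g (g ≫ f) rfl M = (Scheme.Modules.pullbackComp g f).hom.app M := by
  have h1 := cInv_cHom (F := modPF.{u}) f g (g ≫ f) rfl M
  rw [modPF_cHom] at h1
  have h2 : (Scheme.Modules.pullbackComp g f).hom.app M ≫
    (Scheme.Modules.pullbackComp g f).inv.app M = 𝟙 _ := Iso.hom_inv_id_app _ _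
  have h3 : cInv (F := modPF.{u}) f g (g ≫ f) rfl M ≫
    (Scheme.Modules.pullbackComp g f).inv.app M ≫ (Scheme.Modules.pullbackComp g f).hom.app M =
    (Scheme.Modules.pullbackComp g f).hom.app M := by
    rw [← Category.assoc]
    exact (congrArg (fun k => k ≫ (Scheme.Modules.pullbackComp g f).hom.app M) h1).trans
      (Category.id_comp _)
  rw [Iso.inv_hom_id_app] at h3
  exact (Category.comp_id _).symm.trans h3

variable {S : Scheme.{u}} {κ : Type t} {U : κ → Scheme.{u}} {u : ∀ j, U j ⟶ S}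
  (D : modPF.{u}.DescentData u)

/-- the objects of a descent datum -/
abbrev ob (j : κ) : (U j).Modules := D.obj j

/-- the gluing morphisms of a descent datum -/
noncomputable def dh {T : Scheme.{u}} {j k : κ} (t : T ⟶ U j) (t' : T ⟶ U k)
    (h : t ≫ u j = t' ≫ u k) :
    (Scheme.Modules.pullback t).obj (ob D j) ⟶ (Scheme.Modules.pullback t').obj (ob D k) :=
  D.hom (t ≫ u j) t t' rfl h.symm

theorem dh_self {T : Scheme.{u}} {j : κ} (t : T ⟶ U j) : dh D t t rfl = 𝟙 _ :=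
  D.hom_self (t ≫ u j) t rfl

theorem dh_comp {T : Scheme.{u}} {j k l : κ} (t : T ⟶ U j) (t' : T ⟶ U k) (t'' : T ⟶ U l)
    (h : t ≫ u j = t' ≫ u k) (h' : t' ≫ u k = t'' ≫ u l) :
    dh D t t' h ≫ dh D t' t'' h' = dh D t t'' (h.trans h') := by
  have e : dh D t' t'' h' = D.hom (t ≫ u j) t' t'' h.symm (h.trans h').symm := by
    unfold dh
    congr 1
    exact h.symm
  rw [e]
  exact D.hom_comp (t ≫ u j) t t' t'' rfl h.symm (h.trans h').symm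

theorem dh_pull {T T' : Scheme.{u}} {j k : κ} (r : T' ⟶ T) (t : T ⟶ U j) (t' : T ⟶ U k)
    (h : t ≫ u j = t' ≫ u k) (h' : (r ≫ t) ≫ u j = (r ≫ t') ≫ u k) :
    dh D (r ≫ t) (r ≫ t') h' = (Scheme.Modules.pullbackComp r t).inv.app _ ≫
      (Scheme.Modules.pullback r).map (dh D t t' h) ≫
        (Scheme.Modules.pullbackComp r t').hom.app _ := by
  have h1 := (D.pullHom_hom r (t ≫ u j) ((r ≫ t) ≫ u j) (Category.assoc _ _ _).symm t t' rfl h.symm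
    (r ≫ t) (r ≫ t') rfl rfl).symm
  rw [← modPF_cHom, ← modPF_cInv]
  exact h1

theorem dh_pull_sec {T T' : Scheme.{u}} {j k : κ} (r : T' ⟶ T) (t : T ⟶ U j) (t' : T ⟶ U k)
    (h : t ≫ u j = t' ≫ u k) (h' : (r ≫ t) ≫ u j = (r ≫ t') ≫ u k)
    {A : (U j).Opens} {V : T.Opens} {W : T'.Opens} (e : V ≤ t ⁻¹ᵁ A) (hW : W ≤ r ⁻¹ᵁ V)
    (e' : W ≤ (r ≫ t) ⁻¹ᵁ A) (a : Γ(ob D j, A)) :
    (dh D (r ≫ t) (r ≫ t') h').app W (sec (r ≫ t) (ob D j) e' a) =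
      ((Scheme.Modules.pullbackComp r t').hom.app (ob D k)).app W
        (sec r _ hW ((dh D t t' h).app V (sec t (ob D j) e a))) := by
  rw [dh_pull D r t t' h h', ← map_sec r (dh D t t' h) hW, sec_comp_inv r t (ob D j) e hW e']
  rfl

/-- the relation on sections defined by a descent datum. -/
def Rel {T : Scheme.{u}} {j k : κ} (t : T ⟶ U j) (t' : T ⟶ U k) (V : T.Opens)
    {A : (U j).Opens} {B : (U k).Opens} (a : Γ(ob D j, A)) (b : Γ(ob D k, B)) : Prop :=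
  ∃ (h : t ≫ u j = t' ≫ u k) (e : V ≤ t ⁻¹ᵁ A) (e' : V ≤ t' ⁻¹ᵁ B),
    (dh D t t' h).app V (sec t (ob D j) e a) = sec t' (ob D k) e' b

variable {D}

theorem Rel.pull {T T' : Scheme.{u}} {j k : κ} {t : T ⟶ U j} {t' : T ⟶ U k} {V : T.Opens}
    {A : (U j).Opens} {B : (U k).Opens} {a : Γ(ob D j, A)} {b : Γ(ob D k, B)}
    (H : Rel D t t' V a b) (r : T' ⟶ T) {W : T'.Opens} (hW : W ≤ r ⁻¹ᵁ V) :
    Rel D (r ≫ t) (r ≫ t') W a b := by
  obtain ⟨h, e, e', H⟩ := H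
  have h' : (r ≫ t) ≫ u j = (r ≫ t') ≫ u k := by rw [Category.assoc, h, Category.assoc]
  have e1 : W ≤ (r ≫ t) ⁻¹ᵁ A := hW.trans (Scheme.Hom.preimage_mono r e)
  have e2 : W ≤ (r ≫ t') ⁻¹ᵁ B := hW.trans (Scheme.Hom.preimage_mono r e')
  refine ⟨h', e1, e2, ?_⟩
  rw [dh_pull_sec D r t t' h h' e hW e1, H, sec_comp r t' (ob D k) e' hW e2]

theorem Rel.of_pull {T T' : Scheme.{u}} {j k : κ} {t : T ⟶ U j} {t' : T ⟶ U k} {V : T.Opens}
    {A : (U j).Opens} {B : (U k).Opens} {a : Γ(ob D j, A)} {b : Γ(ob D k, B)}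
    (r : T' ⟶ T) [IsOpenImmersion r] {W : T'.Opens} (hW : W ≤ r ⁻¹ᵁ V) (hV : V ≤ r ''ᵁ W)
    (H : Rel D (r ≫ t) (r ≫ t') W a b) (h : t ≫ u j = t' ≫ u k) (e : V ≤ t ⁻¹ᵁ A)
    (e' : V ≤ t' ⁻¹ᵁ B) : Rel D t t' V a b := by
  obtain ⟨h', e1, e2, H⟩ := H
  refine ⟨h, e, e', ?_⟩
  rw [dh_pull_sec D r t t' h h' e hW e1, ← sec_comp r t' (ob D k) e' hW e2] at H
  have h1 : Function.Injective (((Scheme.Modules.pullbackComp r t').hom.app (ob D k)).app W) :=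
    (ConcreteCategory.bijective_of_isIso _).1
  exact (sec_bijective_of_isOpenImmersion r _ hW hV).1 (h1 H)

theorem Rel.trans {T : Scheme.{u}} {j k l : κ} {t : T ⟶ U j} {t' : T ⟶ U k} {t'' : T ⟶ U l}
    {V : T.Opens} {A : (U j).Opens} {B : (U k).Opens} {C : (U l).Opens} {a : Γ(ob D j, A)}
    {b : Γ(ob D k, B)} {c : Γ(ob D l, C)} (H : Rel D t t' V a b) (H' : Rel D t' t'' V b c) :
    Rel D t t'' V a c := by
  obtain ⟨h, e, e', H⟩ := H
  obtain ⟨h', e1, e1', H'⟩ := H'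
  refine ⟨h.trans h', e, e1', ?_⟩
  rw [← dh_comp D t t' t'' h h', ← H', ← H]
  rfl

theorem Rel.refl {T : Scheme.{u}} {j : κ} (t : T ⟶ U j) (V : T.Opens)
    {A : (U j).Opens} (a : Γ(ob D j, A)) (e : V ≤ t ⁻¹ᵁ A) : Rel D t t V a a := by
  refine ⟨rfl, e, e, ?_⟩
  rw [dh_self]
  rfl

theorem Rel.symm {T : Scheme.{u}} {j k : κ} {t : T ⟶ U j} {t' : T ⟶ U k} {V : T.Opens}
    {A : (U j).Opens} {B : (U k).Opens} {a : Γ(ob D j, A)} {b : Γ(ob D k, B)}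
    (H : Rel D t t' V a b) : Rel D t' t V b a := by
  obtain ⟨h, e, e', H⟩ := H
  refine ⟨h.symm, e', e, ?_⟩
  rw [← H]
  have h1 := congrArg (fun φ : (Scheme.Modules.pullback t).obj (ob D j) ⟶
    (Scheme.Modules.pullback t).obj (ob D j) => φ.app V (sec t (ob D j) e a))
    (dh_comp D t t' t h h.symm)
  rw [dh_self] at h1
  exact h1

/-- uniqueness of related sections, on an open immersion covering the open set. -/
theorem Rel.unique {T : Scheme.{u}} {j k : κ} {t : T ⟶ U j} {t' : T ⟶ U k} [IsOpenImmersion t']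
    {V : T.Opens}
    {A : (U j).Opens} {B : (U k).Opens} {a : Γ(ob D j, A)} {b b' : Γ(ob D k, B)}
    (H : Rel D t t' V a b) (H' : Rel D t t' V a b') (hB : B ≤ t' ''ᵁ V) : b = b' := by
  obtain ⟨h, e, e', H⟩ := H
  obtain ⟨_, _, _, H'⟩ := H'
  exact (sec_bijective_of_isOpenImmersion t' (ob D k) e' hB).1 (H.symm.trans H')

theorem Rel.exists {T : Scheme.{u}} {j k : κ} {t : T ⟶ U j} {t' : T ⟶ U k} [IsOpenImmersion t']
    {V : T.Opens} {A : (U j).Opens} {B : (U k).Opens} (a : Γ(ob D j, A))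
    (h : t ≫ u j = t' ≫ u k) (e : V ≤ t ⁻¹ᵁ A) (e' : V ≤ t' ⁻¹ᵁ B)
    (hB : B ≤ t' ''ᵁ V) : ∃ b : Γ(ob D k, B), Rel D t t' V a b := by
  obtain ⟨b, hb⟩ := (sec_bijective_of_isOpenImmersion t' (ob D k) e' hB).2
    ((dh D t t' h).app V (sec t (ob D j) e a))
  exact ⟨b, h, e, e', hb.symm⟩

theorem Rel.add {T : Scheme.{u}} {j k : κ} {t : T ⟶ U j} {t' : T ⟶ U k} {V : T.Opens}
    {A : (U j).Opens} {B : (U k).Opens} {a a' : Γ(ob D j, A)} {b b' : Γ(ob D k, B)}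
    (H : Rel D t t' V a b) (H' : Rel D t t' V a' b') : Rel D t t' V (a + a') (b + b') := by
  obtain ⟨h, e, e', H⟩ := H
  obtain ⟨_, _, _, H'⟩ := H'
  refine ⟨h, e, e', ?_⟩
  rw [map_add, map_add, map_add, H, H']

theorem Rel.zero {T : Scheme.{u}} {j k : κ} (t : T ⟶ U j) (t' : T ⟶ U k) (V : T.Opens)
    (A : (U j).Opens) (B : (U k).Opens) (h : t ≫ u j = t' ≫ u k) (e : V ≤ t ⁻¹ᵁ A)
    (e' : V ≤ t' ⁻¹ᵁ B) : Rel D t t' V (0 : Γ(ob D j, A)) (0 : Γ(ob D k, B)) := by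
  refine ⟨h, e, e', ?_⟩
  rw [map_zero, map_zero, map_zero]

theorem Rel.smul {T : Scheme.{u}} {j k : κ} {t : T ⟶ U j} {t' : T ⟶ U k} {V : T.Opens}
    {O : S.Opens} {a : Γ(ob D j, (u j) ⁻¹ᵁ O)} {b : Γ(ob D k, (u k) ⁻¹ᵁ O)}
    (H : Rel D t t' V a b) (c : Γ(S, O)) :
    Rel D t t' V ((u j).app O c • a) ((u k).app O c • b) := by
  obtain ⟨h, e, e', H⟩ := H
  refine ⟨h, e, e', ?_⟩
  rw [sec_smul, sec_smul, Scheme.Modules.Hom.app_smul, H]
  congr 1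
  have key : ∀ (q : T ⟶ S) (hq : q = t ≫ u j) (hq' : q = t' ≫ u k),
      t.appLE ((u j) ⁻¹ᵁ O) V e ((u j).app O c) = t'.appLE ((u k) ⁻¹ᵁ O) V e' ((u k).app O c) := by
    intro q hq hq'
    have h1 : t.appLE ((u j) ⁻¹ᵁ O) V e ((u j).app O c) =
        q.appLE O V (by rw [hq]; exact e) c := by
      subst hq
      exact (congr($(Scheme.Hom.comp_appLE t (u j) O V e) c)).symm
    have h2 : t'.appLE ((u k) ⁻¹ᵁ O) V e' ((u k).app O c) =
        q.appLE O V (by rw [hq']; exact e') c := by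
      clear h1
      subst hq'
      exact (congr($(Scheme.Hom.comp_appLE t' (u k) O V e') c)).symm
    rw [h1, h2]
  exact key _ rfl h

theorem res_sec' {X Y : Scheme.{u}} (g : Y ⟶ X) (M : X.Modules) {A : X.Opens} {V V' : Y.Opens}
    (e : V ≤ g ⁻¹ᵁ A) (hV : V' ≤ V) (s : Γ(M, A)) :
    res _ hV (sec g M e s) = sec g M (hV.trans e) s := by
  rw [res_sec g M e (hV.trans e) le_rfl hV, res_self]

theorem sec_res_eq {X Y : Scheme.{u}} (g : Y ⟶ X) (M : X.Modules) {A A' : X.Opens} {V : Y.Opens}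
    (e : V ≤ g ⁻¹ᵁ A) (e' : V ≤ g ⁻¹ᵁ A') (hA : A' ≤ A) (s : Γ(M, A)) :
    sec g M e' (res M hA s) = sec g M e s := by
  rw [← res_sec g M e e' hA le_rfl, res_self]

theorem Rel.mono {T : Scheme.{u}} {j k : κ} {t : T ⟶ U j} {t' : T ⟶ U k} {V V' : T.Opens}
    {A : (U j).Opens} {B : (U k).Opens} {a : Γ(ob D j, A)} {b : Γ(ob D k, B)}
    (H : Rel D t t' V a b) (hV : V' ≤ V) : Rel D t t' V' a b := by
  obtain ⟨h, e, e', H⟩ := H
  refine ⟨h, hV.trans e, hV.trans e', ?_⟩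
  rw [← res_sec' t (ob D j) e hV, app_res, H, res_sec']

theorem Rel.res {T : Scheme.{u}} {j k : κ} {t : T ⟶ U j} {t' : T ⟶ U k} {V : T.Opens}
    {A A' : (U j).Opens} {B B' : (U k).Opens} {a : Γ(ob D j, A)} {b : Γ(ob D k, B)}
    (H : Rel D t t' V a b) (hA : A' ≤ A) (hB : B' ≤ B) (e : V ≤ t ⁻¹ᵁ A') (e' : V ≤ t' ⁻¹ᵁ B') :
    Rel D t t' V (SubSheaf.res _ hA a) (SubSheaf.res _ hB b) := by
  obtain ⟨h, e1, e2, H⟩ := H
  refine ⟨h, e, e', ?_⟩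
  rw [sec_res_eq t _ e1 e hA, sec_res_eq t' _ e2 e' hB, H]

theorem Rel.of_res {T : Scheme.{u}} {j k : κ} {t : T ⟶ U j} {t' : T ⟶ U k} {V : T.Opens}
    {A A' : (U j).Opens} {B B' : (U k).Opens} {a : Γ(ob D j, A)} {b : Γ(ob D k, B)}
    (hA : A' ≤ A) (hB : B' ≤ B)
    (H : Rel D t t' V (SubSheaf.res _ hA a) (SubSheaf.res _ hB b)) : Rel D t t' V a b := by
  obtain ⟨h, e1, e2, H⟩ := H
  have e : V ≤ t ⁻¹ᵁ A := e1.trans (Scheme.Hom.preimage_mono t hA)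
  have e' : V ≤ t' ⁻¹ᵁ B := e2.trans (Scheme.Hom.preimage_mono t' hB)
  refine ⟨h, e, e', ?_⟩
  rw [sec_res_eq t _ e e1 hA, sec_res_eq t' _ e' e2 hB] at H
  exact H

theorem Rel.of_local {T : Scheme.{u}} {j k : κ} {t : T ⟶ U j} {t' : T ⟶ U k} {V : T.Opens}
    {A : (U j).Opens} {B : (U k).Opens} {a : Γ(ob D j, A)} {b : Γ(ob D k, B)}
    (h : t ≫ u j = t' ≫ u k) (e : V ≤ t ⁻¹ᵁ A) (e' : V ≤ t' ⁻¹ᵁ B)
    (H : ∀ x ∈ V, ∃ V' : T.Opens, V' ≤ V ∧ x ∈ V' ∧ Rel D t t' V' a b) : Rel D t t' V a b := by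
  refine ⟨h, e, e', section_ext _ _ _ ?_⟩
  intro x hx
  obtain ⟨V', hV', hxV', _, e1, e1', H'⟩ := H x hx
  refine ⟨V', hV', hxV', ?_⟩
  rw [← app_res, res_sec', res_sec', H']

end Groth.Agent.Sga3C.ZarEff
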