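import Groth.Agent.Sga3C.ZarEff

/-!
# Zariski effectivity of descent data of modules, II: the glued module
-/

set_option autoImplicit false
set_option backward.isDefEq.respectTransparency false
set_option backward.isDefEq.respectTransparency.types false

universe t u

open CategoryTheory CategoryTheory.Limits AlgebraicGeometry TopologicalSpace Opposite

namespace Groth.Agent.Sga3C.ZarEff

open Groth.Agent.VarietyB.PullSec Groth.Agent.Ega1 Groth.Agent.Ega1.SubSheaf
  Groth.Agent.Fga.SecComp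
open Groth.Agent.Sga3C.DDGlue
open CategoryTheory.Pseudofunctor CategoryTheory.Pseudofunctor.LocallyDiscreteOpToCat
open _root_.Desc

/-- sections over `O`, as a functor to types. -/
noncomputable abbrev sectType {S : Scheme.{u}} (O : S.Opens) : S.Modules ⥤ Type u :=
  Scheme.Modules.toPresheaf S ⋙ (evaluation _ _).obj (op O) ⋙ forget Ab.{u}

instance sectType_preservesLimits {S : Scheme.{u}} (O : S.Opens) :
    PreservesLimitsOfSize.{u, u} (sectType O) := by
  have h1 : PreservesLimitsOfSize.{u, u} (forget AddCommGrpCat.{u}) := inferInstance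
  have h3 : PreservesLimitsOfSize.{u, u} (Scheme.Modules.toPresheaf S) :=
    inferInstance
  have h2 : PreservesLimitsOfSize.{u, u} ((evaluation (S.Opens)ᵒᵖ AddCommGrpCat.{u}).obj (op O)) :=
    ⟨fun {J} _ ↦ inferInstance⟩
  infer_instance

/-- Sections of a product of modules. -/
theorem prod_sect_bijective {S : Scheme.{u}} {ι : Type u} (G : ι → S.Modules) (O : S.Opens) :
    Function.Bijective (fun (s : Γ(∏ᶜ G, O)) (i : ι) ↦
      ((Pi.π G i).app O s : Γ(G i, O))) := by
  have hl := isLimitOfPreserves (sectType O) (limit.isLimit (Discrete.functor G))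
  have hb := (Types.isLimit_iff_bijective_sectionOfCone _).mp ⟨hl⟩
  constructor
  · intro s t h
    apply hb.1
    ext ⟨i⟩
    exact congrFun h i
  · intro t
    obtain ⟨s, hs⟩ := hb.2 ⟨fun j ↦ t j.as, by
      rintro ⟨i⟩ ⟨j⟩ ⟨⟨h⟩⟩
      dsimp at h
      subst h
      simp⟩
    refine ⟨s, ?_⟩
    ext i
    exact congrFun (congrArg Subtype.val hs) ⟨i⟩

variable {S : Scheme.{u}} {κ : Type u} {U : κ → Scheme.{u}} {u : ∀ j, U j ⟶ S}
  (D : modPF.{u}.DescentData u)

/-- pushforwards of the members of a descent datum -/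
noncomputable def pf (j : κ) : S.Modules := (Scheme.Modules.pushforward (u j)).obj (ob D j)

/-- component of a section of the product of the pushforwards. -/
noncomputable def cmp (j : κ) {O : S.Opens} (s : Γ(∏ᶜ (pf D), O)) : Γ(ob D j, (u j) ⁻¹ᵁ O) :=
  (Pi.π (pf D) j).app O s

theorem cmp_add (j : κ) {O : S.Opens} (s s' : Γ(∏ᶜ (pf D), O)) :
    cmp D j (s + s') = cmp D j s + cmp D j s' := map_add ((Pi.π (pf D) j).app O).hom s s'

theorem cmp_zero (j : κ) {O : S.Opens} :
    cmp D j (0 : Γ(∏ᶜ (pf D), O)) = 0 := map_zero ((Pi.π (pf D) j).app O).hom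

theorem cmp_smul (j : κ) {O : S.Opens} (c : Γ(S, O)) (s : Γ(∏ᶜ (pf D), O)) :
    cmp D j (c • s) = (u j).app O c • cmp D j s :=
  Scheme.Modules.Hom.app_smul (Pi.π (pf D) j) c s

theorem cmp_res (j : κ) {O O' : S.Opens} (h : O' ≤ O) (s : Γ(∏ᶜ (pf D), O)) :
    cmp D j (res _ h s) = res _ (Scheme.Hom.preimage_mono (u j) h) (cmp D j s) :=
  app_res (Pi.π (pf D) j) h s

theorem cmp_bijective (O : S.Opens) :
    Function.Bijective (fun (s : Γ(∏ᶜ (pf D), O)) (j : κ) => cmp D j s) :=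
  prod_sect_bijective (pf D) O

/-- compatible sections. -/
def Compat {O : S.Opens} (s : Γ(∏ᶜ (pf D), O)) : Prop :=
  ∀ ⦃T : Scheme.{u}⦄ ⦃j k : κ⦄ (t : T ⟶ U j) (t' : T ⟶ U k) (V : T.Opens)
    (_ : t ≫ u j = t' ≫ u k) (_ : V ≤ t ⁻¹ᵁ (u j) ⁻¹ᵁ O) (_ : V ≤ t' ⁻¹ᵁ (u k) ⁻¹ᵁ O),
    Rel D t t' V (cmp D j s) (cmp D k s)

/-- The glued module, as a submodule of the product of the pushforwards. -/
noncomputable def sub : Sub (∏ᶜ (pf D)) where
  obj O :=
    { carrier := {s | Compat D s}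
      add_mem' := by
        intro s s' hs hs' T j k t t' V h e e'
        rw [cmp_add, cmp_add]
        exact (hs t t' V h e e').add (hs' t t' V h e e')
      zero_mem' := by
        intro T j k t t' V h e e'
        rw [cmp_zero, cmp_zero]
        exact Rel.zero t t' V _ _ h e e'
      smul_mem' := by
        intro c s hs T j k t t' V h e e'
        rw [cmp_smul, cmp_smul]
        exact (hs t t' V h e e').smul c }
  map_mem := by
    intro O O' h s hs T j k t t' V ht e e'
    rw [cmp_res, cmp_res]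
    have e1 : V ≤ t ⁻¹ᵁ (u j) ⁻¹ᵁ O :=
      e.trans (Scheme.Hom.preimage_mono t (Scheme.Hom.preimage_mono (u j) h))
    have e2 : V ≤ t' ⁻¹ᵁ (u k) ⁻¹ᵁ O :=
      e'.trans (Scheme.Hom.preimage_mono t' (Scheme.Hom.preimage_mono (u k) h))
    exact (hs t t' V ht e1 e2).res _ _ e e'
  local_mem := by
    intro O s hs T j k t t' V ht e e'
    refine Rel.of_local ht e e' ?_
    intro x hx
    have hx' : (u j) (t x) ∈ O := e hx
    obtain ⟨O', hO', hxO', hs'⟩ := hs _ hx'
    have hle : t' ⁻¹ᵁ (u k) ⁻¹ᵁ O' = t ⁻¹ᵁ (u j) ⁻¹ᵁ O' := by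
      rw [← Scheme.Hom.comp_preimage, ← Scheme.Hom.comp_preimage, ht]
    refine ⟨V ⊓ t ⁻¹ᵁ (u j) ⁻¹ᵁ O', inf_le_left, ⟨hx, hxO'⟩, ?_⟩
    have H := hs' t t' (V ⊓ t ⁻¹ᵁ (u j) ⁻¹ᵁ O') ht inf_le_right
      (by rw [hle]; exact inf_le_right)
    rw [cmp_res, cmp_res] at H
    exact H.of_res _ _

/-- the glued module -/
noncomputable def glued : S.Modules := (sub D).toModules

end Groth.Agent.Sga3C.ZarEff
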