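import Groth.Agent.Sga3C.ZarEff2

/-!
# Zariski effectivity of descent data of modules, III
-/

set_option autoImplicit false
set_option backward.isDefEq.respectTransparency false
set_option backward.isDefEq.respectTransparency.types false

universe t u

open CategoryTheory CategoryTheory.Limits AlgebraicGeometry TopologicalSpace Opposite

namespace Groth.Agent.Sga3C.ZarEff

open Groth.Agent.VarietyB.PullSec Groth.Agent.Ega1 Groth.Agent.Ega1.SubSheaf
  Groth.Agent.Fga.SecComp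
open Groth.Agent.Sga3C.DDGlue
open CategoryTheory.Pseudofunctor CategoryTheory.Pseudofunctor.LocallyDiscreteOpToCat
open _root_.Desc

/-- formula for the morphism `g^* M ⟶ N` adjoint to `M ⟶ g_* N` on sections. -/
theorem homEquiv_symm_sec {X Y : Scheme.{u}} (g : Y ⟶ X) {M : X.Modules} {N : Y.Modules}
    (φ : M ⟶ (Scheme.Modules.pushforward g).obj N) {O : X.Opens} {V : Y.Opens}
    (e : V ≤ g ⁻¹ᵁ O) (s : Γ(M, O)) :
    (((Scheme.Modules.pullbackPushforwardAdjunction g).homEquiv M N).symm φ).app V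
      (sec g M e s) = res N e (φ.app O s : Γ(N, g ⁻¹ᵁ O)) := by
  obtain ⟨ψ, rfl⟩ := ((Scheme.Modules.pullbackPushforwardAdjunction g).homEquiv M N).surjective φ
  rw [Equiv.symm_apply_apply, Adjunction.homEquiv_unit, sec_eq, app_res]
  rfl

/-- morphisms out of a pullback are determined by their values on pulled back sections. -/
theorem hom_ext_sec {X Y : Scheme.{u}} (g : Y ⟶ X) {M : X.Modules} {N : Y.Modules}
    (φ ψ : (Scheme.Modules.pullback g).obj M ⟶ N)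
    (h : ∀ (O : X.Opens) (s : Γ(M, O)), φ.app (g ⁻¹ᵁ O) (sec g M le_rfl s) =
      ψ.app (g ⁻¹ᵁ O) (sec g M le_rfl s)) : φ = ψ := by
  apply ((Scheme.Modules.pullbackPushforwardAdjunction g).homEquiv M N).injective
  apply Scheme.Modules.hom_ext
  intro O
  ext s
  have h1 := homEquiv_symm_sec g ((Scheme.Modules.pullbackPushforwardAdjunction g).homEquiv M N φ)
    (le_refl (g ⁻¹ᵁ O)) s
  have h2 := homEquiv_symm_sec g ((Scheme.Modules.pullbackPushforwardAdjunction g).homEquiv M N ψ)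
    (le_refl (g ⁻¹ᵁ O)) s
  rw [Equiv.symm_apply_apply, res_self] at h1 h2
  exact h1.symm.trans ((h O s).trans h2)

variable {S : Scheme.{u}} {κ : Type u} {U : κ → Scheme.{u}} {u : ∀ j, U j ⟶ S}
  (D : modPF.{u}.DescentData u)

/-- the projection `M ⟶ (u k)_* D_k` -/
noncomputable def th (k : κ) : glued D ⟶ (Scheme.Modules.pushforward (u k)).obj (ob D k) :=
  (sub D).ι ≫ Pi.π (pf D) k

/-- the comparison `(u k)^* M ⟶ D_k` -/
noncomputable def psi (k : κ) : (Scheme.Modules.pullback (u k)).obj (glued D) ⟶ ob D k :=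
  ((Scheme.Modules.pullbackPushforwardAdjunction (u k)).homEquiv _ _).symm (th D k)

/-- components of sections of the glued module -/
noncomputable def gc (k : κ) {O : S.Opens} (s : Γ(glued D, O)) : Γ(ob D k, (u k) ⁻¹ᵁ O) :=
  cmp D k ((sub D).ι.app O s)

theorem gc_compat {O : S.Opens} (s : Γ(glued D, O)) : Compat D ((sub D).ι.app O s) :=
  (sub D).ι_app_mem s

theorem psi_sec (k : κ) {O : S.Opens} {V : (U k).Opens} (e : V ≤ (u k) ⁻¹ᵁ O)
    (s : Γ(glued D, O)) :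
    (psi D k).app V (sec (u k) (glued D) e s) = res _ e (gc D k s) :=
  homEquiv_symm_sec (u k) (th D k) e s

theorem gc_ext {O : S.Opens} (s s' : Γ(glued D, O)) (h : ∀ j, gc D j s = gc D j s') : s = s' := by
  apply (sub D).ι_app_injective O
  apply (cmp_bijective D O).1
  funext j
  exact h j

theorem gc_exists {O : S.Opens} (a : ∀ j, Γ(ob D j, (u j) ⁻¹ᵁ O))
    (ha : ∀ ⦃T : Scheme.{u}⦄ ⦃j k : κ⦄ (t : T ⟶ U j) (t' : T ⟶ U k) (V : T.Opens)
    (_ : t ≫ u j = t' ≫ u k) (_ : V ≤ t ⁻¹ᵁ (u j) ⁻¹ᵁ O) (_ : V ≤ t' ⁻¹ᵁ (u k) ⁻¹ᵁ O),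
    Rel D t t' V (a j) (a k)) : ∃ s : Γ(glued D, O), ∀ j, gc D j s = a j := by
  obtain ⟨s, hs⟩ := (cmp_bijective D O).2 a
  have hs' : ∀ j, cmp D j s = a j := fun j => congrFun hs j
  have hc : Compat D s := by
    intro T j k t t' V h e e'
    rw [hs', hs']
    exact ha t t' V h e e'
  exact ⟨(sub D).sec s hc, fun j => (congrArg (cmp D j) ((sub D).ι_app_sec s hc)).trans (hs' j)⟩

section bij

variable [∀ j, IsOpenImmersion (u j)]

theorem exists_lift_aux {T : Scheme.{u}} (k : κ) {O : S.Opens} (hO : O ≤ (u k).opensRange)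
    (q : T ⟶ S) (hq : (⊤ : T.Opens) ≤ q ⁻¹ᵁ O) : ∃ l : T ⟶ U k, l ≫ u k = q := by
  refine ⟨IsOpenImmersion.lift (u k) q ?_, IsOpenImmersion.lift_fac _ _ _⟩
  rintro _ ⟨x, rfl⟩
  exact hO (hq (show x ∈ (⊤ : T.Opens) from trivial))

theorem exists_section_aux (k : κ) {O : S.Opens} (hO : O ≤ (u k).opensRange)
    (a : Γ(ob D k, (u k) ⁻¹ᵁ O)) (j : κ) :
    ∃ b : Γ(ob D j, (u j) ⁻¹ᵁ O), ∀ ⦃T : Scheme.{u}⦄ (t₃ : T ⟶ U k) (t : T ⟶ U j),
      t₃ ≫ u k = t ≫ u j → (⊤ : T.Opens) ≤ t ⁻¹ᵁ (u j) ⁻¹ᵁ O → Rel D t₃ t ⊤ a b := by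
  let tj : (((u j) ⁻¹ᵁ O : (U j).Opens) : Scheme.{u}) ⟶ U j := ((u j) ⁻¹ᵁ O).ι
  have htj : (⊤ : (((u j) ⁻¹ᵁ O : (U j).Opens) : Scheme.{u}).Opens) ≤ tj ⁻¹ᵁ (u j) ⁻¹ᵁ O :=
    fun x _ => x.2
  obtain ⟨l, hl⟩ := exists_lift_aux k hO (tj ≫ u j) htj
  have hl' : (⊤ : (((u j) ⁻¹ᵁ O : (U j).Opens) : Scheme.{u}).Opens) ≤ l ⁻¹ᵁ (u k) ⁻¹ᵁ O := by
    rw [← Scheme.Hom.comp_preimage, hl]
    exact htj
  obtain ⟨b, hb⟩ := Rel.exists (D := D) (t := l) (t' := tj) (V := ⊤) (B := (u j) ⁻¹ᵁ O) a hl hl' htj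
    (by rw [Scheme.Opens.ι_image_top])
  refine ⟨b, fun T t₃ t h e => ?_⟩
  obtain ⟨r, hr⟩ : ∃ r : T ⟶ (((u j) ⁻¹ᵁ O : (U j).Opens) : Scheme.{u}), r ≫ tj = t := by
    refine ⟨IsOpenImmersion.lift tj t ?_, IsOpenImmersion.lift_fac _ _ _⟩
    rintro _ ⟨x, rfl⟩
    rw [Scheme.Opens.range_ι]
    exact e (show x ∈ (⊤ : T.Opens) from trivial)
  have hr3 : r ≫ l = t₃ := by
    rw [← cancel_mono (u k), Category.assoc, hl, h, ← hr, Category.assoc]
  have := hb.pull r (W := ⊤) le_top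
  rw [hr, hr3] at this
  exact this

omit [∀ j, IsOpenImmersion (u j)] in
theorem rel_gc {O : S.Opens} (s : Γ(glued D, O)) ⦃T : Scheme.{u}⦄ ⦃j k : κ⦄ (t : T ⟶ U j)
    (t' : T ⟶ U k) (V : T.Opens) (h : t ≫ u j = t' ≫ u k) (e : V ≤ t ⁻¹ᵁ (u j) ⁻¹ᵁ O) :
    Rel D t t' V (gc D j s) (gc D k s) :=
  gc_compat D s t t' V h e (by
    rw [← Scheme.Hom.comp_preimage, ← h, Scheme.Hom.comp_preimage]
    exact e)

theorem gc_bijective (k : κ) {O : S.Opens} (hO : O ≤ (u k).opensRange) :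
    Function.Bijective (fun s : Γ(glued D, O) => gc D k s) := by
  constructor
  · intro s s' hss
    apply gc_ext
    intro j
    let tj : (((u j) ⁻¹ᵁ O : (U j).Opens) : Scheme.{u}) ⟶ U j := ((u j) ⁻¹ᵁ O).ι
    have htj : (⊤ : (((u j) ⁻¹ᵁ O : (U j).Opens) : Scheme.{u}).Opens) ≤ tj ⁻¹ᵁ (u j) ⁻¹ᵁ O :=
      fun x _ => x.2
    obtain ⟨l, hl⟩ := exists_lift_aux k hO (tj ≫ u j) htj
    have hl' : (⊤ : (((u j) ⁻¹ᵁ O : (U j).Opens) : Scheme.{u}).Opens) ≤ l ⁻¹ᵁ (u k) ⁻¹ᵁ O := by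
      rw [← Scheme.Hom.comp_preimage, hl]
      exact htj
    have h1 := rel_gc D s l tj ⊤ hl hl'
    have h2 := rel_gc D s' l tj ⊤ hl hl'
    dsimp only at hss
    rw [← hss] at h2
    exact h1.unique h2 (by rw [Scheme.Opens.ι_image_top])
  · intro a
    choose b hb using exists_section_aux D k hO a
    obtain ⟨s, hs⟩ := gc_exists D b (by
      intro T j k' t t' V h e e'
      have hVt : (⊤ : (V : Scheme.{u}).Opens) ≤ (V.ι ≫ t) ⁻¹ᵁ (u j) ⁻¹ᵁ O := fun x _ => e x.2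
      have hVt' : (⊤ : (V : Scheme.{u}).Opens) ≤ (V.ι ≫ t') ⁻¹ᵁ (u k') ⁻¹ᵁ O := fun x _ => e' x.2
      obtain ⟨t₃, ht₃⟩ := exists_lift_aux k hO ((V.ι ≫ t) ≫ u j) hVt
      have h1 := hb j t₃ (V.ι ≫ t) ht₃ hVt
      have h2 := hb k' t₃ (V.ι ≫ t') (by rw [ht₃, Category.assoc, h, Category.assoc]) hVt'
      exact Rel.of_pull V.ι (W := ⊤) (fun x _ => x.2) (by rw [Scheme.Opens.ι_image_top])
        (h1.symm.trans h2) h e e')
    refine ⟨s, ?_⟩
    dsimp only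
    rw [hs]
    let tk : (((u k) ⁻¹ᵁ O : (U k).Opens) : Scheme.{u}) ⟶ U k := ((u k) ⁻¹ᵁ O).ι
    have htk : (⊤ : (((u k) ⁻¹ᵁ O : (U k).Opens) : Scheme.{u}).Opens) ≤ tk ⁻¹ᵁ (u k) ⁻¹ᵁ O :=
      fun x _ => x.2
    exact (hb k tk tk rfl htk).unique (Rel.refl tk ⊤ a htk) (by rw [Scheme.Opens.ι_image_top])

theorem psi_app_bijective (k : κ) (V : (U k).Opens) :
    Function.Bijective ((psi D k).app V) := by
  have hV : (u k) ⁻¹ᵁ (u k) ''ᵁ V = V := Scheme.Hom.preimage_image_eq _ _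
  have e : V ≤ (u k) ⁻¹ᵁ (u k) ''ᵁ V := hV.ge
  have hO : (u k) ''ᵁ V ≤ (u k).opensRange := Scheme.Hom.image_le_opensRange _ _
  have h1 := sec_bijective_of_isOpenImmersion (u k) (glued D) e le_rfl
  have h2 : (fun s : Γ(glued D, (u k) ''ᵁ V) => (psi D k).app V (sec (u k) (glued D) e s)) =
      (fun s => res _ e (gc D k s)) := by
    funext s
    exact psi_sec D k e s
  have h3 : Function.Bijective (fun a : Γ(ob D k, (u k) ⁻¹ᵁ (u k) ''ᵁ V) => res _ e a) := by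
    constructor
    · intro a b hab
      have h4 := congrArg (res (ob D k) hV.le) hab
      dsimp only at h4
      rw [res_res, res_res, res_self, res_self] at h4
      exact h4
    · intro a
      refine ⟨res _ hV.le a, ?_⟩
      dsimp only
      rw [res_res, res_self]
  have h5 : Function.Bijective
      ((psi D k).app V ∘ sec (u k) (glued D) e) := by
    change Function.Bijective (fun s : Γ(glued D, (u k) ''ᵁ V) =>
      (psi D k).app V (sec (u k) (glued D) e s))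
    rw [h2]
    exact h3.comp (gc_bijective D k hO)
  exact (Function.Bijective.of_comp_iff _ h1).1 h5

instance isIso_psi (k : κ) : IsIso (psi D k) := by
  rw [Scheme.Modules.Hom.isIso_iff_isIso_app]
  intro V
  exact (ConcreteCategory.isIso_iff_bijective _).2 (psi_app_bijective D k V)

end bij

theorem cHom_sec {X Y Z : Scheme.{u}} (g : Y ⟶ X) (y : Z ⟶ Y) (q : Z ⟶ X) (h : y ≫ g = q)
    (M : X.Modules) {O : X.Opens} {V : Y.Opens} {W : Z.Opens} (e : W ≤ q ⁻¹ᵁ O)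
    (e' : V ≤ g ⁻¹ᵁ O) (e'' : W ≤ y ⁻¹ᵁ V) (s : Γ(M, O)) :
    Scheme.Modules.Hom.app (M := (Scheme.Modules.pullback q).obj M)
      (N := (Scheme.Modules.pullback y).obj ((Scheme.Modules.pullback g).obj M))
      (cHom (F := modPF.{u}) g y q h M) W (sec q M e s) = sec y _ e'' (sec g M e' s) := by
  subst h
  rw [modPF_cHom]
  exact (sec_comp_inv y g M e' e'' e s).symm

/-- the comparison as an isomorphism. -/
noncomputable def psiIso [∀ j, IsOpenImmersion (u j)] (k : κ) :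
    (Scheme.Modules.pullback (u k)).obj (glued D) ≅ ob D k := asIso (psi D k)

end Groth.Agent.Sga3C.ZarEff
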