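import Groth.Agent.Sga3C.ZarEff3
import Groth.Agent.Sga3C.DDIso

/-!
# Zariski effectivity of descent data of modules, III
-/

set_option autoImplicit false
set_option backward.isDefEq.respectTransparency false
set_option backward.isDefEq.respectTransparency.types false

universe t u

open CategoryTheory CategoryTheory.Limits AlgebraicGeometry TopologicalSpace Opposite

namespace Groth.Agent.Sga3C.ZarEff

open Groth.Agent.VarietyB.PullSec Groth.Agent.Ega1 Groth.Agent.Ega1.SubSheaf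
  Groth.Agent.Fga.SecComp
open Groth.Agent.Sga3C.DDGlue
open CategoryTheory.Pseudofunctor CategoryTheory.Pseudofunctor.LocallyDiscreteOpToCat
open _root_.Desc

variable {S : Scheme.{u}} {κ : Type u} {U : κ → Scheme.{u}} {u : ∀ j, U j ⟶ S}
  (D : modPF.{u}.DescentData u)


theorem comm_aux {Y : Scheme.{u}} {j k : κ} (y : Y ⟶ U j) (y' : Y ⟶ U k)
    (hy' : y' ≫ u k = y ≫ u j) :
    cHom (F := modPF.{u}) (u j) y (y ≫ u j) rfl (glued D) ≫
      (Scheme.Modules.pullback y).map (psi D j) ≫ dh D y y' hy'.symm =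
    cHom (F := modPF.{u}) (u k) y' (y ≫ u j) hy' (glued D) ≫
      (Scheme.Modules.pullback y').map (psi D k) := by
  refine hom_ext_sec (y ≫ u j) (M := glued D) (N := (Scheme.Modules.pullback y').obj (ob D k))
    _ _ ?_
  intro O s
  obtain ⟨h, e, e', H⟩ := rel_gc D s y y' ((y ≫ u j) ⁻¹ᵁ O) hy'.symm le_rfl
  have h1 := cHom_sec (u j) y (y ≫ u j) rfl (glued D) (le_refl ((y ≫ u j) ⁻¹ᵁ O))
    (le_refl ((u j) ⁻¹ᵁ O)) e s
  have h2 := cHom_sec (u k) y' (y ≫ u j) hy' (glued D) (le_refl ((y ≫ u j) ⁻¹ᵁ O))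
    (le_refl ((u k) ⁻¹ᵁ O)) e' s
  have h3 : ((Scheme.Modules.pullback y).map (psi D j)).app ((y ≫ u j) ⁻¹ᵁ O)
      (sec y _ e (sec (u j) (glued D) le_rfl s)) = sec y (ob D j) e (gc D j s) := by
    rw [map_sec, psi_sec, res_self]
  have h4 : ((Scheme.Modules.pullback y').map (psi D k)).app ((y ≫ u j) ⁻¹ᵁ O)
      (sec y' _ e' (sec (u k) (glued D) le_rfl s)) = sec y' (ob D k) e' (gc D k s) := by
    rw [map_sec, psi_sec, res_self]
  have h5 : (dh D y y' h).app ((y ≫ u j) ⁻¹ᵁ O)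
    (((Scheme.Modules.pullback y).map (psi D j)).app ((y ≫ u j) ⁻¹ᵁ O)
      (sec y _ e (sec (u j) (glued D) le_rfl s))) =
      ((Scheme.Modules.pullback y').map (psi D k)).app ((y ≫ u j) ⁻¹ᵁ O)
      (sec y' _ e' (sec (u k) (glued D) le_rfl s)) := by
    rw [h3, h4, H]
  rw [← h1, ← h2] at h5
  exact h5

/-- the comparison, as an isomorphism in the value of the pseudofunctor. -/
noncomputable def psiIso' [∀ j, IsOpenImmersion (u j)] (k : κ) :
    (modPF.{u}.map (u k).op.toLoc).toFunctor.obj (glued D) ≅ D.obj k := psiIso D k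

theorem comm_aux4 [∀ j, IsOpenImmersion (u j)] {Y : Scheme.{u}} {j k : κ} (y : Y ⟶ U j)
    (y' : Y ⟶ U k) (hy' : y' ≫ u k = y ≫ u j) :
    cHom (F := modPF.{u}) (u j) y (y ≫ u j) rfl (glued D) ≫
      (modPF.{u}.map y.op.toLoc).toFunctor.map (psiIso' D j).hom ≫
        D.hom (y ≫ u j) y y' rfl hy' =
    cHom (F := modPF.{u}) (u k) y' (y ≫ u j) hy' (glued D) ≫
      (modPF.{u}.map y'.op.toLoc).toFunctor.map (psiIso' D k).hom :=
  comm_aux D y y' hy'

/-- **Zariski effectivity**: the canonical descent datum of the glued module is `D`. -/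
theorem nonempty_iso_glued [∀ j, IsOpenImmersion (u j)] :
    Nonempty ((modPF.{u}.toDescentData u).obj (glued D) ≅ D) :=
  ⟨DDIso.isoMk (F := modPF.{u}) (glued D) D (psiIso' D) (by
    intro Y j k y y' hy'
    exact comm_aux4 D y y' hy')⟩

end Groth.Agent.Sga3C.ZarEff
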