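import Groth.Agent.Sga3C.ZarEff4
import Groth.Agent.Sga3C.DDEff
import Groth.Agent.Ega3B.QCohLocal

/-!
# Zariski effectivity for quasi-coherent modules
-/

set_option autoImplicit false
set_option backward.isDefEq.respectTransparency false
set_option backward.isDefEq.respectTransparency.types false

universe t u

open CategoryTheory CategoryTheory.Limits AlgebraicGeometry TopologicalSpace Opposite

namespace Groth.Agent.Sga3C.ZarQC

open Groth.Agent.Sga3C.DDEff Groth.Agent.Sga3C.ZarEff
open _root_.Desc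

theorem isQCoh_glued {S : Scheme.{u}} {κ : Type u} {U : κ → Scheme.{u}} {u : ∀ j, U j ⟶ S}
    [∀ j, IsOpenImmersion (u j)] (hs : ∀ x : S, ∃ (j : κ) (y : U j), u j y = x)
    (D : modPF.{u}.DescentData u) (hD : ∀ j, Coh.IsQCoh (X := U j) (D.obj j)) :
    Coh.IsQCoh (glued D) := by
  refine Ega3B.QCohLocal.isQuasicoherent_of_restrict (glued D) U u hs ?_
  intro j
  refine Ega3B.QCohLocal.isQuasicoherent_of_iso (M := ob D j)
    ((psiIso D j).symm ≪≫
      ((Scheme.Modules.restrictFunctorIsoPullback (u j)).app (glued D)).symm) (hD j)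

variable {J : GrothendieckTopology Scheme.{u}} (Q : SheafClass modPF.{u} J)
  (hQ : ∀ (X : Scheme.{u}) (M : X.Modules), Q.P X M ↔ Coh.IsQCoh M)

include hQ in
theorem effective_open {S : Scheme.{u}} {κ : Type u} {U : κ → Scheme.{u}} (u : ∀ j, U j ⟶ S)
    [∀ j, IsOpenImmersion (u j)] (hs : ∀ x : S, ∃ (j : κ) (y : U j), u j y = x) :
    Q.Effective u := by
  intro D hD
  exact ⟨glued D, (hQ _ _).2 (isQCoh_glued hs D (fun j => (hQ _ _).1 (hD j))),
    nonempty_iso_glued D⟩

end Groth.Agent.Sga3C.ZarQC
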